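import Groth.Agent.FlatMor.K263.EtaUniq
import Groth.Agent.Pi1A.LimIso
import Groth.Agent.S7382
import Groth.Agent.S9679

/-!
# Descending isomorphisms from the normalization to a finite modification of the base
-/

set_option autoImplicit false
universe u

open CategoryTheory AlgebraicGeometry Limits TopologicalSpace

namespace K263.IsoDescend

theorem isIntegral_of_dominant {X Y : Scheme.{u}} (g : Y ⟶ X) [IsSchemeTheoreticallyDominant g] [QuasiCompact g]
    [IsIntegral Y] : IsIntegral X := by
  have hred : IsReduced X := IsSchemeTheoreticallyDominant.isReduced g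
  have hd : closure (Set.range g) = Set.univ := (Scheme.Hom.denseRange g).closure_range
  have hi : IsIrreducible (Set.univ : Set X) := by
    rw [← hd, ← Set.image_univ]
    exact ((IrreducibleSpace.isIrreducible_univ Y).image g g.continuous.continuousOn).closure
  have hirr : IrreducibleSpace X := (irreducibleSpace_def _).mpr hi
  exact isIntegral_of_irreducibleSpace_of_isReduced _

theorem apply_genericPoint_of_dominant {X Y : Scheme.{u}} (g : Y ⟶ X) [IsSchemeTheoreticallyDominant g]
    [QuasiCompact g] [IsIntegral Y] [IsIntegral X] : g (genericPoint Y) = genericPoint X := by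
  have hd : closure (Set.range g) = Set.univ := (Scheme.Hom.denseRange g).closure_range
  have h1 := ((genericPoint_spec Y).image g.continuous)
  rw [Set.image_univ, hd] at h1
  exact h1.eq (genericPoint_spec X)

theorem residue_bijective {R : Type u} [CommRing R] [IsLocalRing R] (h : IsField R) :
    Function.Bijective (IsLocalRing.residue R) := by
  refine ⟨(injective_iff_map_eq_zero _).2 fun x hx => ?_, IsLocalRing.residue_surjective⟩
  rw [IsLocalRing.residue_eq_zero_iff, IsLocalRing.isField_iff_maximalIdeal_eq.mp h] at hx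
  exact hx

theorem isField_stalk {S : Scheme.{u}} [IsIntegral S] (x : S) (hx : x = genericPoint S) :
    IsField (S.presheaf.stalk x) := by
  subst hx
  exact Field.toIsField S.functionField

/-- An integral morphism locally of finite type between integral schemes, respecting generic points, and with
bijective residue extension at the generic point is an isomorphism over a nonempty open. -/
theorem exists_isIso_restrict {S' S : Scheme.{u}} [IsIntegral S'] [IsIntegral S] (g : S' ⟶ S)
    [QuasiCompact g] [LocallyOfFiniteType g] (hg : g (genericPoint S') = genericPoint S)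
    (hres : Function.Bijective (g.residueFieldMap (genericPoint S')).hom) :
    ∃ V : S.Opens, (V : Set S).Nonempty ∧ IsIso (g ∣_ V) := by
  have hc : ∀ (Z : Scheme.{u}) [IsIntegral Z], irreducibleComponents Z = {Set.univ} := by
    intro Z _
    have := IrreducibleSpace.isIrreducible_univ Z
    exact irreducibleComponents_eq_singleton
  have hc' : ∀ (Z : Scheme.{u}) [IsIntegral Z], {x : Z | closure {x} ∈ irreducibleComponents Z} =
      {genericPoint Z} := by
    intro Z _
    ext x
    simp only [Set.mem_ofPred_eq, hc Z, Set.mem_singleton_iff]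
    constructor
    · intro h
      exact (show IsGenericPoint x ⊤ from h).eq (genericPoint_spec Z)
    · rintro rfl
      exact genericPoint_spec Z
  obtain ⟨V, hV, hVi⟩ := Groth.Agent.S9679.result g (by rw [hc]; exact Set.finite_singleton _)
    (by rw [hc]; exact Set.finite_singleton _) (by
      rw [hc', hc']
      refine ⟨?_, ?_, ?_⟩
      · rintro _ rfl; exact hg
      · rintro _ rfl _ rfl _; rfl
      · rintro _ rfl; exact ⟨_, rfl, hg⟩) (by
      intro x hx
      have hx' : x = genericPoint S' := by
        have : x ∈ ({genericPoint S'} : Set S') := by rw [← hc']; exact hx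
        exact this
      subst hx'
      have h1 : IsIso (S.residue (g (genericPoint S'))) :=
        (ConcreteCategory.isIso_iff_bijective _).2 (residue_bijective (isField_stalk _ hg))
      have h2 : IsIso (S'.residue (genericPoint S')) :=
        (ConcreteCategory.isIso_iff_bijective _).2 (residue_bijective (isField_stalk (genericPoint S') rfl))
      have h3 : IsIso (g.residueFieldMap (genericPoint S')) := (ConcreteCategory.isIso_iff_bijective _).2 hres
      have h4 := Scheme.residue_residueFieldMap g (genericPoint S')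
      have h5 : IsIso (g.stalkMap (genericPoint S') ≫ S'.residue (genericPoint S')) := by
        rw [← h4]; infer_instance
      exact IsIso.of_isIso_comp_right _ (S'.residue (genericPoint S'))) (Or.inl inferInstance) (Or.inl ⟨inferInstance, inferInstance⟩)
  exact ⟨V, hV.nonempty, hVi⟩

theorem exists_descent {S X X₁ X₂ N : Scheme.{u}} [IsIntegral S] [CompactSpace S] [QuasiSeparatedSpace S]
    [IsIntegral N] (n : N ⟶ S) [IsIntegralHom n] (hn : n (genericPoint N) = genericPoint S)
    (hres : Function.Bijective (n.residueFieldMap (genericPoint N)).hom)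
    (φ : X ⟶ S) [QuasiCompact φ] [QuasiSeparated φ] (f₁ : X₁ ⟶ X) (f₂ : X₂ ⟶ X)
    [LocallyOfFinitePresentation f₁] [QuasiCompact f₁] [QuasiSeparated f₁]
    [LocallyOfFinitePresentation f₂] [QuasiCompact f₂] [QuasiSeparated f₂]
    (e : pullback f₁ (pullback.fst φ n) ≅ pullback f₂ (pullback.fst φ n))
    (he : e.hom ≫ pullback.snd f₂ (pullback.fst φ n) = pullback.snd f₁ (pullback.fst φ n)) :
    ∃ (S' : Scheme.{u}) (_ : IsIntegral S') (g : S' ⟶ S) (V : S.Opens), IsFinite g ∧
      g (genericPoint S') = genericPoint S ∧ (V : Set S).Nonempty ∧ IsIso (g ∣_ V) ∧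
      ∃ e' : pullback f₁ (pullback.fst φ g) ≅ pullback f₂ (pullback.fst φ g),
       e'.hom ≫ pullback.snd f₂ (pullback.fst φ g) = pullback.snd f₁ (pullback.fst φ g) := by
  obtain ⟨I, _, _, _, D, c, hc, hD, ⟨ec⟩⟩ := Groth.Agent.S7382.result n
  let E : Iᵒᵖ ⥤ Scheme.{u} := D ⋙ Over.forget S
  let cE : Cone E := (Over.forget S).mapCone c
  have hcE : IsLimit cE := isLimitOfPreserves (Over.forget S) hc
  let t : ∀ i, E.obj i ⟶ S := fun i => (D.obj i).hom
  have ht : ∀ {i j : Iᵒᵖ} (a : i ⟶ j), E.map a ≫ t j = t i := fun a => Over.w (D.map a)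
  have hp : ∀ j, cE.π.app j ≫ t j = c.pt.hom := fun j => Over.w (c.π.app j)
  have hX : IsPullback (pullback.fst φ c.pt.hom) (pullback.snd φ c.pt.hom) φ c.pt.hom :=
    IsPullback.of_hasPullback _ _
  have hfin : ∀ i, IsFinite (t i) := fun i => (hD i).1
  have haff : ∀ {i j : Iᵒᵖ} (a : i ⟶ j), IsAffineHom (E.map a) := fun {i j} a => by
    have : IsAffineHom (E.map a ≫ t j) := by rw [ht]; infer_instance
    exact IsAffineHom.of_comp (E.map a) (t j)
  have hcomp : ∀ i, CompactSpace (E.obj i) := fun i => QuasiCompact.compactSpace_of_compactSpace (t i)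
  have hqs : ∀ i, QuasiSeparatedSpace (E.obj i) := fun i => quasiSeparatedSpace_of_quasiSeparated (t i)
  obtain ⟨e₀, he₀⟩ := EtaUniq.iso_comp f₁ f₂ (pullback.fst φ n) (pullback.fst φ c.pt.hom)
    (pullback.lift (pullback.fst φ c.pt.hom) (pullback.snd φ c.pt.hom ≫ ec.hom.left) (by
      rw [Category.assoc, pullback.condition]
      congr 1
      exact (Over.w ec.hom).symm)) (pullback.lift_fst _ _ _) e he
  have : IsCofiltered Iᵒᵖ := inferInstance
  obtain ⟨j, ej, hej⟩ := Groth.Agent.Pi1A.LimIso.exists_iso_of_iso
    (Groth.Agent.Ega43.LimitDescend.pbDiagram t ht φ)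
    (Groth.Agent.Ega43.LimitDescend.pbCone t ht φ cE c.pt.hom hp _ _ hX)
    (Groth.Agent.Ega43.LimitDescend.isLimitPbCone t ht φ cE c.pt.hom hp _ _ hX hcE)
    (fun j => pullback.fst φ (t j))
    (fun {i j} a => Groth.Agent.Ega43.LimitDescend.pbDiagram_map_fst t ht φ a) f₁ f₂
    (pullback.fst φ c.pt.hom)
    (fun j => Groth.Agent.Ega43.LimitDescend.pbCone_π_fst t ht φ cE c.pt.hom hp _ _ hX j) e₀ he₀
  -- the schematic image
  let m₀ : N ⟶ cE.pt := ec.inv.left
  let m : N ⟶ E.obj j := m₀ ≫ cE.π.app j
  have hm : m ≫ t j = n := by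
    have h2 : m₀ ≫ c.pt.hom = n := Over.w ec.inv
    simp only [m, Category.assoc]
    rw [hp j, h2]
  have hmqc : QuasiCompact m := by
    have : QuasiCompact (m ≫ t j) := by rw [hm]; infer_instance
    exact QuasiCompact.of_comp m (t j)
  have hdom : IsSchemeTheoreticallyDominant m.toImage := ToImage.isSchemeTheoreticallyDominant_toImage m
  have hqc' : QuasiCompact m.toImage := by
    have : QuasiCompact (m.toImage ≫ m.imageι) := by rw [Scheme.Hom.toImage_imageι]; exact hmqc
    exact QuasiCompact.of_comp m.toImage m.imageι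
  have hint : IsIntegral m.image := isIntegral_of_dominant m.toImage
  have hgm : m.toImage ≫ m.imageι ≫ t j = n := by rw [← Category.assoc, Scheme.Hom.toImage_imageι, hm]
  have hgen : m.toImage (genericPoint N) = genericPoint m.image := apply_genericPoint_of_dominant m.toImage
  have hgen' : (m.imageι ≫ t j) (genericPoint m.image) = genericPoint S := by
    rw [← hgen, ← Scheme.Hom.comp_apply, hgm, hn]
  have hfing : IsFinite (m.imageι ≫ t j) := inferInstance
  have hb : ∀ x, x = m.toImage (genericPoint N) →
      Function.Bijective ((m.imageι ≫ t j).residueFieldMap x).hom := by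
    rintro _ rfl
    refine ⟨RingHom.injective _, ?_⟩
    have h1 := Scheme.residueFieldMap_comp m.toImage (m.imageι ≫ t j) (genericPoint N)
    have h2 : ∀ (n' : N ⟶ S) (_ : n' = n), Function.Surjective (n'.residueFieldMap (genericPoint N)).hom := by
      rintro _ rfl; exact hres.2
    have h3 := h2 _ hgm
    have h4 : ⇑((m.toImage ≫ m.imageι ≫ t j).residueFieldMap (genericPoint N)).hom =
        ⇑(m.toImage.residueFieldMap (genericPoint N)).hom ∘
          ⇑((m.imageι ≫ t j).residueFieldMap (m.toImage (genericPoint N))).hom := by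
      rw [h1]; rfl
    rw [h4] at h3
    exact Function.Surjective.of_comp_left h3 (RingHom.injective _)
  obtain ⟨V, hV, hVi⟩ := exists_isIso_restrict (m.imageι ≫ t j) hgen' (hb _ hgen.symm)
  obtain ⟨e', he'⟩ := EtaUniq.iso_comp f₁ f₂ (pullback.fst φ (t j)) (pullback.fst φ (m.imageι ≫ t j))
    (pullback.lift (pullback.fst φ (m.imageι ≫ t j)) (pullback.snd φ (m.imageι ≫ t j) ≫ m.imageι) (by
      rw [Category.assoc, pullback.condition])) (pullback.lift_fst _ _ _) ej hej
  exact ⟨m.image, hint, m.imageι ≫ t j, V, hfing, hgen', hV, hVi, e', he'⟩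

end K263.IsoDescend
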