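import Mathlib.RingTheory.Valuation.ValuationRing
import Mathlib.RingTheory.IntegralClosure.IsIntegralClosure.Basic
import Mathlib.RingTheory.AlgebraicIndependent.TranscendenceBasis
import Mathlib.RingTheory.AlgebraicIndependent.Transcendental
import Mathlib.RingTheory.Polynomial.Content
import Mathlib.RingTheory.IntegralClosure.IntegrallyClosed

/-!
# Integrally closed local domains of transcendence degree one over a valuation ring

* `mem_or_inv_mem_of_isUnit_coeff`: an element of the fraction field of an integrally closed local domain which is a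
  root of a polynomial with a unit coefficient lies in the ring or its inverse does.
* `valuationRing_of_gauss`: an integrally closed local domain `B` over a valuation ring `R`, whose fraction
  field has transcendence degree at most one over `R`, and containing an element `t` whose residue class is
  transcendental, is a valuation ring.
-/

set_option autoImplicit false

open Polynomial

namespace K263.ValKap

theorem mem_or_inv_mem_of_isUnit_coeff {B L : Type*} [CommRing B] [IsDomain B] [IsLocalRing B]
    [IsIntegrallyClosed B] [Field L] [Algebra B L] [IsFractionRing B L] (u : L) (n : ℕ) :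
    ∀ (f : B[X]), f.natDegree ≤ n → aeval u f = 0 → ∀ i, IsUnit (f.coeff i) →
      (∃ b, algebraMap B L b = u) ∨ ∃ b, algebraMap B L b = u⁻¹ := by
  have hinj : Function.Injective (algebraMap B L) := IsFractionRing.injective B L
  induction n with
  | zero =>
    intro f hf hu i hi
    exfalso
    obtain ⟨c, rfl⟩ : ∃ c, f = C c := ⟨_, eq_C_of_natDegree_le_zero hf⟩
    rw [aeval_C] at hu
    have hc : c = 0 := hinj (by rw [hu, map_zero])
    rw [hc] at hi
    simp at hi
  | succ n ih =>
    intro f hf hu i hi
    by_cases hlt : f.natDegree ≤ n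
    · exact ih f hlt hu i hi
    have hdeg : f.natDegree = n + 1 := by omega
    set a := f.coeff (n + 1) with ha
    have hlead : f.leadingCoeff = a := by rw [leadingCoeff, hdeg]
    have hint : IsIntegral B (a • u) := by
      rw [← hlead]
      exact isIntegral_leadingCoeff_smul f u hu
    obtain ⟨b, hb⟩ := (IsIntegrallyClosed.isIntegral_iff (K := L)).1 hint
    rw [Algebra.smul_def] at hb
    by_cases hau : IsUnit a
    · left
      obtain ⟨v, hv⟩ := hau
      refine ⟨↑v⁻¹ * b, ?_⟩
      rw [map_mul, hb, ← mul_assoc, ← map_mul, ← hv, Units.inv_mul, map_one, one_mul]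
    by_cases hbu : IsUnit b
    · right
      obtain ⟨v, hv⟩ := hbu
      refine ⟨a * ↑v⁻¹, ?_⟩
      have hu0 : u ≠ 0 := by
        rintro rfl
        rw [mul_zero] at hb
        have : b = 0 := hinj (by rw [hb, map_zero])
        rw [this] at hv
        exact v.ne_zero hv
      have h1 : algebraMap B L (a * ↑v⁻¹) * u = 1 := by
        rw [map_mul, mul_right_comm, ← hb, ← map_mul, ← hv, Units.mul_inv, map_one]
      exact eq_inv_of_mul_eq_one_left h1
    -- lower the degree
    let g : B[X] := f - C a * X ^ (n + 1) + C b * X ^ n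
    have hgc : ∀ j, g.coeff j = f.coeff j - (if j = n + 1 then a else 0) + (if j = n then b else 0) := by
      intro j
      simp only [g, coeff_add, coeff_sub, coeff_C_mul_X_pow]
    refine ih g ?_ ?_ i ?_
    · rw [natDegree_le_iff_coeff_eq_zero]
      intro j hj
      rw [hgc]
      by_cases hj1 : j = n + 1
      · subst hj1
        simp [ha]
      · rw [if_neg hj1, if_neg (by omega), coeff_eq_zero_of_natDegree_lt (by omega)]
        simp
    · simp only [g, map_add, map_sub, hu, map_mul, aeval_C, map_pow, aeval_X]
      rw [hb]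
      ring
    · rw [hgc]
      have hin : i ≠ n + 1 := by
        rintro rfl
        exact hau hi
      rw [if_neg hin, sub_zero]
      by_cases hi' : i = n
      · rw [if_pos hi']
        by_contra hcon
        have h1 : f.coeff i + b ∈ IsLocalRing.maximalIdeal B := (IsLocalRing.mem_maximalIdeal _).2 hcon
        have h2 : b ∈ IsLocalRing.maximalIdeal B := (IsLocalRing.mem_maximalIdeal _).2 hbu
        have h3 : f.coeff i ∈ IsLocalRing.maximalIdeal B := (Ideal.add_mem_iff_left _ h2).1 h1
        exact ((IsLocalRing.mem_maximalIdeal _).1 h3) hi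
      · rw [if_neg hi', add_zero]
        exact hi

theorem exists_dvd_all {R : Type*} [CommRing R] [IsDomain R] [ValuationRing R] (s : Finset R)
    (hs : s.Nonempty) : ∃ a ∈ s, ∀ b ∈ s, a ∣ b := by
  classical
  induction hs using Finset.Nonempty.cons_induction with
  | singleton a => exact ⟨a, by simp, by simp⟩
  | cons a s ha hs ih =>
    obtain ⟨c, hc, hc'⟩ := ih
    rcases ValuationRing.dvd_total a c with h | h
    · refine ⟨a, by simp, fun b hb => ?_⟩
      rcases Finset.mem_cons.1 hb with rfl | hb
      · exact dvd_rfl
      · exact h.trans (hc' b hb)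
    · refine ⟨c, by simp [hc], fun b hb => ?_⟩
      rcases Finset.mem_cons.1 hb with rfl | hb
      · exact h
      · exact hc' b hb

/-- Dividing by the content. -/
theorem exists_unit_coeff {R : Type*} [CommRing R] [IsDomain R] [ValuationRing R] (F : R[X][X]) (hF : F ≠ 0) :
    ∃ (a : R) (G : R[X][X]) (i j : ℕ), a ≠ 0 ∧ F = C (C a) * G ∧ (G.coeff i).coeff j = 1 := by
  classical
  let s : Finset R := F.support.biUnion fun i => (F.coeff i).support.image fun j => (F.coeff i).coeff j
  have hmem : ∀ i j, (F.coeff i).coeff j ≠ 0 → (F.coeff i).coeff j ∈ s := by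
    intro i j h
    simp only [s, Finset.mem_biUnion, Finset.mem_image]
    refine ⟨i, ?_, j, mem_support_iff.2 h, rfl⟩
    rw [mem_support_iff]
    intro h0
    rw [h0] at h
    simp at h
  obtain ⟨i, hi⟩ : ∃ i, F.coeff i ≠ 0 := by
    by_contra hcon
    push Not at hcon
    exact hF (ext (by simpa using hcon))
  obtain ⟨j, hj⟩ : ∃ j, (F.coeff i).coeff j ≠ 0 := by
    by_contra hcon
    push Not at hcon
    exact hi (ext (by simpa using hcon))
  obtain ⟨a, ha, hdvd⟩ := exists_dvd_all s ⟨_, hmem i j hj⟩
  have ha' : ∃ i j, (F.coeff i).coeff j = a ∧ a ≠ 0 := by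
    simp only [s, Finset.mem_biUnion, Finset.mem_image] at ha
    obtain ⟨i, -, j, hj, rfl⟩ := ha
    exact ⟨i, j, rfl, mem_support_iff.1 hj⟩
  obtain ⟨i₀, j₀, hij, ha0⟩ := ha'
  have hdvd' : C (C a) ∣ F := by
    rw [C_dvd_iff_dvd_coeff]
    intro i
    rw [C_dvd_iff_dvd_coeff]
    intro j
    by_cases h : (F.coeff i).coeff j = 0
    · rw [h]; exact dvd_zero _
    · exact hdvd _ (hmem i j h)
  obtain ⟨G, hG⟩ := hdvd'
  refine ⟨a, G, i₀, j₀, ha0, hG, ?_⟩
  have h1 : (F.coeff i₀).coeff j₀ = a * (G.coeff i₀).coeff j₀ := by
    rw [hG, coeff_C_mul, coeff_C_mul]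
  rw [hij] at h1
  exact (mul_left_cancel₀ ha0 (by rw [← h1, mul_one])).symm

theorem valuationRing_of_gauss {R B L : Type*} [CommRing R] [IsDomain R] [ValuationRing R] [CommRing B] [IsDomain B]
    [IsLocalRing B] [IsIntegrallyClosed B] [Algebra R B] [Field L] [Algebra B L] [IsFractionRing B L]
    [Algebra R L] [IsScalarTower R B L] (hinj : Function.Injective (algebraMap R B)) (t : B)
    (ht : ∀ g : R[X], (∃ i, g.coeff i = 1) → IsUnit (aeval t g))
    (htr : Algebra.trdeg R L ≤ 1) : ValuationRing B := by
  have hinjL : Function.Injective (algebraMap B L) := IsFractionRing.injective B L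
  have hinjRL : Function.Injective (algebraMap R L) := by
    rw [IsScalarTower.algebraMap_eq R B L]
    exact hinjL.comp hinj
  have : FaithfulSMul R L := (faithfulSMul_iff_algebraMap_injective R L).2 hinjRL
  -- `t` is transcendental
  have htt : Transcendental R (algebraMap B L t) := by
    rw [transcendental_iff]
    intro p hp
    by_contra hp0
    obtain ⟨a, G, i, j, ha, hG, hij⟩ := exists_unit_coeff (C p : R[X][X]) (by simpa using hp0)
    have h1 : G.coeff 0 = G.coeff 0 := rfl
    have hp' : p = C a * G.coeff 0 := by
      have := congrArg (fun q : R[X][X] => q.coeff 0) hG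
      simpa using this
    have hi0 : i = 0 := by
      by_contra hi
      have := congrArg (fun q : R[X][X] => q.coeff i) hG
      simp only [coeff_C, if_neg hi, coeff_C_mul] at this
      have h2 : G.coeff i = 0 := (mul_eq_zero.1 this.symm).resolve_left (by simpa using ha)
      rw [h2] at hij
      simp at hij
    subst hi0
    have hu := ht (G.coeff 0) ⟨j, hij⟩
    rw [hp', map_mul, aeval_C, aeval_algebraMap_apply] at hp
    rcases mul_eq_zero.1 hp with h | h
    · exact ha (hinjRL (by rw [h, map_zero]))
    · rw [map_eq_zero_iff _ hinjL] at h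
      rw [h] at hu
      exact not_isUnit_zero hu
  have hind : AlgebraicIndependent R (fun _ : Unit => algebraMap B L t) :=
    (algebraicIndependent_unique_type_iff).2 htt
  have hbasis : IsTranscendenceBasis R (fun _ : Unit => algebraMap B L t) := by
    refine hind.isTranscendenceBasis_of_lift_trdeg_le_of_finite ?_
    simpa using htr
  have halg := hbasis.isAlgebraic
  rw [ValuationRing.iff_isInteger_or_isInteger B L]
  intro u
  obtain ⟨p, hp0, hp⟩ := halg.isAlgebraic u
  -- lift `p`
  let π : R[X] →+* Algebra.adjoin R (Set.range fun _ : Unit => algebraMap B L t) :=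
    ((aeval (R := R) (⟨algebraMap B L t, Algebra.subset_adjoin ⟨(), rfl⟩⟩ :
      Algebra.adjoin R (Set.range fun _ : Unit => algebraMap B L t)))).toRingHom
  have hπ : Function.Surjective π := by
    rintro ⟨y, hy⟩
    rw [show (Set.range fun _ : Unit => algebraMap B L t) = {algebraMap B L t} by simp [Set.range_const],
      Algebra.adjoin_singleton_eq_range_aeval] at hy
    obtain ⟨q, hq⟩ := hy
    refine ⟨q, Subtype.ext ?_⟩
    have : (((aeval (R := R) (⟨algebraMap B L t, Algebra.subset_adjoin ⟨(), rfl⟩⟩ :
      Algebra.adjoin R (Set.range fun _ : Unit => algebraMap B L t))) q :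
      Algebra.adjoin R (Set.range fun _ : Unit => algebraMap B L t)) : L) = aeval (algebraMap B L t) q := by
      rw [← Subalgebra.coe_val, ← aeval_algHom_apply]
      rfl
    exact this.trans hq
  have hπ' : ∀ q : R[X], ((π q : Algebra.adjoin R (Set.range fun _ : Unit => algebraMap B L t)) : L) =
      algebraMap B L (aeval t q) := by
    intro q
    have : ((π q : Algebra.adjoin R (Set.range fun _ : Unit => algebraMap B L t)) : L) =
        aeval (algebraMap B L t) q := by
      change (Subalgebra.val _) (aeval _ q) = _
      rw [← aeval_algHom_apply]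
      rfl
    rw [this, aeval_algebraMap_apply]
  obtain ⟨F, hF⟩ := Polynomial.map_surjective π hπ p
  have hF0 : F ≠ 0 := by
    rintro rfl
    exact hp0 (by rw [← hF, Polynomial.map_zero])
  obtain ⟨a, G, i, j, ha, hG, hij⟩ := exists_unit_coeff F hF0
  let f : B[X] := G.map (aeval (R := R) t).toRingHom
  have hf : aeval u f = 0 := by
    have h1 : aeval u (F.map (aeval (R := R) t).toRingHom) = 0 := by
      rw [← hp, ← hF, aeval_def, aeval_def, eval₂_map, eval₂_map]
      congr 1
      ext q
      · change algebraMap B L (aeval t (C q)) = ((π (C q) : Algebra.adjoin R _) : L)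
        rw [hπ']
      · change algebraMap B L (aeval t X) = ((π X : Algebra.adjoin R _) : L)
        rw [hπ']
    rw [hG, Polynomial.map_mul, map_mul, Polynomial.map_C, aeval_C] at h1
    refine (mul_eq_zero.1 h1).resolve_left ?_
    intro h2
    apply ha
    apply hinj
    apply hinjL
    rw [map_zero, map_zero]
    rw [← h2]
    change _ = algebraMap B L (aeval t (C a))
    rw [aeval_C]
  have hfc : IsUnit (f.coeff i) := by
    rw [coeff_map]
    exact ht _ ⟨j, hij⟩
  rcases mem_or_inv_mem_of_isUnit_coeff u _ f le_rfl hf i hfc with ⟨b, hb⟩ | ⟨b, hb⟩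
  · exact Or.inl ⟨b, hb⟩
  · exact Or.inr ⟨b, hb⟩

end K263.ValKap
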