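import Groth.Agent.CycB.RelDim3
import Groth.Agent.FlatMor.K263.ValKap
import Groth.Agent.Ega43.UnivOpenDvr
import Groth.Prelude.Def_Pi1

/-!
# Local rings of normal relative curves over valuation rings at generic points of fibres

`valuationRing_stalk` : let `R` be a valuation ring, `φ : C ⟶ Spec R` flat, locally of finite type, of relative
dimension one, with `C` integral. If `x` is a generic point of its fibre and `O_{C,x}` is integrally closed then
`O_{C,x}` is a valuation ring.
-/

set_option autoImplicit false
universe u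

open AlgebraicGeometry CategoryTheory Groth.Agent.CycB.RelDim Groth.Agent.CycB.TrdegAlg

namespace K263.FibGenVal

/-- `R → κ(y)`. -/
noncomputable def sig {R : Type u} [CommRing R] (y : Spec (CommRingCat.of R)) :
    R →+* (Spec (CommRingCat.of R)).residueField y :=
  ((Scheme.ΓSpecIso (CommRingCat.of R)).inv ≫ (Spec (CommRingCat.of R)).Γevaluation y).hom

/-- `R → O_{C,x}`. -/
noncomputable def rho {R : Type u} [CommRing R] {C : Scheme.{u}} (φ : C ⟶ Spec (CommRingCat.of R)) (x : C) :
    R →+* C.presheaf.stalk x :=
  ((Scheme.ΓSpecIso (CommRingCat.of R)).inv ≫ φ.appTop ≫ C.presheaf.germ ⊤ x trivial).hom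

variable {R : Type u} [CommRing R] {C : Scheme.{u}} (φ : C ⟶ Spec (CommRingCat.of R))

theorem residue_rho (x : C) (r : R) :
    C.residue x (rho φ x r) = φ.residueFieldMap x (sig (φ x) r) := by
  have h := Scheme.Γevaluation_naturality φ x
  have h2 : (φ.residueFieldMap x).hom.comp (sig (φ x)) = (C.residue x).hom.comp (rho φ x) := by
    have h3 : (Scheme.ΓSpecIso (CommRingCat.of R)).inv ≫ (Spec (CommRingCat.of R)).Γevaluation (φ x) ≫
        φ.residueFieldMap x = (Scheme.ΓSpecIso (CommRingCat.of R)).inv ≫ φ.appTop ≫ C.Γevaluation x := by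
      rw [h]
    exact congrArg CommRingCat.Hom.hom h3
  exact (RingHom.congr_fun h2 r).symm

theorem specializes_rho {x y : C} (h : y ⤳ x) (r : R) :
    C.presheaf.stalkSpecializes h (rho φ x r) = rho φ y r := by
  have h2 : (Scheme.ΓSpecIso (CommRingCat.of R)).inv ≫ φ.appTop ≫ C.presheaf.germ ⊤ x trivial ≫
      C.presheaf.stalkSpecializes h =
      (Scheme.ΓSpecIso (CommRingCat.of R)).inv ≫ φ.appTop ≫ C.presheaf.germ ⊤ y trivial := by
    rw [TopCat.Presheaf.germ_stalkSpecializes]
  exact congr($(h2) r)

theorem rho_eq (x : C) (r : R) : rho φ x r = φ.stalkMap x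
    ((Spec (CommRingCat.of R)).presheaf.germ ⊤ (φ x) trivial ((Scheme.ΓSpecIso (CommRingCat.of R)).inv r)) := by
  have h := Scheme.Hom.germ_stalkMap_apply φ ⊤ x trivial ((Scheme.ΓSpecIso (CommRingCat.of R)).inv r)
  exact h.symm

theorem rho_injective [IsDomain R] [Flat φ] (x : C) : Function.Injective (rho φ x) := by
  intro a b hab
  rw [rho_eq, rho_eq] at hab
  have h1 := Groth.Agent.Ega43.UnivOpenDvr.stalkMap_injective_of_flat φ x hab
  have h2 := germ_injective_of_isIntegral (U := ⊤) (Spec (CommRingCat.of R)) (φ x) trivial h1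
  exact (ConcreteCategory.bijective_of_isIso (Scheme.ΓSpecIso (CommRingCat.of R)).inv).1 h2

theorem fracGen_sig (y : Spec (CommRingCat.of R)) : FracGen (sig y) := by
  have h := fracGen_evaluation (isAffineOpen_top (Spec (CommRingCat.of R))) y trivial
  intro z
  obtain ⟨a, b, hb, hab⟩ := h z
  have hs := (ConcreteCategory.bijective_of_isIso (Scheme.ΓSpecIso (CommRingCat.of R)).inv).2
  obtain ⟨a', rfl⟩ := hs a
  obtain ⟨b', rfl⟩ := hs b
  exact ⟨a', b', hb, hab⟩

theorem trd_eq_zero_of_fracGen {B K : Type u} [CommRing B] [Field K] {ψ : B →+* K} (h : FracGen ψ)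
    (hinj : Function.Injective ψ) : trd ψ = 0 := by
  let _ := ψ.toAlgebra
  have : FaithfulSMul B K := (faithfulSMul_iff_algebraMap_injective _ _).mpr hinj
  have : Nontrivial B := by
    by_contra hK
    rw [not_nontrivial_iff_subsingleton] at hK
    exact one_ne_zero (α := K) (by rw [← map_one ψ, Subsingleton.elim (1 : B) 0, map_zero])
  have : Algebra.IsAlgebraic B K := ⟨fun z => by
    obtain ⟨a, b, hb, hab⟩ := h z
    refine ⟨Polynomial.C b * Polynomial.X - Polynomial.C a, ?_, ?_⟩
    · intro h0
      have := congrArg (fun P => Polynomial.coeff P 1) h0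
      simp at this
      apply hb
      rw [this, map_zero]
    · have hmk : ∀ c : B, algebraMap B K c = ψ c := fun c => rfl
      rw [map_sub, map_mul, Polynomial.aeval_X, Polynomial.aeval_C, Polynomial.aeval_C, hmk, hmk,
        ← hab, mul_comm, sub_self]⟩
  exact trdeg_eq_zero

theorem fibGeneric_genericPoint [IsIntegral C] : FibGeneric φ (genericPoint C) := by
  intro x' _ hx'
  exact (hx'.antisymm (genericPoint_specializes x')).eq

theorem trdeg_functionField [IsDomain R] [IsIntegral C] [Flat φ] [LocallyOfFiniteType φ] {n : ℕ}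
    (hr : Cyc.HasRelDim φ n) : trd (rho φ (genericPoint C)) ≤ n := by
  set η := genericPoint C
  have h1 : rtd φ η = n := rtd_of_fibGeneric hr (fibGeneric_genericPoint φ)
  have hinjη := rho_injective φ η
  have hres : Function.Injective (C.residue η).hom := by
    let _ : Field (C.presheaf.stalk η) := inferInstanceAs (Field C.functionField)
    exact (C.residue η).hom.injective
  have hcomp : (φ.residueFieldMap η).hom.comp (sig (φ η)) = (C.residue η).hom.comp (rho φ η) :=
    RingHom.ext fun r => (residue_rho φ η r).symm
  have hsig : Function.Injective (sig (φ η)) := by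
    intro a b hab
    apply hinjη
    apply hres
    have := RingHom.congr_fun hcomp a
    have h2 := RingHom.congr_fun hcomp b
    rw [RingHom.comp_apply, RingHom.comp_apply] at this h2
    rw [← this, ← h2, hab]
  have h3 : trd ((φ.residueFieldMap η).hom.comp (sig (φ η))) = n := by
    rw [trd_comp' _ _ hsig (φ.residueFieldMap η).hom.injective,
      trd_eq_zero_of_fracGen (fracGen_sig (φ η)) hsig, zero_add]
    exact h1
  have hdom : IsDomain (C.presheaf.stalk η) := inferInstance
  rw [hcomp, trd_comp' _ _ hinjη hres] at h3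
  rw [← h3]
  exact self_le_add_right _ _

open Polynomial in
theorem valuationRing_stalk [IsDomain R] [ValuationRing R] [IsIntegral C] [Flat φ] [LocallyOfFiniteType φ]
    (hr : Cyc.HasRelDim φ 1) (x : C) (hx : FibGeneric φ x) (hN : IsIntegrallyClosed (C.presheaf.stalk x)) :
    ValuationRing (C.presheaf.stalk x) := by
  have h1 : rtd φ x = 1 := by
    have := rtd_of_fibGeneric hr hx
    exact_mod_cast this
  -- a transcendental residue class
  obtain ⟨tb, htb⟩ : ∃ tb : C.residueField x, ∀ g : ((Spec (CommRingCat.of R)).residueField (φ x))[X],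
      g ≠ 0 → g.eval₂ (φ.residueFieldMap x).hom tb ≠ 0 := by
    let _ := (φ.residueFieldMap x).hom.toAlgebra
    have h2 : Algebra.trdeg ((Spec (CommRingCat.of R)).residueField (φ x)) (C.residueField x) = 1 := h1
    have h3 : ¬ Algebra.IsAlgebraic ((Spec (CommRingCat.of R)).residueField (φ x)) (C.residueField x) := by
      intro h
      rw [← trdeg_eq_zero_iff, h2] at h
      exact one_ne_zero h
    rw [Algebra.isAlgebraic_def] at h3
    push Not at h3
    obtain ⟨tb, htb⟩ := h3
    refine ⟨tb, fun g hg h0 => htb ⟨g, hg, h0⟩⟩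
  obtain ⟨t, rfl⟩ := C.residue_surjective x tb
  let _ : Algebra R (C.presheaf.stalk x) := (rho φ x).toAlgebra
  let _ : Algebra R C.functionField := ((algebraMap (C.presheaf.stalk x) C.functionField).comp (rho φ x)).toAlgebra
  have : IsScalarTower R (C.presheaf.stalk x) C.functionField := .of_algebraMap_eq fun _ => rfl
  refine ValKap.valuationRing_of_gauss (R := R) (L := C.functionField) (rho_injective φ x) t ?_ ?_
  · rintro g ⟨i, hi⟩
    rw [← IsLocalRing.residue_ne_zero_iff_isUnit]
    have h2 : C.residue x (aeval t g) = (g.map (sig (φ x))).eval₂ (φ.residueFieldMap x).hom (C.residue x t) := by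
      rw [eval₂_map, aeval_def]
      have : C.residue x (eval₂ (algebraMap R (C.presheaf.stalk x)) t g) =
          eval₂ ((C.residue x).hom.comp (algebraMap R (C.presheaf.stalk x))) (C.residue x t) g :=
        hom_eval₂ g _ (C.residue x).hom t
      rw [this]
      congr 1
      exact RingHom.ext fun r => residue_rho φ x r
    change C.residue x (aeval t g) ≠ 0
    rw [h2]
    refine htb _ fun h0 => ?_
    have := congrArg (fun q => coeff q i) h0
    rw [coeff_map, hi, map_one, coeff_zero] at this
    exact one_ne_zero this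
  · have h4 := trdeg_functionField φ hr
    have h5 : (algebraMap (C.presheaf.stalk x) C.functionField).comp (rho φ x) = rho φ (genericPoint C) :=
      RingHom.ext fun r => specializes_rho φ (genericPoint_specializes x) r
    have h6 : Algebra.trdeg R C.functionField = trd (rho φ (genericPoint C)) := by
      rw [← h5, trd]
    rw [h6]
    exact_mod_cast h4

end K263.FibGenVal
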