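import Mathlib.RingTheory.Flat.Equalizer
import Mathlib.RingTheory.TensorProduct.IsBaseChangePi
import Mathlib.RingTheory.IsTensorProduct
import Mathlib.RingTheory.RingHom.Flat
import Mathlib.Algebra.Category.Ring.Constructions
import Mathlib.LinearAlgebra.TensorProduct.RightExactness

/-!
# Base change of Milnor squares

`mil_baseChange`: a cartesian square `A, B, C, D` of `R`-algebras with `B ⟶ D` surjective stays cartesian after base
change along `R ⟶ R'` if `D` or `R'` is flat over `R`.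
-/

set_option autoImplicit false
universe u

open CategoryTheory TensorProduct

namespace K263.MilAlg

section modules

variable {R R' M N P M' N' P' : Type*} [CommRing R] [CommRing R'] [Algebra R R']
  [AddCommGroup M] [AddCommGroup N] [AddCommGroup P] [Module R M] [Module R N] [Module R P]
  [AddCommGroup M'] [AddCommGroup N'] [AddCommGroup P'] [Module R M'] [Module R N'] [Module R P']
  [Module R' M'] [Module R' N'] [Module R' P'] [IsScalarTower R R' M'] [IsScalarTower R R' N']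
  [IsScalarTower R R' P']

theorem comp_equiv (f : M →ₗ[R] N) {eM : M →ₗ[R] M'} {eN : N →ₗ[R] N'} (hM : IsBaseChange R' eM)
    (hN : IsBaseChange R' eN) (f' : M' →ₗ[R'] N') (hf' : ∀ m, f' (eM m) = eN (f m)) (x : R' ⊗[R] M) :
    f' (hM.equiv x) = hN.equiv (f.lTensor R' x) := by
  induction x with
  | zero => simp
  | tmul r m => rw [hM.equiv_tmul, map_smul, hf', LinearMap.lTensor_tmul, hN.equiv_tmul]
  | add x y hx hy => simp only [map_add, hx, hy]

theorem exact_baseChange (f : M →ₗ[R] N) (g : N →ₗ[R] P) (hf : Function.Injective f)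
    (hg : Function.Surjective g) (hfg : Function.Exact f g) (hflat : Module.Flat R P ∨ Module.Flat R R')
    {eM : M →ₗ[R] M'} {eN : N →ₗ[R] N'} {eP : P →ₗ[R] P'} (hM : IsBaseChange R' eM)
    (hN : IsBaseChange R' eN) (hP : IsBaseChange R' eP) (f' : M' →ₗ[R'] N') (g' : N' →ₗ[R'] P')
    (hf' : ∀ m, f' (eM m) = eN (f m)) (hg' : ∀ n, g' (eN n) = eP (g n)) :
    Function.Injective f' ∧ Function.Exact f' g' := by
  have h1 : Function.Injective (f.lTensor R') := by
    rcases hflat with h | h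
    · exact LinearMap.lTensor_injective_of_exact_of_flat g hg f hf hfg R'
    · exact Module.Flat.lTensor_preserves_injective_linearMap f hf
  have h2 := lTensor_exact R' hfg hg
  constructor
  · intro x y hxy
    obtain ⟨x, rfl⟩ := hM.equiv.surjective x
    obtain ⟨y, rfl⟩ := hM.equiv.surjective y
    rw [comp_equiv f hM hN f' hf', comp_equiv f hM hN f' hf'] at hxy
    rw [h1 (hN.equiv.injective hxy)]
  · intro y
    obtain ⟨y, rfl⟩ := hN.equiv.surjective y
    rw [comp_equiv g hN hP g' hg', map_eq_zero_iff _ hP.equiv.injective, h2 y]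
    constructor
    · rintro ⟨x, rfl⟩
      exact ⟨hM.equiv x, comp_equiv f hM hN f' hf' x⟩
    · rintro ⟨x, hx⟩
      obtain ⟨x, rfl⟩ := hM.equiv.surjective x
      rw [comp_equiv f hM hN f' hf'] at hx
      exact ⟨x, hN.equiv.injective hx⟩

end modules

theorem isBaseChange_of_isPushout {R R' A A' : Type u} [CommRing R] [CommRing R'] [CommRing A] [CommRing A']
    [Algebra R R'] [Algebra R A] [Algebra R' A'] [Algebra R A'] [IsScalarTower R R' A'] (p : A →ₐ[R] A')
    (h : IsPushout (CommRingCat.ofHom (algebraMap R R')) (CommRingCat.ofHom (algebraMap R A))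
      (CommRingCat.ofHom (algebraMap R' A')) (CommRingCat.ofHom p.toRingHom)) :
    IsBaseChange R' p.toLinearMap := by
  let _ : Algebra A A' := p.toRingHom.toAlgebra
  have : IsScalarTower R A A' := IsScalarTower.of_algebraMap_eq fun x => (p.commutes x).symm
  exact (CommRingCat.isPushout_iff_isPushout.mp h).out

/-- Base change of a Milnor square, unbundled. -/
theorem mil_algHom {R R' A B C D A' B' C' D' : Type*} [CommRing R] [CommRing R'] [CommRing A] [CommRing B]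
    [CommRing C] [CommRing D] [CommRing A'] [CommRing B'] [CommRing C'] [CommRing D'] [Algebra R R']
    [Algebra R A] [Algebra R B] [Algebra R C] [Algebra R D] [Algebra R' A'] [Algebra R' B'] [Algebra R' C']
    [Algebra R' D'] [Algebra R A'] [Algebra R B'] [Algebra R C'] [Algebra R D'] [IsScalarTower R R' A']
    [IsScalarTower R R' B'] [IsScalarTower R R' C'] [IsScalarTower R R' D']
    (α : A →ₐ[R] B) (β : A →ₐ[R] C) (δ : B →ₐ[R] D) (γ : C →ₐ[R] D) (comm : ∀ a, δ (α a) = γ (β a))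
    (hδ : Function.Surjective δ) (hmil : ∀ b c, δ b = γ c → ∃ a, α a = b ∧ β a = c)
    (hinj : ∀ a a', α a = α a' → β a = β a' → a = a')
    (pA : A →ₐ[R] A') (pB : B →ₐ[R] B') (pC : C →ₐ[R] C') (pD : D →ₐ[R] D')
    (bA : IsBaseChange R' pA.toLinearMap) (bB : IsBaseChange R' pB.toLinearMap)
    (bC : IsBaseChange R' pC.toLinearMap) (bD : IsBaseChange R' pD.toLinearMap)
    (α' : A' →ₐ[R'] B') (β' : A' →ₐ[R'] C') (δ' : B' →ₐ[R'] D') (γ' : C' →ₐ[R'] D')
    (hα : ∀ a, α' (pA a) = pB (α a)) (hβ : ∀ a, β' (pA a) = pC (β a))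
    (hδ' : ∀ a, δ' (pB a) = pD (δ a)) (hγ : ∀ a, γ' (pC a) = pD (γ a))
    (hflat : Module.Flat R D ∨ Module.Flat R R') :
    (∀ b c, δ' b = γ' c → ∃ a, α' a = b ∧ β' a = c) ∧ ∀ a a', α' a = α' a' → β' a = β' a' → a = a' := by
  let f : A →ₗ[R] B × C := α.toLinearMap.prod β.toLinearMap
  let g : B × C →ₗ[R] D := δ.toLinearMap ∘ₗ LinearMap.fst R B C - γ.toLinearMap ∘ₗ LinearMap.snd R B C
  let f' : A' →ₗ[R'] B' × C' := α'.toLinearMap.prod β'.toLinearMap
  let g' : B' × C' →ₗ[R'] D' :=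
    δ'.toLinearMap ∘ₗ LinearMap.fst R' B' C' - γ'.toLinearMap ∘ₗ LinearMap.snd R' B' C'
  have hg : ∀ x, g x = δ x.1 - γ x.2 := fun x => rfl
  have hg' : ∀ x, g' x = δ' x.1 - γ' x.2 := fun x => rfl
  have bBC : IsBaseChange R' (pB.toLinearMap.prodMap pC.toLinearMap) :=
    IsBaseChange.prodMap pB.toLinearMap pC.toLinearMap bB bC
  obtain ⟨h1, h2⟩ := exact_baseChange (R' := R') f g
    (fun a a' h => hinj a a' (congrArg Prod.fst h) (congrArg Prod.snd h))
    (fun d => by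
      obtain ⟨b, rfl⟩ := hδ d
      exact ⟨(b, 0), by rw [hg, map_zero, sub_zero]⟩)
    (fun x => by
      constructor
      · intro hx
        rw [hg] at hx
        obtain ⟨a, h1, h2⟩ := hmil x.1 x.2 (sub_eq_zero.mp hx)
        exact ⟨a, Prod.ext h1 h2⟩
      · rintro ⟨a, rfl⟩
        rw [hg]
        exact sub_eq_zero.mpr (comm a))
    hflat bA bBC bD f' g'
    (fun a => Prod.ext (hα a) (hβ a))
    (fun x => by
      rw [hg, hg', AlgHom.toLinearMap_apply, map_sub]
      exact congrArg₂ _ (hδ' x.1) (hγ x.2))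
  refine ⟨fun b c hbc => ?_, fun a a' h h' => h1 (Prod.ext h h')⟩
  obtain ⟨a, ha⟩ := (h2 (b, c)).mp (by rw [hg']; exact sub_eq_zero.mpr hbc)
  exact ⟨a, congrArg Prod.fst ha, congrArg Prod.snd ha⟩

/-- Base change of a Milnor square, for squares of rings given as pushouts along `R ⟶ R'`. -/
theorem mil_baseChange {R R' A B C D A' B' C' D' : CommRingCat.{u}} {ρ : R ⟶ R'} {rA : R ⟶ A}
    {α : A ⟶ B} {β : A ⟶ C} {δ : B ⟶ D} {γ : C ⟶ D} (comm : α ≫ δ = β ≫ γ)
    (hδ : Function.Surjective δ) (hmil : ∀ b c, δ b = γ c → ∃ a, α a = b ∧ β a = c)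
    (hinj : ∀ a a', α a = α a' → β a = β a' → a = a')
    {sA : R' ⟶ A'} {sB : R' ⟶ B'} {sC : R' ⟶ C'} {sD : R' ⟶ D'} {pA : A ⟶ A'} {pB : B ⟶ B'} {pC : C ⟶ C'}
    {pD : D ⟶ D'} (hA : IsPushout ρ rA sA pA) (hB : IsPushout ρ (rA ≫ α) sB pB)
    (hC : IsPushout ρ (rA ≫ β) sC pC) (hD : IsPushout ρ (rA ≫ α ≫ δ) sD pD)
    {α' : A' ⟶ B'} {β' : A' ⟶ C'} {δ' : B' ⟶ D'} {γ' : C' ⟶ D'}
    (hα : sA ≫ α' = sB) (hα' : pA ≫ α' = α ≫ pB) (hβ : sA ≫ β' = sC) (hβ' : pA ≫ β' = β ≫ pC)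
    (hδ₁ : sB ≫ δ' = sD) (hδ₂ : pB ≫ δ' = δ ≫ pD) (hγ : sC ≫ γ' = sD) (hγ' : pC ≫ γ' = γ ≫ pD)
    (hflat : (rA ≫ α ≫ δ).hom.Flat ∨ ρ.hom.Flat) :
    (∀ b c, δ' b = γ' c → ∃ a, α' a = b ∧ β' a = c) ∧ ∀ a a', α' a = α' a' → β' a = β' a' → a = a' := by
  let _ : Algebra R R' := ρ.hom.toAlgebra
  let _ : Algebra R A := rA.hom.toAlgebra
  let _ : Algebra R B := (rA ≫ α).hom.toAlgebra
  let _ : Algebra R C := (rA ≫ β).hom.toAlgebra
  let _ : Algebra R D := (rA ≫ α ≫ δ).hom.toAlgebra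
  let _ : Algebra R' A' := sA.hom.toAlgebra
  let _ : Algebra R' B' := sB.hom.toAlgebra
  let _ : Algebra R' C' := sC.hom.toAlgebra
  let _ : Algebra R' D' := sD.hom.toAlgebra
  let _ : Algebra R A' := (ρ ≫ sA).hom.toAlgebra
  let _ : Algebra R B' := (ρ ≫ sB).hom.toAlgebra
  let _ : Algebra R C' := (ρ ≫ sC).hom.toAlgebra
  let _ : Algebra R D' := (ρ ≫ sD).hom.toAlgebra
  have tA : IsScalarTower R R' A' := IsScalarTower.of_algebraMap_eq' rfl
  have tB : IsScalarTower R R' B' := IsScalarTower.of_algebraMap_eq' rfl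
  have tC : IsScalarTower R R' C' := IsScalarTower.of_algebraMap_eq' rfl
  have tD : IsScalarTower R R' D' := IsScalarTower.of_algebraMap_eq' rfl
  have eγ : ∀ r : R, γ (β (rA r)) = δ (α (rA r)) := fun r => congr($(comm.symm) (rA r))
  have eA : ∀ r : R, pA (rA r) = sA (ρ r) := fun r => congr($(hA.w.symm) r)
  have eB : ∀ r : R, pB ((rA ≫ α) r) = sB (ρ r) := fun r => congr($(hB.w.symm) r)
  have eC : ∀ r : R, pC ((rA ≫ β) r) = sC (ρ r) := fun r => congr($(hC.w.symm) r)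
  have eD : ∀ r : R, pD ((rA ≫ α ≫ δ) r) = sD (ρ r) := fun r => congr($(hD.w.symm) r)
  have eα : ∀ r : R', α' (sA r) = sB r := fun r => congr($(hα) r)
  have eβ : ∀ r : R', β' (sA r) = sC r := fun r => congr($(hβ) r)
  have eδ : ∀ r : R', δ' (sB r) = sD r := fun r => congr($(hδ₁) r)
  have eγ' : ∀ r : R', γ' (sC r) = sD r := fun r => congr($(hγ) r)
  let αₐ : A →ₐ[R] B := { α.hom with commutes' := fun _ => rfl }
  let βₐ : A →ₐ[R] C := { β.hom with commutes' := fun _ => rfl }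
  let δₐ : B →ₐ[R] D := { δ.hom with commutes' := fun _ => rfl }
  let γₐ : C →ₐ[R] D := { γ.hom with commutes' := eγ }
  let pAₐ : A →ₐ[R] A' := { pA.hom with commutes' := eA }
  let pBₐ : B →ₐ[R] B' := { pB.hom with commutes' := eB }
  let pCₐ : C →ₐ[R] C' := { pC.hom with commutes' := eC }
  let pDₐ : D →ₐ[R] D' := { pD.hom with commutes' := eD }
  let αₐ' : A' →ₐ[R'] B' := { α'.hom with commutes' := eα }
  let βₐ' : A' →ₐ[R'] C' := { β'.hom with commutes' := eβ }
  let δₐ' : B' →ₐ[R'] D' := { δ'.hom with commutes' := eδ }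
  let γₐ' : C' →ₐ[R'] D' := { γ'.hom with commutes' := eγ' }
  have bA : IsBaseChange R' pAₐ.toLinearMap := isBaseChange_of_isPushout pAₐ hA
  have bB : IsBaseChange R' pBₐ.toLinearMap := isBaseChange_of_isPushout pBₐ hB
  have bC : IsBaseChange R' pCₐ.toLinearMap := isBaseChange_of_isPushout pCₐ hC
  have bD : IsBaseChange R' pDₐ.toLinearMap := isBaseChange_of_isPushout pDₐ hD
  exact mil_algHom αₐ βₐ δₐ γₐ (fun a => congr($(comm) a)) hδ hmil hinj pAₐ pBₐ pCₐ pDₐ bA bB bC bD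
    αₐ' βₐ' δₐ' γₐ' (fun a => congr($(hα') a)) (fun a => congr($(hβ') a)) (fun a => congr($(hδ₂) a))
    (fun a => congr($(hγ') a)) hflat

end K263.MilAlg
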