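import Groth.Agent.FlatMor.K263.PushChar
import Groth.Agent.FlatMor.K263.MilAlg
import Mathlib.AlgebraicGeometry.Morphisms.Flat
import Mathlib.CategoryTheory.Limits.Over

/-!
# Base change of scheme pushouts along a closed immersion

`isPushout_baseChange`: `i : Z ⟶ X` a closed immersion, `W` a scheme pushout of `i` and `j : Z ⟶ Y` with `X ⟶ W` and
`Y ⟶ W` affine, everything over `S`, `g : S' ⟶ S`; if `Z` is flat over `S` or `g` is flat, the base changed square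
is a pushout of schemes.
-/

set_option autoImplicit false
universe u

open CategoryTheory AlgebraicGeometry Limits TopologicalSpace

namespace K263.PushBC

open K263.PushChar K263.MilAlg

section sections

variable {S S' X X' : Scheme.{u}} {f : X ⟶ S} {g : S' ⟶ S} {p : X' ⟶ X} {r : X' ⟶ S'}
  (H : IsPullback p r f g) {V : S.Opens} {V' : S'.Opens} {O : X.Opens} {O' : X'.Opens}
  (hV : IsAffineOpen V) (hV' : IsAffineOpen V') (hO : IsAffineOpen O) (hVV : V' ≤ g ⁻¹ᵁ V)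
  (hOV : O ≤ f ⁻¹ᵁ V) (hO' : O' = p ⁻¹ᵁ O ⊓ r ⁻¹ᵁ V')

include H hV hV' hO hVV hOV hO' in
theorem isAffineOpen_box : IsAffineOpen O' := by
  have : IsAffine _ := hV
  have : IsAffine _ := hV'
  have : IsAffine _ := hO
  exact .of_isIso (Scheme.Hom.isPullback_resLE H hVV hOV hO').isoPullback.hom

include H hV hV' hO in
theorem isPushout_sections : IsPushout (g.appLE V V' hVV) (f.appLE V O hOV)
    (r.appLE V' O' (by rw [hO']; exact inf_le_right)) (p.appLE O O' (by rw [hO']; exact inf_le_left)) :=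
  ((isIso_pushoutSection_iff H hVV hOV hO').mp
    (isIso_pushoutSection_of_isAffineOpen H hVV hOV hO' hV hV' hO)).flip

end sections

variable {X Y Z W S X' Y' Z' W' S' : Scheme.{u}} {i : Z ⟶ X} {j : Z ⟶ Y} {a : X ⟶ W} {b : Y ⟶ W}

theorem isPushout_baseChange [IsClosedImmersion i] [IsAffineHom a] [IsAffineHom b]
    (hpo : IsPushout i j a b) (q : W ⟶ S) (g : S' ⟶ S)
    (hflat : Flat (i ≫ a ≫ q) ∨ Flat g)
    {pW : W' ⟶ W} {rW : W' ⟶ S'} (hW : IsPullback pW rW q g)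
    {pX : X' ⟶ X} {rX : X' ⟶ S'} (hX : IsPullback pX rX (a ≫ q) g)
    {pY : Y' ⟶ Y} {rY : Y' ⟶ S'} (hY : IsPullback pY rY (b ≫ q) g)
    {pZ : Z' ⟶ Z} {rZ : Z' ⟶ S'} (hZ : IsPullback pZ rZ (i ≫ a ≫ q) g)
    {i' : Z' ⟶ X'} {j' : Z' ⟶ Y'} {a' : X' ⟶ W'} {b' : Y' ⟶ W'}
    (hi : i' ≫ pX = pZ ≫ i) (hi' : i' ≫ rX = rZ) (hj : j' ≫ pY = pZ ≫ j) (hj' : j' ≫ rY = rZ)
    (ha : a' ≫ pW = pX ≫ a) (ha' : a' ≫ rW = rX) (hb : b' ≫ pW = pY ≫ b) (hb' : b' ≫ rW = rY) :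
    IsPushout i' j' a' b' := by
  have hgl : IsGlued i j a b := isGlued_of_isPushout (fun y => exists_adapted_of_affine hpo.w y) hpo
  have sX : IsPullback pX a' a pW :=
    IsPullback.of_bot (v₂₁ := rW) (v₂₂ := q) (h₃₁ := g) (by rw [ha']; exact hX) ha.symm hW
  have sY : IsPullback pY b' b pW :=
    IsPullback.of_bot (v₂₁ := rW) (v₂₂ := q) (h₃₁ := g) (by rw [hb']; exact hY) hb.symm hW
  have sZ : IsPullback pZ i' i pX :=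
    IsPullback.of_bot (v₂₁ := rX) (v₂₂ := a ≫ q) (h₃₁ := g) (by rw [hi']; exact hZ) hi.symm hX
  have hci : IsClosedImmersion i' := MorphismProperty.of_isPullback (P := @IsClosedImmersion) sZ inferInstance
  have haa : IsAffineHom a' := MorphismProperty.of_isPullback (P := @IsAffineHom) sX inferInstance
  have hab : IsAffineHom b' := MorphismProperty.of_isPullback (P := @IsAffineHom) sY inferInstance
  have hw' : i' ≫ a' = j' ≫ b' := by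
    apply hW.hom_ext
    · rw [Category.assoc, ha, ← Category.assoc, hi, Category.assoc, hpo.w, Category.assoc, hb,
        ← Category.assoc j', hj, Category.assoc]
    · rw [Category.assoc, ha', hi', Category.assoc, hb', hj']
  refine isPushout_of_mil hw' fun x => ?_
  -- the affine boxes
  obtain ⟨V, hV, hxV, -⟩ := exists_isAffineOpen_mem_and_subset (U := (⊤ : S.Opens)) (x := q (pW x)) trivial
  obtain ⟨O, hO, hxO, hOV⟩ := exists_isAffineOpen_mem_and_subset (U := q ⁻¹ᵁ V) (x := pW x) hxV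
  obtain ⟨V', hV', hxV', hVV⟩ := exists_isAffineOpen_mem_and_subset (U := g ⁻¹ᵁ V) (x := rW x) (by
    change g (rW x) ∈ V
    rw [← Scheme.Hom.comp_apply, ← hW.w]
    exact hxV)
  refine ⟨pW ⁻¹ᵁ O ⊓ rW ⁻¹ᵁ V', isAffineOpen_box hW hV hV' hO hVV hOV rfl, ⟨hxO, hxV'⟩, ?_⟩
  set O' : W'.Opens := pW ⁻¹ᵁ O ⊓ rW ⁻¹ᵁ V' with hO'
  have eX : a' ⁻¹ᵁ O' = pX ⁻¹ᵁ (a ⁻¹ᵁ O) ⊓ rX ⁻¹ᵁ V' := by
    have h1 : a' ⁻¹ᵁ O' = (a' ≫ pW) ⁻¹ᵁ O ⊓ (a' ≫ rW) ⁻¹ᵁ V' := rfl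
    rw [h1, ha, ha']
    rfl
  have eY : b' ⁻¹ᵁ O' = pY ⁻¹ᵁ (b ⁻¹ᵁ O) ⊓ rY ⁻¹ᵁ V' := by
    have h1 : b' ⁻¹ᵁ O' = (b' ≫ pW) ⁻¹ᵁ O ⊓ (b' ≫ rW) ⁻¹ᵁ V' := rfl
    rw [h1, hb, hb']
    rfl
  have eZ : i' ⁻¹ᵁ a' ⁻¹ᵁ O' = pZ ⁻¹ᵁ (i ⁻¹ᵁ a ⁻¹ᵁ O) ⊓ rZ ⁻¹ᵁ V' := by
    have h1 : i' ⁻¹ᵁ a' ⁻¹ᵁ O' = (i' ≫ a' ≫ pW) ⁻¹ᵁ O ⊓ (i' ≫ a' ≫ rW) ⁻¹ᵁ V' := rfl
    rw [h1, ha, ha', hi', ← Category.assoc, hi, Category.assoc]
    rfl
  have hVb : i ⁻¹ᵁ a ⁻¹ᵁ O = j ⁻¹ᵁ b ⁻¹ᵁ O := by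
    have h1 : i ⁻¹ᵁ a ⁻¹ᵁ O = (i ≫ a) ⁻¹ᵁ O := rfl
    rw [h1, hpo.w]
    rfl
  have hOX : a ⁻¹ᵁ O ≤ (a ≫ q) ⁻¹ᵁ V := (Opens.map a.base).monotone hOV
  have hOY : b ⁻¹ᵁ O ≤ (b ≫ q) ⁻¹ᵁ V := (Opens.map b.base).monotone hOV
  have hOZ : i ⁻¹ᵁ a ⁻¹ᵁ O ≤ (i ≫ a ≫ q) ⁻¹ᵁ V := (Opens.map (i ≫ a).base).monotone hOV
  have hA := isPushout_sections hW hV hV' hO hVV hOV hO'
  have hB := isPushout_sections hX hV hV' (hO.preimage a) hVV hOX eX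
  have hC := isPushout_sections hY hV hV' (hO.preimage b) hVV hOY eY
  have hD := isPushout_sections hZ hV hV' ((hO.preimage a).preimage i) hVV hOZ eZ
  have fB : (a ≫ q).appLE V (a ⁻¹ᵁ O) hOX = q.appLE V O hOV ≫ a.app O := by
    rw [← Scheme.Hom.appLE_eq_app, Scheme.Hom.appLE_comp_appLE]
  have fC : (b ≫ q).appLE V (b ⁻¹ᵁ O) hOY = q.appLE V O hOV ≫ b.app O := by
    rw [← Scheme.Hom.appLE_eq_app, Scheme.Hom.appLE_comp_appLE]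
  have fD : (i ≫ a ≫ q).appLE V (i ⁻¹ᵁ a ⁻¹ᵁ O) hOZ = q.appLE V O hOV ≫ a.app O ≫ i.app (a ⁻¹ᵁ O) := by
    rw [← Scheme.Hom.appLE_eq_app, ← Scheme.Hom.appLE_eq_app, Scheme.Hom.appLE_comp_appLE,
      Scheme.Hom.appLE_comp_appLE]
    simp only [Category.assoc]
  rw [fB] at hB
  rw [fC] at hC
  rw [fD] at hD
  have comm : a.app O ≫ i.app (a ⁻¹ᵁ O) = b.app O ≫ j.appLE (b ⁻¹ᵁ O) (i ⁻¹ᵁ a ⁻¹ᵁ O) hVb.le := by
    rw [← Scheme.Hom.appLE_eq_app, ← Scheme.Hom.appLE_eq_app, ← Scheme.Hom.appLE_eq_app,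
      Scheme.Hom.appLE_comp_appLE, Scheme.Hom.appLE_comp_appLE]
    simp only [hpo.w]
  have hVb' : i' ⁻¹ᵁ a' ⁻¹ᵁ O' = j' ⁻¹ᵁ b' ⁻¹ᵁ O' := by
    have h1 : i' ⁻¹ᵁ a' ⁻¹ᵁ O' = (i' ≫ a') ⁻¹ᵁ O' := rfl
    rw [h1, hw']
    rfl
  have key := mil_baseChange (α' := a'.app O') (β' := b'.app O') (δ' := i'.app (a' ⁻¹ᵁ O'))
    (γ' := j'.appLE (b' ⁻¹ᵁ O') (i' ⁻¹ᵁ a' ⁻¹ᵁ O') hVb'.le) comm
    (i.app_surjective _ (hO.preimage a))
    (fun s t hst => (hgl.mil O).1 s t _ rfl hVb (by rw [Scheme.Hom.appLE_eq_app]; exact hst))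
    (hgl.mil O).2 hA hB hC hD
    (by simp only [← Scheme.Hom.appLE_eq_app, Scheme.Hom.appLE_comp_appLE, ha'])
    (by simp only [← Scheme.Hom.appLE_eq_app, Scheme.Hom.appLE_comp_appLE, ha])
    (by simp only [← Scheme.Hom.appLE_eq_app, Scheme.Hom.appLE_comp_appLE, hb'])
    (by simp only [← Scheme.Hom.appLE_eq_app, Scheme.Hom.appLE_comp_appLE, hb])
    (by simp only [← Scheme.Hom.appLE_eq_app, Scheme.Hom.appLE_comp_appLE, hi'])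
    (by simp only [← Scheme.Hom.appLE_eq_app, Scheme.Hom.appLE_comp_appLE, hi])
    (by simp only [Scheme.Hom.appLE_comp_appLE, hj'])
    (by simp only [Scheme.Hom.appLE_comp_appLE, hj])
    (by
      rcases hflat with h | h
      · left
        rw [← fD]
        exact (i ≫ a ≫ q).flat_appLE hV ((hO.preimage a).preimage i) hOZ
      · right
        exact g.flat_appLE hV hV' hVV)
  refine ⟨fun s t U hUa hUb hst => ?_, key.2⟩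
  subst hUa
  rw [Scheme.Hom.appLE_eq_app] at hst
  exact key.1 s t hst

end K263.PushBC
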