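import Groth.Agent.Flat2C.DomOpen
import Groth.Agent.Flat2C.BlowExist
import Groth.Agent.Flat2C.StrictTr

/-!
# Separated morphisms of finite type, iso over an open, become open immersions after admissible blow-ups

`exists_blowUps_openImmersion`: `f : X ⟶ Y` separated of finite type, an open immersion over the quasi-compact open
`U` of the qcqs scheme `Y`: there is a finite type ideal `𝓙` of `Y` with support exactly the complement of `U` such
that, with `c : Y' ⟶ Y` the blow-up in `𝓙` and `b : X' ⟶ X` the blow-up in `𝓙.comap f`, there is an open immersion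
`j : X' ⟶ Y'` over `f`; `j` is proper if `f` is.
-/

set_option autoImplicit false
universe u

open CategoryTheory AlgebraicGeometry Limits TopologicalSpace

namespace K263.AdmOpen

open Groth.Agent.Flat2C.StrictTr

theorem isAdmissibleFor_comap {X Y : Scheme.{u}} (f : X ⟶ Y) {U : Y.Opens} {𝓙 : Y.IdealSheafData}
    (h : BlowUp.IsAdmissibleFor U 𝓙) : BlowUp.IsAdmissibleFor (f ⁻¹ᵁ U) (𝓙.comap f) := by
  refine ⟨isFiniteTypeIdeal_comap h.1 f, ?_⟩
  rw [Set.disjoint_left]
  intro x hx hxU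
  have h1 : x ∈ ((𝓙.comap f).support : Set X) := hx
  rw [Scheme.IdealSheafData.support_comap] at h1
  exact Set.disjoint_left.mp h.2 h1 hxU

theorem exists_blowUps_openImmersion {X Y : Scheme.{u}} [CompactSpace Y] [QuasiSeparatedSpace Y]
    (f : X ⟶ Y) [IsSeparated f] [QuasiCompact f] [LocallyOfFiniteType f]
    (U : Y.Opens) (hU : IsCompact (U : Set Y)) [IsOpenImmersion (f ∣_ U)] :
    ∃ (𝓙 : Y.IdealSheafData) (X' Y' : Scheme.{u}) (b : X' ⟶ X) (c : Y' ⟶ Y) (j : X' ⟶ Y'),
      BlowUp.IsBlowUp b (𝓙.comap f) ∧ BlowUp.IsAdmissibleFor (f ⁻¹ᵁ U) (𝓙.comap f) ∧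
      BlowUp.IsBlowUp c 𝓙 ∧ BlowUp.IsAdmissibleFor U 𝓙 ∧ (𝓙.support : Set Y) = (U : Set Y)ᶜ ∧
      IsOpenImmersion j ∧ j ≫ c = b ≫ f ∧ (IsProper f → IsProper j) := by
  obtain ⟨𝓘, hadm, hsupp, h⟩ := Groth.Agent.Flat2C.DomOpen.exists_admissible_openImmersion f U hU
  obtain ⟨S', c, hc⟩ := Groth.Agent.Flat2C.BlowExist.exists_isBlowUp 𝓘
  have hpb := IsPullback.of_hasPullback f c
  have hK : IsKilledIdeal ((𝓘.comap f).comap (pullback.fst f c))
      (killedIdeal ((𝓘.comap f).comap (pullback.fst f c))) :=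
    isKilledIdeal_killedIdeal (isFiniteTypeIdeal_comap (isFiniteTypeIdeal_comap hadm.1 _) _)
  set 𝒥 := killedIdeal ((𝓘.comap f).comap (pullback.fst f c)) with h𝒥
  have hb := isBlowUp_strictTransform hc hpb hK
  have hj := h S' c hc.1 _ _ _ hpb 𝒥 hK
  refine ⟨𝓘, 𝒥.subscheme, S', 𝒥.subschemeι ≫ pullback.fst f c, c, 𝒥.subschemeι ≫ pullback.snd f c, hb,
    isAdmissibleFor_comap f hadm, hc, hadm, hsupp, hj, ?_, fun hf => inferInstance⟩
  rw [Category.assoc, Category.assoc, pullback.condition]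

end K263.AdmOpen
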