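import Groth.Agent.An.H526.T3Scheme
import Groth.Agent.S2080
import Groth.Prelude.Def_Curv2
import Mathlib.RingTheory.Etale.Field
import Mathlib.RingTheory.Etale.Locus
import Mathlib.AlgebraicGeometry.FunctionField

/-!
# Proper integral schemes dominated by a separable algebraic extension of the function field are generically étale
alterations
-/

set_option autoImplicit false
universe u

open CategoryTheory AlgebraicGeometry Limits TopologicalSpace

namespace K263.AltGen

/-- a finite extension of Noetherian domains with separable extension of fraction fields is étale over a localization -/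
theorem exists_etale_away {A B : Type u} [CommRing A] [IsDomain A] [IsNoetherianRing A] [CommRing B] [IsDomain B]
    [Algebra A B] [Module.Finite A B]
    (K L : Type u) [Field K] [Algebra A K] [IsFractionRing A K] [Field L] [Algebra B L] [IsFractionRing B L]
    [Algebra A L] [IsScalarTower A B L] [Algebra K L] [IsScalarTower A K L] [Algebra.IsSeparable K L] :
    ∃ a : A, a ≠ 0 ∧ Algebra.Etale A (Localization.Away (algebraMap A B a)) := by
  have h1 : Algebra.FormallyEtale A L := by
    have h2 : Algebra.FormallyEtale A K := Algebra.FormallyEtale.of_isLocalization (nonZeroDivisors A)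
    have h4 : Algebra.EssFiniteType B L := Algebra.EssFiniteType.of_isLocalization L (nonZeroDivisors B)
    have h5 : Algebra.EssFiniteType A L := Algebra.EssFiniteType.comp A B L
    have h6 : Algebra.EssFiniteType K L := Algebra.EssFiniteType.of_comp A K L
    have h3 : Algebra.FormallyEtale K L := (Algebra.FormallyEtale.iff_isSeparable K L).2 inferInstance
    exact Algebra.FormallyEtale.comp A K L
  have hL : IsLocalization.AtPrime L (⊥ : Ideal B) := by
    have : (⊥ : Ideal B).primeCompl = nonZeroDivisors B := by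
      ext x; simp [Ideal.primeCompl, mem_nonZeroDivisors_iff_ne_zero]
    rw [IsLocalization.AtPrime, this]
    infer_instance
  have h2 : Algebra.IsEtaleAt A (⊥ : Ideal B) := by
    let e : L ≃ₐ[B] Localization.AtPrime (⊥ : Ideal B) :=
      IsLocalization.algEquiv (⊥ : Ideal B).primeCompl _ _
    exact Algebra.FormallyEtale.of_equiv (e.restrictScalars A)
  have hfp : Algebra.FinitePresentation A B := Algebra.FinitePresentation.of_finiteType.1 inferInstance
  obtain ⟨b, hb, hbe⟩ := Algebra.exists_etale_of_isEtaleAt (R := A) (⊥ : Ideal B)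
  have hb0 : b ≠ 0 := hb
  have h3 : (Ideal.span {b}).comap (algebraMap A B) ≠ ⊥ :=
    Ideal.comap_ne_bot_of_integral_mem hb0 (Ideal.mem_span_singleton_self b) (Algebra.IsIntegral.isIntegral b)
  obtain ⟨a, ha, ha0⟩ := Submodule.exists_mem_ne_zero_of_ne_bot h3
  refine ⟨a, ha0, ?_⟩
  rw [← Algebra.basicOpen_subset_etaleLocus_iff_etale]
  refine subset_trans ?_ (Algebra.basicOpen_subset_etaleLocus_iff_etale.2 hbe)
  obtain ⟨c, hc⟩ := Ideal.mem_span_singleton'.1 (show algebraMap A B a ∈ Ideal.span {b} from ha)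
  intro p hp
  change algebraMap A B a ∉ p.asIdeal at hp
  change b ∉ p.asIdeal
  intro hbp
  apply hp
  rw [← hc]
  exact Ideal.mul_mem_left _ _ hbp

/-- Étaleness of the restriction over a basic open of an affine open with affine preimage. -/
theorem etale_morphismRestrict_basicOpen {W Z : Scheme.{u}} (f : W ⟶ Z)
    (U : Z.Opens) (hU : IsAffineOpen U) (hW : IsAffineOpen (f ⁻¹ᵁ U)) (r : Γ(Z, U))
    (h : ((algebraMap Γ(W, f ⁻¹ᵁ U) (Localization.Away (f.app U r))).comp (f.app U).hom).Etale) :
    Etale (f ∣_ Z.basicOpen r) := by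
  set V := Z.basicOpen r with hV
  have hWV : f ⁻¹ᵁ V = W.basicOpen (f.app U r) := Scheme.preimage_basicOpen f r
  have hVaff : IsAffineOpen (f ⁻¹ᵁ V) := by rw [hWV]; exact hW.basicOpen _
  have hle : f ⁻¹ᵁ V ≤ f ⁻¹ᵁ U := f.preimage_mono (Z.basicOpen_le r)
  -- the ring map to the sections over `f⁻¹ V`
  have h1 : (f.appLE U (f ⁻¹ᵁ V) hle).hom.Etale := by
    let _ : Algebra Γ(W, f ⁻¹ᵁ U) Γ(W, f ⁻¹ᵁ V) := (W.presheaf.map (homOfLE hle).op).hom.toAlgebra
    have hloc : IsLocalization.Away (f.app U r) Γ(W, f ⁻¹ᵁ V) :=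
      hW.isLocalization_of_eq_basicOpen (f.app U r) (homOfLE hle) hWV
    let e : Localization.Away (f.app U r) ≃ₐ[Γ(W, f ⁻¹ᵁ U)] Γ(W, f ⁻¹ᵁ V) :=
      IsLocalization.algEquiv (Submonoid.powers (f.app U r)) _ _
    have h2 := RingHom.Etale.respectsIso.1 _ e.toRingEquiv h
    convert h2 using 1
    ext x
    change (f.appLE U (f ⁻¹ᵁ V) hle).hom x = e (algebraMap _ _ ((f.app U).hom x))
    rw [e.commutes]
    rw [Scheme.Hom.appLE]
    rfl
  have h2 : Etale ((f ⁻¹ᵁ V).ι ≫ f) := by
    have h5 : Etale (Spec.map (f.appLE U (f ⁻¹ᵁ V) hle)) :=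
      (HasRingHomProperty.Spec_iff (P := @Etale)).2 h1
    have h6 : Etale (hVaff.fromSpec ≫ f) := by
      rw [← hU.SpecMap_appLE_fromSpec f hVaff hle]
      infer_instance
    have h7 : (f ⁻¹ᵁ V).ι = hVaff.isoSpec.hom ≫ hVaff.fromSpec := by
      rw [hVaff.isoSpec_hom_fromSpec]
    rw [h7, Category.assoc]
    infer_instance
  have h3 : (f ∣_ V) ≫ V.ι = (f ⁻¹ᵁ V).ι ≫ f := morphismRestrict_ι f V
  have h4 : Etale ((f ∣_ V) ≫ V.ι) := by rw [h3]; exact h2
  exact Etale.of_comp _ V.ι

/-- finiteness over an open passes to smaller opens. -/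
theorem isFinite_morphismRestrict_of_le {W Z : Scheme.{u}} (f : W ⟶ Z) {U V : Z.Opens} (h : V ≤ U)
    (hU : IsFinite (f ∣_ U)) : IsFinite (f ∣_ V) := by
  have h1 : IsPullback (W.homOfLE (f.preimage_mono h)) (f ∣_ V) (f ∣_ U) (Z.homOfLE h) := by
    have h2 := isPullback_morphismRestrict f V
    have h3 := isPullback_morphismRestrict f U
    refine IsPullback.of_right (h₁₂ := (f ⁻¹ᵁ U).ι) (h₂₂ := U.ι) (v₁₃ := f) ?_ ?_ h3.flip
    · rw [Scheme.homOfLE_ι, Scheme.homOfLE_ι]
      exact h2.flip
    · rw [← cancel_mono U.ι, Category.assoc, morphismRestrict_ι, Scheme.homOfLE_ι_assoc, Category.assoc,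
        Scheme.homOfLE_ι, morphismRestrict_ι]
  exact MorphismProperty.of_isPullback (P := @IsFinite) h1 hU

theorem finite_app_of_isFinite {X Y : Scheme.{u}} (f : X ⟶ Y) {V : Y.Opens} (hV : IsAffineOpen V)
    (h : IsFinite (f ∣_ V)) : (f.app V).hom.Finite := by
  have : IsAffine V := hV
  have h1 := (f ∣_ V).finite_appTop
  rw [morphismRestrict_appTop] at h1
  have h2 : (f.app (V.ι ''ᵁ ⊤)).hom.Finite := by
    refine (RingHom.finite_respectsIso.cancel_right_isIso _ _).mp h1
  have key : ∀ V' : Y.Opens, V' = V → (f.app V').hom.Finite → (f.app V).hom.Finite := by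
    rintro V' rfl h; exact h
  exact key _ V.ι_image_top h2

section

variable {S S' : Scheme.{u}} [IsIntegral S] [IsIntegral S'] (g : S' ⟶ S)
  {Ω : Type u} [Field Ω] [Algebra S.functionField Ω] (o' : Spec (CommRingCat.of Ω) ⟶ S') [IsDominant o']
  (h : o' ≫ g = Spec.map (CommRingCat.ofHom (algebraMap S.functionField Ω)) ≫ S.fromSpecStalk (genericPoint S))

include h

omit [IsDominant o'] in
/-- the homomorphism of rings on affine opens -/
theorem exists_ringHom [IsDominant o'] {U : S.Opens} (hU : IsAffineOpen U) {W : S'.Opens} (hW : IsAffineOpen W)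
    (hWU : W ≤ g ⁻¹ᵁ U) [Nonempty U] [Nonempty W] : ∃ β : Γ(S', W) →+* Ω, Function.Injective β ∧
      ∀ a : Γ(S, U), β ((g.appLE U W hWU).hom a) = algebraMap S.functionField Ω (algebraMap Γ(S, U) S.functionField a) := by
  have hr : Set.range o' ⊆ Set.range hW.fromSpec := by
    rw [hW.range_fromSpec]
    rintro _ ⟨y, rfl⟩
    obtain ⟨w⟩ := (inferInstance : Nonempty W)
    obtain ⟨z, hz1, v, rfl⟩ := mem_closure_iff.1 (o'.denseRange w.1) W W.2 w.2
    rwa [Subsingleton.elim y v]
  obtain ⟨β, hβ⟩ := Spec.map_surjective (IsOpenImmersion.lift hW.fromSpec o' hr)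
  have hβ' : Spec.map β ≫ hW.fromSpec = o' := by rw [hβ, IsOpenImmersion.lift_fac]
  have hcomp : g.appLE U W hWU ≫ β = S.presheaf.germ U (genericPoint S)
      (((genericPoint_spec S).mem_open_set_iff U.2).2 (by simpa using (inferInstance : Nonempty U))) ≫
        CommRingCat.ofHom (algebraMap S.functionField Ω) := by
    apply Spec.map_injective
    rw [← cancel_mono hU.fromSpec, Spec.map_comp, Category.assoc, hU.SpecMap_appLE_fromSpec g hW hWU,
      ← Category.assoc, hβ', h, Spec.map_comp, Category.assoc]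
    congr 1
    rw [← hU.fromSpecStalk_eq_fromSpecStalk]
    rfl
  refine ⟨β.hom, ?_, ?_⟩
  · have hdom : DenseRange (Spec.map β) := by
      intro y
      rw [mem_closure_iff]
      intro O hO hy
      have he : Topology.IsOpenEmbedding hW.fromSpec := hW.fromSpec.isOpenEmbedding
      obtain ⟨z, hz1, w, hw⟩ := mem_closure_iff.1 (o'.denseRange (hW.fromSpec y)) (hW.fromSpec '' O)
        (he.isOpenMap _ hO) ⟨y, hy, rfl⟩
      obtain ⟨y', hy', rfl⟩ := hz1
      have : Spec.map β w = y' := he.injective (by rw [← hw, ← hβ']; rfl)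
      exact ⟨y', hy', w, this⟩
    have h2 : RingHom.ker β.hom ≤ nilradical _ := (PrimeSpectrum.denseRange_comap_iff_ker_le_nilRadical β.hom).1 hdom
    rw [nilradical_eq_zero] at h2
    exact (RingHom.injective_iff_ker_eq_bot _).2 (le_bot_iff.1 h2)
  · intro a
    exact congrArg (fun f => f.hom a) hcomp

/-- the fibre over the generic point is a point -/
theorem eq_genericPoint [Algebra.IsAlgebraic S.functionField Ω] (y : S') (hy : g y = genericPoint S) :
    y = genericPoint S' := by
  obtain ⟨_, ⟨U, hU, rfl⟩, hxU, -⟩ :=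
    S.isBasis_affineOpens.exists_subset_of_mem_open (Set.mem_univ (genericPoint S)) isOpen_univ
  have hyU : y ∈ g ⁻¹ᵁ U := by change g y ∈ U; rw [hy]; exact hxU
  obtain ⟨_, ⟨W, hW, rfl⟩, hyW, hWU⟩ := S'.isBasis_affineOpens.exists_subset_of_mem_open hyU (g ⁻¹ᵁ U).2
  have hWU' : W ≤ g ⁻¹ᵁ U := hWU
  have hUn : Nonempty U := ⟨⟨_, hxU⟩⟩
  have hWn : Nonempty W := ⟨⟨_, hyW⟩⟩
  obtain ⟨β, hβ, hcomp⟩ := exists_ringHom g o' h hU hW hWU'
  let _ : Algebra Γ(S, U) Γ(S', W) := (g.appLE U W hWU').hom.toAlgebra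
  have hK : IsFractionRing Γ(S, U) S.functionField := functionField_isFractionRing_of_isAffineOpen S U hU
  let _ : Algebra Γ(S, U) Ω := ((algebraMap S.functionField Ω).comp (algebraMap Γ(S, U) S.functionField)).toAlgebra
  have hT : IsScalarTower Γ(S, U) S.functionField Ω := IsScalarTower.of_algebraMap_eq fun _ => rfl
  have hAalg : Algebra.IsAlgebraic Γ(S, U) Ω :=
    (IsFractionRing.comap_isAlgebraic_iff (A := Γ(S, U)) (K := S.functionField) (C := Ω)).2 inferInstance
  let q := hW.primeIdealOf ⟨y, hyW⟩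
  have hq : q.asIdeal.comap (algebraMap Γ(S, U) Γ(S', W)) = ⊥ := by
    have e1 := IsAffineOpen.comap_primeIdealOf_appLE (f := g) (x := y) U hU W hW hWU' hyW
    have e2 : hU.primeIdealOf ⟨g y, hWU' hyW⟩ = genericPoint (Spec Γ(S, U)) := by
      rw [← hU.primeIdealOf_genericPoint]
      congr 1
      exact Subtype.ext hy
    rw [e2, genericPoint_eq_bot_of_affine] at e1
    exact congrArg PrimeSpectrum.asIdeal e1
  have hq0 : q.asIdeal = ⊥ := by
    by_contra hne
    obtain ⟨b, hb, hb0⟩ := Submodule.exists_mem_ne_zero_of_ne_bot hne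
    refine Ideal.comap_ne_bot_of_algebraic_mem hb0 hb ?_ hq
    obtain ⟨P, hP0, hP⟩ := hAalg.isAlgebraic (β b)
    refine ⟨P, hP0, hβ ?_⟩
    have e5 : β.comp (algebraMap Γ(S, U) Γ(S', W)) = algebraMap Γ(S, U) Ω := RingHom.ext hcomp
    rw [map_zero, Polynomial.aeval_def, Polynomial.hom_eval₂, e5]
    exact hP
  have e3 : hW.fromSpec q = y := hW.fromSpec_primeIdealOf ⟨y, hyW⟩
  have e4 : q = genericPoint (Spec Γ(S', W)) := by
    rw [genericPoint_eq_bot_of_affine]
    exact PrimeSpectrum.ext hq0
  rw [← e3, e4]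
  exact genericPoint_eq_of_isOpenImmersion hW.fromSpec

omit [IsIntegral S'] [IsDominant o'] in
theorem isDominant : IsDominant g := by
  have : IsDominant (o' ≫ g) := by
    rw [h]
    have h1 : IsDominant (S.fromSpecStalk (genericPoint S)) := by
      constructor
      intro x
      have h2 : (genericPoint S) ∈ Set.range (S.fromSpecStalk (genericPoint S)) :=
        ⟨IsLocalRing.closedPoint _, Scheme.fromSpecStalk_closedPoint⟩
      exact closure_mono (Set.singleton_subset_iff.2 h2) (by rw [(genericPoint_spec S).def]; trivial)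
    have h3 : Surjective (Spec.map (CommRingCat.ofHom (algebraMap S.functionField Ω))) := inferInstance
    infer_instance
  exact IsDominant.of_comp o' g

/-- **Generically étale alterations.** -/
theorem exists_etale [IsLocallyNoetherian S] [IsProper g] [Algebra.IsSeparable S.functionField Ω] :
    ∃ V : S.Opens, (V : Set S).Nonempty ∧ IsFinite (g ∣_ V) ∧ Etale (g ∣_ V) := by
  have halg : Algebra.IsAlgebraic S.functionField Ω := inferInstance
  have hfin : (g.base ⁻¹' {genericPoint S}).Finite :=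
    (Set.finite_singleton (genericPoint S')).subset fun y hy => eq_genericPoint g o' h y hy
  have hη : closure {genericPoint S} ∈ irreducibleComponents (S : Type u) := by
    rw [(genericPoint_spec S).def, irreducibleComponents_eq_singleton]
    rfl
  obtain ⟨U, hU, hηU, hUf⟩ := (Groth.Agent.S2080.result g (genericPoint S) hη).1 hfin
  have hUn : Nonempty U := ⟨⟨_, hηU⟩⟩
  have hW : IsAffineOpen (g ⁻¹ᵁ U) := by
    have : IsAffine U := hU
    exact isAffine_of_isAffineHom (g ∣_ U)
  have hdomg : IsDominant g := isDominant g o' h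
  have hWn : Nonempty (g ⁻¹ᵁ U : S'.Opens) := by
    obtain ⟨_, hz1, w, rfl⟩ := mem_closure_iff.1 (g.denseRange (genericPoint S)) U U.2 hηU
    exact ⟨⟨w, hz1⟩⟩
  have hle : g ⁻¹ᵁ U ≤ g ⁻¹ᵁ U := le_rfl
  obtain ⟨β, hβ, hcomp⟩ := exists_ringHom g o' h hU hW hle
  have happ : g.appLE U (g ⁻¹ᵁ U) hle = g.app U := by rw [Scheme.Hom.appLE_eq_app]
  rw [happ] at hcomp
  let _ : Algebra Γ(S, U) Γ(S', g ⁻¹ᵁ U) := (g.app U).hom.toAlgebra
  have hK : IsFractionRing Γ(S, U) S.functionField := functionField_isFractionRing_of_isAffineOpen S U hU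
  have hfinapp : (g.app U).hom.Finite := finite_app_of_isFinite g hU hUf
  have hfinm : Module.Finite Γ(S, U) Γ(S', g ⁻¹ᵁ U) := hfinapp
  have hnoe : IsNoetherianRing Γ(S, U) := IsLocallyNoetherian.component_noetherian ⟨U, hU⟩
  have hinjA : Function.Injective (algebraMap Γ(S, U) Γ(S', g ⁻¹ᵁ U)) := by
    intro a b hab
    have h1 := congrArg β hab
    have h2 : (algebraMap S.functionField Ω) (algebraMap Γ(S, U) S.functionField a) =
        (algebraMap S.functionField Ω) (algebraMap Γ(S, U) S.functionField b) := by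
      rw [← hcomp, ← hcomp]
      exact h1
    exact IsFractionRing.injective Γ(S, U) S.functionField ((algebraMap S.functionField Ω).injective h2)
  let L := FractionRing Γ(S', g ⁻¹ᵁ U)
  have hinjL : Function.Injective (algebraMap Γ(S, U) L) := by
    rw [IsScalarTower.algebraMap_eq Γ(S, U) Γ(S', g ⁻¹ᵁ U) L]
    exact (IsFractionRing.injective Γ(S', g ⁻¹ᵁ U) L).comp hinjA
  let _ : Algebra S.functionField L := (IsFractionRing.lift hinjL).toAlgebra
  have hT1 : IsScalarTower Γ(S, U) S.functionField L :=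
    IsScalarTower.of_algebraMap_eq fun x => (IsFractionRing.lift_algebraMap hinjL x).symm
  let γ : L →+* Ω := IsFractionRing.lift hβ
  have hγ : γ.comp (algebraMap S.functionField L) = algebraMap S.functionField Ω := by
    apply IsLocalization.ringHom_ext (nonZeroDivisors Γ(S, U))
    ext a
    change γ (algebraMap S.functionField L (algebraMap Γ(S, U) S.functionField a)) =
      algebraMap S.functionField Ω (algebraMap Γ(S, U) S.functionField a)
    rw [← hcomp, ← IsScalarTower.algebraMap_apply, IsScalarTower.algebraMap_apply Γ(S, U) Γ(S', g ⁻¹ᵁ U) L]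
    exact IsFractionRing.lift_algebraMap hβ _
  let γ' : L →ₐ[S.functionField] Ω := { γ with commutes' := fun x => congrArg (fun f => f x) hγ }
  have hsep : Algebra.IsSeparable S.functionField L := Algebra.IsSeparable.of_algHom S.functionField Ω γ'
  obtain ⟨a, ha0, hae⟩ := exists_etale_away (A := Γ(S, U)) (B := Γ(S', g ⁻¹ᵁ U)) S.functionField L
  have het : Etale (g ∣_ S.basicOpen a) := by
    refine etale_morphismRestrict_basicOpen g U hU hW a ?_
    exact RingHom.etale_algebraMap.2 hae
  refine ⟨S.basicOpen a, ?_, isFinite_morphismRestrict_of_le g (S.basicOpen_le a) hUf, het⟩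
  rw [Set.nonempty_iff_ne_empty]
  intro h0
  exact ha0 ((AlgebraicGeometry.basicOpen_eq_bot_iff a).1 (TopologicalSpace.Opens.ext h0))

/-- **Generically étale alterations.** -/
theorem exists_alteration [IsLocallyNoetherian S] [IsProper g] [Algebra.IsSeparable S.functionField Ω] :
    ∃ V : S.Opens, Curv2.IsAlteration g ∧ (V : Set S).Nonempty ∧ Etale (g ∣_ V) := by
  obtain ⟨V, h1, h2, h3⟩ := exists_etale g o' h
  exact ⟨V, ⟨inferInstance, inferInstance, inferInstance, isDominant g o' h, V, h1, h2⟩, h1, h3⟩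

end

end K263.AltGen
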