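import Groth.Agent.Ega43.GeomRedMain
import Groth.Agent.Desc.NormalSmooth
import Mathlib.RingTheory.Polynomial.ScaleRoots

/-!
# Flat algebras with geometrically reduced fibres over normal domains are integrally closed in their generic fibre
-/

set_option autoImplicit false
universe u

open TensorProduct Polynomial

namespace K263.IntClGeomRed

variable {R A : Type u} [CommRing R] [CommRing A] [Algebra R A]

theorem normalAt_of_isIntegrallyClosed [IsDomain R] [IsIntegrallyClosed R] (p : Ideal R) [p.IsPrime] :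
    Groth.Agent.Desc.NormalSmooth.NormalAt R p :=
  ⟨IsLocalization.isDomain_localization p.primeCompl_le_nonZeroDivisors,
    isIntegrallyClosed_of_isLocalization _ p.primeCompl p.primeCompl_le_nonZeroDivisors⟩

/-- The local statement at a smooth point. -/
theorem exists_notMem_mul_of_isSmoothAt [IsDomain R] [IsIntegrallyClosed R] [Module.Flat R A]
    [Algebra.FinitePresentation R A] {r : R} (hr : r ≠ 0) {a : A} (p : A[X]) (hp : p.Monic)
    (hpa : (p.scaleRoots (algebraMap R A r)).eval a = 0) (P : Ideal A) [P.IsPrime] [Algebra.IsSmoothAt R P] :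
    ∃ c ∉ P, ∃ d, c * a = algebraMap R A r * d := by
  obtain ⟨h1, h2⟩ := Groth.Agent.Desc.NormalSmooth.normalAt_of_isSmoothAt (A := R) P
    (normalAt_of_isIntegrallyClosed _)
  let AP := Localization.AtPrime P
  let L := FractionRing AP
  let f : A →+* L := (algebraMap AP L).comp (algebraMap A AP)
  have hflat : Module.Flat R AP := Module.Flat.trans R A AP
  have hrAP : algebraMap A AP (algebraMap R A r) ≠ 0 := by
    rw [← IsScalarTower.algebraMap_apply R A AP]
    intro h0
    have h3 : IsSMulRegular AP r := Module.Flat.isSMulRegular_of_nonZeroDivisors (mem_nonZeroDivisors_of_ne_zero hr)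
    have h4 : r • (1 : AP) = r • (0 : AP) := by
      rw [Algebra.smul_def, h0, zero_mul, smul_zero]
    exact one_ne_zero (h3 h4)
  have hfr : f (algebraMap R A r) ≠ 0 := by
    intro h0
    exact hrAP (IsFractionRing.injective AP L (by rw [map_zero]; exact h0))
  let x : L := f a / f (algebraMap R A r)
  have hx : IsIntegral AP x := by
    refine ⟨p.map (algebraMap A AP), hp.map _, ?_⟩
    rw [eval₂_map]
    change eval₂ f x p = 0
    have h3 := scaleRoots_eval₂_mul (p := p) f x (algebraMap R A r)
    rw [mul_div_cancel₀ _ hfr, eval₂_at_apply, hpa, map_zero] at h3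
    exact (mul_eq_zero.1 h3.symm).resolve_left (pow_ne_zero _ hfr)
  obtain ⟨y, hy⟩ := IsIntegrallyClosed.isIntegral_iff.mp hx
  have h4 : algebraMap A AP a = algebraMap A AP (algebraMap R A r) * y := by
    apply IsFractionRing.injective AP L
    rw [map_mul, hy]
    change f a = f (algebraMap R A r) * (f a / f (algebraMap R A r))
    rw [mul_div_cancel₀ _ hfr]
  obtain ⟨y0, s, rfl⟩ := IsLocalization.exists_mk'_eq P.primeCompl y
  rw [← IsLocalization.mk'_one (M := P.primeCompl) (S := AP) (algebraMap R A r), ← IsLocalization.mk'_mul,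
    IsLocalization.eq_mk'_iff_mul_eq, ← map_mul, IsLocalization.eq_iff_exists P.primeCompl] at h4
  obtain ⟨c, hc⟩ := h4
  refine ⟨c * s, fun h => ?_, c * y0, ?_⟩
  · exact (Ideal.IsPrime.mem_or_mem inferInstance h).elim c.2 s.2
  · rw [one_mul] at hc
    calc (c : A) * s * a = c * (a * s) := by ring
      _ = c * (algebraMap R A r * y0) := hc
      _ = algebraMap R A r * (c * y0) := by ring

theorem exists_eq_mul [IsDomain R] [IsIntegrallyClosed R] [Module.Flat R A]
    [Algebra.FinitePresentation R A] (hred : ∀ q : PrimeSpectrum A,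
      Groth.Agent.Ega43.GeomAt.GeomAtAlg (fun R _ => IsReduced R) R A q.asIdeal)
    {r : R} (hr : r ≠ 0) {a : A} (p : A[X]) (hp : p.Monic)
    (hpa : (p.scaleRoots (algebraMap R A r)).eval a = 0) : ∃ d, a = algebraMap R A r * d := by
  let J : Ideal A := Submodule.colon (Ideal.span {algebraMap R A r}) ({a} : Set A)
  have hJ : ∀ c, c ∈ J ↔ ∃ d, c * a = algebraMap R A r * d := by
    intro c
    simp only [J, Submodule.mem_colon_singleton, smul_eq_mul, Ideal.mem_span_singleton']
    constructor
    · rintro ⟨d, hd⟩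
      exact ⟨d, by rw [← hd, mul_comm]⟩
    · rintro ⟨d, hd⟩
      exact ⟨d, by rw [hd, mul_comm]⟩
  by_cases hJt : J = ⊤
  · obtain ⟨d, hd⟩ := (hJ 1).1 (hJt ▸ Submodule.mem_top)
    exact ⟨d, by rw [← hd, one_mul]⟩
  exfalso
  obtain ⟨m, hm, hJm⟩ := Ideal.exists_le_maximal J hJt
  have hmp : m.IsPrime := hm.isPrime
  obtain ⟨g, s, hs, hg, hreg, hflat⟩ := Groth.Agent.Ega43.GeomRedMain.exists_away_of_fieldAt (A := R) (B := A)
    ⟨m, hmp⟩ (hred ⟨m, hmp⟩)
  -- a power of `g` is in `J`
  have hgJ : g ∈ J.radical := by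
    rw [Ideal.radical_eq_sInf, Submodule.mem_sInf]
    rintro P ⟨hJP, hP⟩
    by_contra hgP
    have hsm : Algebra.IsSmoothAt R P := hg (show (⟨P, hP⟩ : PrimeSpectrum A) ∈ PrimeSpectrum.basicOpen g from hgP)
    obtain ⟨c, hc, hd⟩ := exists_notMem_mul_of_isSmoothAt hr p hp hpa P
    exact hc (hJP ((hJ c).2 hd))
  obtain ⟨N, hN⟩ := hgJ
  let As := Localization.Away s
  have hstep : ∀ x : As, (∃ y, algebraMap A As g * x = algebraMap A As (algebraMap R A r) * y) →
      ∃ y, x = algebraMap A As (algebraMap R A r) * y := by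
    rintro x ⟨y, hy⟩
    have h1 : IsSMulRegular (As ⧸ Ideal.span {algebraMap A As g}) r :=
      Module.Flat.isSMulRegular_of_nonZeroDivisors (mem_nonZeroDivisors_of_ne_zero hr)
    have h2 : r • (Ideal.Quotient.mk (Ideal.span {algebraMap A As g}) y) = r • 0 := by
      rw [smul_zero]
      have : r • (Ideal.Quotient.mk (Ideal.span {algebraMap A As g}) y) =
          Ideal.Quotient.mk (Ideal.span {algebraMap A As g}) (r • y) := rfl
      rw [this, Ideal.Quotient.eq_zero_iff_mem, Algebra.smul_def, IsScalarTower.algebraMap_apply R A As, ← hy]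
      exact Ideal.mul_mem_right _ _ (Ideal.mem_span_singleton_self _)
    have h3 := h1 h2
    rw [Ideal.Quotient.eq_zero_iff_mem, Ideal.mem_span_singleton'] at h3
    obtain ⟨z, rfl⟩ := h3
    refine ⟨z, ?_⟩
    have h4 : algebraMap A As g * (x - algebraMap A As (algebraMap R A r) * z) = 0 := by
      rw [mul_sub, hy]
      ring
    exact sub_eq_zero.1 ((mem_nonZeroDivisors_iff.1 hreg).1 _ h4)
  have hpow : ∀ (n : ℕ) (x : As), (∃ y, algebraMap A As g ^ n * x = algebraMap A As (algebraMap R A r) * y) →
      ∃ y, x = algebraMap A As (algebraMap R A r) * y := by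
    intro n
    induction n with
    | zero =>
      rintro x ⟨y, hy⟩
      exact ⟨y, by rwa [pow_zero, one_mul] at hy⟩
    | succ n ih =>
      rintro x ⟨y, hy⟩
      refine ih x (hstep _ ⟨y, ?_⟩)
      rw [← mul_assoc, ← pow_succ']
      exact hy
  obtain ⟨y, hy⟩ := hpow N (algebraMap A As a) (by
    obtain ⟨d, hd⟩ := (hJ _).1 hN
    exact ⟨algebraMap A As d, by rw [← map_pow, ← map_mul, hd, map_mul]⟩)
  obtain ⟨y0, t, rfl⟩ := IsLocalization.exists_mk'_eq (Submonoid.powers s) y
  rw [← IsLocalization.mk'_one (M := Submonoid.powers s) (S := As) (algebraMap R A r), ← IsLocalization.mk'_mul,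
    IsLocalization.eq_mk'_iff_mul_eq, ← map_mul, IsLocalization.eq_iff_exists (Submonoid.powers s)] at hy
  obtain ⟨c, hc⟩ := hy
  have hct : (c : A) * t ∈ J := by
    rw [hJ]
    refine ⟨c * y0, ?_⟩
    rw [one_mul] at hc
    calc (c : A) * t * a = c * (a * t) := by ring
      _ = c * (algebraMap R A r * y0) := hc
      _ = algebraMap R A r * (c * y0) := by ring
  have hpw : ∀ w : Submonoid.powers s, (w : A) ∉ m := by
    rintro ⟨_, n, rfl⟩ h
    exact hs (Ideal.IsPrime.mem_of_pow_mem hmp n h)
  exact (Ideal.IsPrime.mem_or_mem hmp (hJm hct)).elim (hpw c) (hpw t)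

/-- Fibres reduced after all extensions. -/
theorem geomAtAlg_of_isReduced (hred : ∀ (K : Type u) [Field K] [Algebra R K], IsReduced (A ⊗[R] K))
    (q : PrimeSpectrum A) : Groth.Agent.Ega43.GeomAt.GeomAtAlg (fun R _ => IsReduced R) R A q.asIdeal := by
  intro K _ _ Q _ _
  have := hred K
  infer_instance

/-- Version with an integral element in an extension. -/
theorem exists_eq_mul_of_isIntegral [IsDomain R] [IsIntegrallyClosed R] [Module.Flat R A]
    [Algebra.FinitePresentation R A] (hred : ∀ q : PrimeSpectrum A,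
      Groth.Agent.Ega43.GeomAt.GeomAtAlg (fun R _ => IsReduced R) R A q.asIdeal)
    {B : Type*} [CommRing B] [Algebra A B] (hinj : Function.Injective (algebraMap A B)) {r : R} (hr : r ≠ 0)
    {a : A} {b : B} (hb : IsIntegral A b) (hab : algebraMap A B (algebraMap R A r) * b = algebraMap A B a) :
    ∃ d, a = algebraMap R A r * d := by
  obtain ⟨p, hp, hpb⟩ := hb
  refine exists_eq_mul hred hr p hp ?_
  apply hinj
  rw [map_zero, ← eval₂_at_apply, ← hab]
  have h3 := scaleRoots_eval₂_mul (p := p) (algebraMap A B) b (algebraMap R A r)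
  rw [h3, hpb, mul_zero]

end K263.IntClGeomRed
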