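import Groth.Agent.FlatMor.K263.GenFibre
import Groth.Agent.FlatMor.K263.IntClGeomRed
import Groth.Agent.Ega3B.NormalBirational
import Groth.Prelude.Def_Pi1
import Mathlib.AlgebraicGeometry.Morphisms.Finite

/-!
# Integral modifications of flat schemes with geometrically reduced fibres over a normal base

`isIso_of_isIntegralHom`: let `S` be normal integral, `X` flat, locally of finite presentation over `S` with
geometrically reduced fibres. An integral morphism `f : X' ⟶ X` such that the generic fibre of `X'` is schematically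
dense and maps isomorphically to the generic fibre of `X` is an isomorphism.
-/

set_option autoImplicit false
universe u

open CategoryTheory AlgebraicGeometry Limits TopologicalSpace

namespace K263.EtaFinite

open K263.GenFibre

/-- An affine morphism which is bijective on sections over affine opens covering the target is an isomorphism. -/
theorem isIso_of_bijective_app {X' X : Scheme.{u}} (f : X' ⟶ X) [IsAffineHom f]
    (h : ∀ x : X, ∃ W : X.Opens, IsAffineOpen W ∧ x ∈ W ∧ Function.Bijective (f.app W)) : IsIso f := by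
  choose O hO hxO key using h
  let Ua : X → X.affineOpens := fun x => ⟨O x, hO x⟩
  have hsup : ⨆ x, (Ua x : X.Opens) = ⊤ :=
    top_le_iff.mp fun x _ => Opens.mem_iSup.mpr ⟨x, hxO x⟩
  rw [← MorphismProperty.isomorphisms.iff]
  refine (HasAffineProperty.iff_of_iSup_eq_top (P := MorphismProperty.isomorphisms Scheme.{u})
    Ua hsup).mpr fun x => ?_
  have hi : IsIso (f.app ((O x).ι ''ᵁ ⊤)) := (ConcreteCategory.isIso_iff_bijective _).mpr
    (by rw [Scheme.Opens.ι_image_top]; exact key x)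
  refine ⟨(hO x).preimage f, ?_⟩
  rw [morphismRestrict_appTop]
  have h2 : ∀ (V V' : X'.Opens) (e : V = V'), IsIso (X'.presheaf.map (eqToHom e).op) := by
    rintro V _ rfl
    infer_instance
  exact IsIso.comp_isIso' hi (h2 _ _ _)

theorem app_square {A B C D : Scheme.{u}} {f : A ⟶ B} {g : A ⟶ C} {h : B ⟶ D} {k : C ⟶ D} (w : f ≫ h = g ≫ k)
    (U : D.Opens) (s : Γ(D, U)) (hs : f.app (h ⁻¹ᵁ U) (h.app U s) = 0) : g.app (k ⁻¹ᵁ U) (k.app U s) = 0 := by
  rw [← K263.PushChar.app_comp_apply] at hs ⊢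
  have h5 : ∀ (f f' : A ⟶ D) (e : f = f'), f.app U s = 0 → f'.app U s = 0 := by
    rintro f _ rfl h; exact h
  exact h5 _ _ w hs

theorem isIso_of_isIntegralHom {S X X' Xη X'η : Scheme.{u}} [IsIntegral S] (hS : Pi1.IsNormalScheme S)
    (φ : X ⟶ S) [Flat φ] [LocallyOfFinitePresentation φ]
    (hgeom : ∀ x, Groth.Agent.Ega43.GeomAt.GeomAt (fun R _ => _root_.IsReduced R) φ x)
    (f : X' ⟶ X) [IsIntegralHom f] {p : Xη ⟶ X} {q : Xη ⟶ Spec (S.presheaf.stalk (genericPoint S))}
    (H : IsPullback p q φ (S.fromSpecStalk (genericPoint S))) {p' : X'η ⟶ X'} {f' : X'η ⟶ Xη}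
    (H' : IsPullback p' f' f p) (hf' : IsIso f') (hdom : IsSchemeTheoreticallyDominant p') : IsIso f := by
  have hdp := dominant_of_flat H
  have hqp := quasiCompact H
  have hqp' : QuasiCompact p' := MorphismProperty.of_isPullback (P := @QuasiCompact) H'.flip hqp
  refine isIso_of_bijective_app f fun x => ?_
  obtain ⟨V, hV, hxV, -⟩ := exists_isAffineOpen_mem_and_subset (U := (⊤ : S.Opens)) (x := φ x) trivial
  obtain ⟨W, hW, hxW, e⟩ := exists_isAffineOpen_mem_and_subset (U := φ ⁻¹ᵁ V) (x := x) hxV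
  refine ⟨W, hW, hxW, ?_⟩
  have hη : genericPoint S ∈ V := ((genericPoint_spec S).mem_open_set_iff V.isOpen).mpr (by
    simpa using ⟨_, hxV⟩)
  have hne : Nonempty V := ⟨⟨_, hη⟩⟩
  -- injectivity
  have hker : ∀ s : Γ(X, W), f.app W s = 0 → s = 0 := by
    intro s hs
    apply p.app_injective W
    have h1 : p'.app (f ⁻¹ᵁ W) (f.app W s) = 0 := by rw [hs, map_zero]
    have h2 := app_square H'.w W s h1
    have h3 : Function.Injective (f'.app (p ⁻¹ᵁ W)) := (ConcreteCategory.bijective_of_isIso (f'.app (p ⁻¹ᵁ W))).1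
    rw [map_zero]
    exact h3 (by rw [h2, map_zero])
  have hinj : Function.Injective (f.app W) := (injective_iff_map_eq_zero _).2 hker
  refine ⟨hinj, fun b => ?_⟩
  -- `r b = f^♯ a`
  have hbij : Function.Bijective (f'.app (p ⁻¹ᵁ W)) := ConcreteCategory.bijective_of_isIso (f'.app (p ⁻¹ᵁ W))
  have happ : ∀ s : Γ(X, W), ∀ (hle : f' ⁻¹ᵁ p ⁻¹ᵁ W ≤ p' ⁻¹ᵁ f ⁻¹ᵁ W),
      X'η.presheaf.map (homOfLE hle).op (p'.app (f ⁻¹ᵁ W) (f.app W s)) = f'.app (p ⁻¹ᵁ W) (p.app W s) := by
    intro s hle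
    rw [← K263.PushChar.app_comp_apply, ← K263.PushChar.app_comp_apply]
    have h5 : ∀ (g g' : X'η ⟶ X) (e : g = g') (hle : g' ⁻¹ᵁ W ≤ g ⁻¹ᵁ W),
        X'η.presheaf.map (homOfLE hle).op (g.app W s) = g'.app W s := by
      rintro g _ rfl hle
      have : (homOfLE hle).op = 𝟙 _ := Subsingleton.elim _ _
      rw [this, X'η.presheaf.map_id]
      rfl
    exact h5 _ _ H'.w hle
  have hle : f' ⁻¹ᵁ p ⁻¹ᵁ W = p' ⁻¹ᵁ f ⁻¹ᵁ W := by
    rw [← Scheme.Hom.comp_preimage, ← Scheme.Hom.comp_preimage, H'.w]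
  obtain ⟨x₀, hx₀⟩ := hbij.2 (X'η.presheaf.map (homOfLE hle.le).op (p'.app (f ⁻¹ᵁ W) b))
  obtain ⟨r, hr, a, ha⟩ := exists_mul_eq H hV hη hW e x₀
  have hp'inj : Function.Injective (fun b : Γ(X', f ⁻¹ᵁ W) =>
      X'η.presheaf.map (homOfLE hle.le).op (p'.app (f ⁻¹ᵁ W) b)) := by
    intro b₁ b₂ hb
    apply p'.app_injective (f ⁻¹ᵁ W)
    have h6 : ∀ (O O' : X'η.Opens) (e : O = O') (s t : Γ(X'η, O')), X'η.presheaf.map (homOfLE e.le).op s =
        X'η.presheaf.map (homOfLE e.le).op t → s = t := by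
      rintro O _ rfl s t hst
      have : (homOfLE (le_refl O)).op = 𝟙 _ := Subsingleton.elim _ _
      rw [this, X'η.presheaf.map_id] at hst
      exact hst
    exact h6 _ _ hle _ _ hb
  have hrb : f.app W (φ.appLE V W e r) * b = f.app W a := by
    apply hp'inj
    simp only
    rw [map_mul, map_mul, happ _ hle.le, happ _ hle.le, ← hx₀, ← map_mul, ha]
  -- integrality
  have hint : (f.app W).hom.IsIntegral := f.isIntegral_app W hW
  let _ : Algebra Γ(S, V) Γ(X, W) := (φ.appLE V W e).hom.toAlgebra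
  let _ : Algebra Γ(X, W) Γ(X', f ⁻¹ᵁ W) := (f.app W).hom.toAlgebra
  have hfl : Module.Flat Γ(S, V) Γ(X, W) := φ.flat_appLE hV hW e
  have hfp : Algebra.FinitePresentation Γ(S, V) Γ(X, W) := φ.finitePresentation_appLE hV hW e
  have hcl : IsIntegrallyClosed Γ(S, V) :=
    Groth.Agent.Ega3B.NormalBirational.isIntegrallyClosed_section (fun y => (hS y).2) V hV
  have hP := Groth.Agent.Ega43.GeomRedMain.isoClosed_isReduced.{u}
  obtain ⟨d, hd⟩ := IntClGeomRed.exists_eq_mul_of_isIntegral (R := Γ(S, V)) (A := Γ(X, W))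
    (fun z => (Groth.Agent.Ega43.GeomAt.geomAt_fromSpec_iff_alg hP φ hV hW e z).1 (hgeom _))
    (B := Γ(X', f ⁻¹ᵁ W)) hinj hr (hint b) hrb
  refine ⟨d, ?_⟩
  -- torsion freeness
  apply hp'inj
  have hu := isUnit_app H hη (W := W) e r hr
  have hu' : IsUnit (f'.app (p ⁻¹ᵁ W) (p.app W (φ.appLE V W e r))) := hu.map _
  apply hu'.mul_left_cancel
  have hd' : a = φ.appLE V W e r * d := hd
  have h7 := congrArg (fun s => X'η.presheaf.map (homOfLE hle.le).op (p'.app (f ⁻¹ᵁ W) s)) hrb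
  simp only [map_mul] at h7
  rw [happ _ hle.le, happ _ hle.le, hd', map_mul, map_mul] at h7
  simp only
  rw [h7, happ _ hle.le]

end K263.EtaFinite
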