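import Groth.Agent.FlatMor.K263.EtaUniq
import Mathlib.AlgebraicGeometry.Normalization

/-!
# Gluing of flat modifications with geometrically reduced fibres

`EtaRed φ`: there is a finite morphism `X' ⟶ X`, an isomorphism over the generic fibre, with `X'` flat of finite
presentation over `S` and with geometrically reduced fibres.
* `EtaRed.of_cover`: over a normal base this is local on `X`;
* `EtaRed.of_isOpenImmersion`: composition with an open immersion into a larger base;
* `EtaRed.baseChange`: base change by dominant morphisms of integral schemes.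
-/

set_option autoImplicit false
universe u

open CategoryTheory AlgebraicGeometry Limits TopologicalSpace

namespace K263.EtaRed

open K263.GenFibre

/-- Existence of a finite `η`-modification which is flat, of finite presentation, with geometrically reduced fibres. -/
def EtaRed {S X : Scheme.{u}} [IsIntegral S] (φ : X ⟶ S) : Prop :=
  ∃ (X' : Scheme.{u}) (ψ : X' ⟶ X), IsFinite ψ ∧
    IsIso (pullback.snd ψ (pullback.fst φ (S.fromSpecStalk (genericPoint S)))) ∧
    Flat (ψ ≫ φ) ∧ LocallyOfFinitePresentation (ψ ≫ φ) ∧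
    ∀ (K : Type u) [Field K] (k : Spec (CommRingCat.of K) ⟶ S), _root_.AlgebraicGeometry.IsReduced (pullback (ψ ≫ φ) k)

/-- all fibres are geometrically reduced, stalk version -/
def Red {X S : Scheme.{u}} (f : X ⟶ S) : Prop :=
  ∀ x, Groth.Agent.Ega43.GeomAt.GeomAt (fun R _ => _root_.IsReduced R) f x

theorem isoClosed : Groth.Agent.Ega43.GeomAt.IsoClosed.{u} (fun R _ => _root_.IsReduced R) :=
  Groth.Agent.Ega43.GeomRedMain.isoClosed_isReduced.{u}

theorem red_iff {X S : Scheme.{u}} (f : X ⟶ S) :
    Red f ↔ ∀ (K : Type u) [Field K] (k : Spec (CommRingCat.of K) ⟶ S),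
      _root_.AlgebraicGeometry.IsReduced (pullback f k) := by
  constructor
  · intro h K _ k
    have : ∀ z : ↥(pullback f k), _root_.IsReduced ((pullback f k).presheaf.stalk z) := fun z =>
      h _ K _ _ _ k (IsPullback.of_hasPullback f k) z rfl
    exact isReduced_of_isReduced_stalk _
  · intro h x
    rw [Groth.Agent.Ega43.GeomAt.geomAt_iff_pullback isoClosed]
    intro K _ j x' _
    have := h K j
    infer_instance

theorem red_of_isPullback {X Y X' Y' : Scheme.{u}} {f : X ⟶ Y}
    {g' : X' ⟶ X} {f' : X' ⟶ Y'} {g : Y' ⟶ Y} (H : IsPullback g' f' f g) (h : Red f) : Red f' :=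
  fun x => EtaUniq.geomAt_of_isPullback (P := fun R _ => _root_.IsReduced R) H h x

theorem etaRed_iff {S X : Scheme.{u}} [IsIntegral S] (φ : X ⟶ S) :
    EtaRed φ ↔ ∃ (X' : Scheme.{u}) (ψ : X' ⟶ X), IsFinite ψ ∧
      IsIso (pullback.snd ψ (pullback.fst φ (S.fromSpecStalk (genericPoint S)))) ∧
      Flat (ψ ≫ φ) ∧ LocallyOfFinitePresentation (ψ ≫ φ) ∧ Red (ψ ≫ φ) := by
  constructor
  · rintro ⟨X', ψ, h1, h2, h3, h4, h5⟩
    exact ⟨X', ψ, h1, h2, h3, h4, (red_iff _).2 h5⟩
  · rintro ⟨X', ψ, h1, h2, h3, h4, h5⟩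
    exact ⟨X', ψ, h1, h2, h3, h4, (red_iff _).1 h5⟩

/-- Isomorphisms after pulling back are stable under further pullback. -/
theorem isIso_snd_of_factor {X X' P Q : Scheme.{u}} (ψ : X' ⟶ X) (p : P ⟶ X) (q : Q ⟶ X) (r : Q ⟶ P) (hr : r ≫ p = q)
    (h : IsIso (pullback.snd ψ p)) : IsIso (pullback.snd ψ q) := by
  have h1 : IsPullback (pullback.fst ψ p) (pullback.snd ψ p) ψ p := IsPullback.of_hasPullback _ _
  have h2 : IsPullback (pullback.fst (pullback.snd ψ p) r) (pullback.snd (pullback.snd ψ p) r) (pullback.snd ψ p) r :=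
    IsPullback.of_hasPullback _ _
  have h3 := h2.paste_horiz h1
  rw [hr] at h3
  have h4 : IsIso (pullback.snd (pullback.snd ψ p) r) := inferInstance
  have h5 : pullback.snd ψ q = h3.isoPullback.inv ≫ pullback.snd (pullback.snd ψ p) r := by
    rw [IsPullback.isoPullback_inv_snd]
  rw [h5]
  infer_instance

theorem flat_fromSpecStalk (Y : Scheme.{u}) (y : Y) : Flat (Y.fromSpecStalk y) := by
  obtain ⟨_, ⟨U, hU, rfl⟩, hyU, -⟩ :=
    Y.isBasis_affineOpens.exists_subset_of_mem_open (Set.mem_univ y) isOpen_univ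
  rw [← hU.fromSpecStalk_eq_fromSpecStalk hyU]
  dsimp only [IsAffineOpen.fromSpecStalk]
  have : Flat (Spec.map (Y.presheaf.germ U y hyU)) := by
    rw [Flat.SpecMap_iff]
    let : Algebra Γ(Y, U) (Y.presheaf.stalk y) := (Y.presheaf.germ U y hyU).hom.toAlgebra
    have := hU.isLocalization_stalk ⟨y, hyU⟩
    exact IsLocalization.flat (Y.presheaf.stalk y) (hU.primeIdealOf ⟨y, hyU⟩).asIdeal.primeCompl
  have h2 : Flat hU.fromSpec := inferInstance
  exact Flat.comp _ _

theorem mono_fst {S X : Scheme.{u}} [IsIntegral S] (φ : X ⟶ S) :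
    Mono (pullback.fst φ (S.fromSpecStalk (genericPoint S))) := inferInstance

theorem flat_fst {S X : Scheme.{u}} [IsIntegral S] (φ : X ⟶ S) :
    Flat (pullback.fst φ (S.fromSpecStalk (genericPoint S))) := by
  have := flat_fromSpecStalk S (genericPoint S)
  infer_instance

/-- a schematically dominant section over a flat monomorphism -/
theorem isIso_snd_of_section {X N P : Scheme.{u}} (M : N ⟶ X) [IsSeparated M] (p : P ⟶ X) [Mono p] [Flat p]
    (s : P ⟶ N) [QuasiCompact s] [IsSchemeTheoreticallyDominant s] (hs : s ≫ M = p) : IsIso (pullback.snd M p) := by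
  let l : P ⟶ pullback M p := pullback.lift s (𝟙 P) (by rw [hs, Category.id_comp])
  have hl1 : l ≫ pullback.fst M p = s := pullback.lift_fst _ _ _
  have hl2 : l ≫ pullback.snd M p = 𝟙 P := pullback.lift_snd _ _ _
  have H : IsPullback l (𝟙 P) (pullback.fst M p) s := by
    refine IsPullback.of_isLimit' ⟨by rw [hl1, Category.id_comp]⟩ ?_
    refine PullbackCone.IsLimit.mk _ (fun c => c.snd) ?_ ?_ ?_
    · intro c
      apply pullback.hom_ext
      · rw [Category.assoc, hl1, c.condition]
      · rw [Category.assoc, hl2, Category.comp_id, ← cancel_mono p, Category.assoc, ← pullback.condition,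
          ← Category.assoc, c.condition, Category.assoc, hs]
    · intro c
      exact Category.comp_id _
    · intro c m' hm1 hm2
      rw [← hm2]
      exact (Category.comp_id _).symm
  have hdom : IsSchemeTheoreticallyDominant l := IsSchemeTheoreticallyDominant.of_isPullback H.flip
  have hci : IsClosedImmersion l := by
    have : IsClosedImmersion (l ≫ pullback.snd M p) := by rw [hl2]; infer_instance
    exact IsClosedImmersion.of_comp l (pullback.snd M p)
  have hiso : IsIso l := IsClosedImmersion.isIso_of_ker_eq l (𝟙 _) l (Category.comp_id _) (by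
    rw [hdom.ker_eq_bot, Scheme.Hom.ker_eq_bot])
  have h1 : pullback.snd M p = inv l := by
    rw [← cancel_epi l, hl2, IsIso.hom_inv_id]
  rw [h1]
  infer_instance

section Cover

variable {S X : Scheme.{u}} [IsIntegral S] (hS : Pi1.IsNormalScheme S) (φ : X ⟶ S)

include hS in
/-- Comparison of a given modification over an open subscheme with the normalisation in the generic fibre. -/
theorem exists_iso {O P : Scheme.{u}} (g : O ⟶ X) (q : P ⟶ O) {t : P ⟶ Spec (S.presheaf.stalk (genericPoint S))}
    (HP : IsPullback q t (g ≫ φ) (S.fromSpecStalk (genericPoint S))) [QuasiCompact q] [QuasiSeparated q]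
    {X' : Scheme.{u}} (ψ : X' ⟶ O) [IsFinite ψ] (hη : IsIso (pullback.snd ψ q))
    [Flat (ψ ≫ g ≫ φ)] [LocallyOfFinitePresentation (ψ ≫ g ≫ φ)] (hred : Red (ψ ≫ g ≫ φ)) :
    ∃ d : q.normalization ⟶ X', IsIso d ∧ d ≫ ψ = q.fromNormalization := by
  let s : P ⟶ X' := inv (pullback.snd ψ q) ≫ pullback.fst ψ q
  have hs : s ≫ ψ = q := by
    simp only [s, Category.assoc]
    rw [pullback.condition, IsIso.inv_hom_id_assoc]
  let d := q.normalizationDesc s ψ hs.symm
  have hd1 : q.toNormalization ≫ d = s := q.toNormalization_normalizationDesc _ _ _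
  have hd2 : d ≫ ψ = q.fromNormalization := q.normalizationDesc_comp _ _ _
  refine ⟨d, ?_, hd2⟩
  have hq1 : Mono q := MorphismProperty.of_isPullback (P := MorphismProperty.monomorphisms Scheme.{u}) HP.flip
    (MorphismProperty.monomorphisms.infer_property _)
  have hq2 : Flat q := MorphismProperty.of_isPullback (P := @Flat) HP.flip (flat_fromSpecStalk S _)
  have hint : IsIntegralHom d := inferInstance
  -- the generic fibre of `X'`
  have H1 : IsPullback s (𝟙 P) ψ q := by
    have h1 : IsPullback (pullback.fst ψ q) (pullback.snd ψ q) ψ q := IsPullback.of_hasPullback _ _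
    refine IsPullback.of_iso h1 (asIso (pullback.snd ψ q)) (Iso.refl _) (Iso.refl _) (Iso.refl _) ?_ ?_ ?_ ?_
    · simp [s]
    · simp
    · simp
    · simp
  have H : IsPullback s t (ψ ≫ g ≫ φ) (S.fromSpecStalk (genericPoint S)) := by
    have := H1.paste_vert HP
    rwa [Category.id_comp] at this
  have hs1 : Mono s := MorphismProperty.of_isPullback (P := MorphismProperty.monomorphisms Scheme.{u}) H.flip
    (MorphismProperty.monomorphisms.infer_property _)
  have hs2 : Flat s := MorphismProperty.of_isPullback (P := @Flat) H.flip (flat_fromSpecStalk S _)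
  have hdomn : IsSchemeTheoreticallyDominant q.toNormalization := ⟨q.ker_toNormalization⟩
  have hiso : IsIso (pullback.snd d s) := isIso_snd_of_section d s q.toNormalization hd1
  have hdom : IsSchemeTheoreticallyDominant (pullback.fst d s) := by
    have h2 : pullback.lift q.toNormalization (𝟙 P) (by rw [hd1, Category.id_comp]) ≫ pullback.fst d s =
      q.toNormalization := pullback.lift_fst _ _ _
    have : IsSchemeTheoreticallyDominant
        (pullback.lift q.toNormalization (𝟙 P) (by rw [hd1, Category.id_comp]) ≫ pullback.fst d s) := by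
      rw [h2]; exact hdomn
    exact K263.ToImage.of_comp (pullback.lift q.toNormalization (𝟙 P) _) (pullback.fst d s)
  exact K263.EtaFinite.isIso_of_isIntegralHom hS (ψ ≫ g ≫ φ) hred d H (IsPullback.of_hasPullback d s) hiso hdom

include hS in
/-- Over a normal integral base the existence of the modification is local on `X`. -/
theorem of_openCover (𝒰 : X.OpenCover) (h : ∀ i, EtaRed (𝒰.f i ≫ φ)) : EtaRed φ := by
  simp only [etaRed_iff] at h
  rw [etaRed_iff]
  set p := pullback.fst φ (S.fromSpecStalk (genericPoint S)) with hp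
  have hqc : QuasiCompact p := quasiCompact (IsPullback.of_hasPullback φ (S.fromSpecStalk (genericPoint S)))
  have hm : Mono p := mono_fst φ
  have hfl : Flat p := flat_fst φ
  have hqs : QuasiSeparated p := inferInstance
  have key : ∀ i, ∃ (X' : Scheme.{u}) (ψ : X' ⟶ 𝒰.X i) (e : pullback p.fromNormalization (𝒰.f i) ⟶ X'),
      IsIso e ∧ e ≫ ψ = pullback.snd p.fromNormalization (𝒰.f i) ∧ IsFinite ψ ∧ Flat (ψ ≫ 𝒰.f i ≫ φ) ∧
      LocallyOfFinitePresentation (ψ ≫ 𝒰.f i ≫ φ) ∧ Red (ψ ≫ 𝒰.f i ≫ φ) := by
    intro i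
    obtain ⟨X', ψ, h1, h2, h3, h4, h5⟩ := h i
    have HP : IsPullback (pullback.snd p (𝒰.f i)) (pullback.fst p (𝒰.f i) ≫ pullback.snd φ _) (𝒰.f i ≫ φ)
        (S.fromSpecStalk (genericPoint S)) :=
      (IsPullback.of_hasPullback p (𝒰.f i)).flip.paste_vert (IsPullback.of_hasPullback φ (S.fromSpecStalk (genericPoint S)))
    have hη : IsIso (pullback.snd ψ (pullback.snd p (𝒰.f i))) := by
      refine isIso_snd_of_factor ψ (pullback.fst (𝒰.f i ≫ φ) (S.fromSpecStalk (genericPoint S))) _ HP.isoPullback.hom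
        ?_ h2
      exact HP.isoPullback_hom_fst
    obtain ⟨d, hd, hdψ⟩ := exists_iso hS φ (𝒰.f i) (pullback.snd p (𝒰.f i)) HP ψ hη h5
    refine ⟨X', ψ, inv (p.normalizationPullback (𝒰.f i)) ≫ d, inferInstance, ?_, h1, h3, h4, h5⟩
    rw [Category.assoc, hdψ, IsIso.inv_comp_eq]
    exact (p.normalizationPullback_snd (𝒰.f i)).symm
  choose X' ψ e he heψ h1 h3 h4 h5 using key
  have hcomp : ∀ i, pullback.fst p.fromNormalization (𝒰.f i) ≫ p.fromNormalization ≫ φ =
      e i ≫ ψ i ≫ 𝒰.f i ≫ φ := by
    intro i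
    rw [← Category.assoc, pullback.condition, ← heψ i]
    simp only [Category.assoc]
  refine ⟨p.normalization, p.fromNormalization, ?_, ?_, ?_, ?_, ?_⟩
  · refine (IsZariskiLocalAtTarget.iff_of_openCover (P := @IsFinite) 𝒰).2 fun i => ?_
    have h6 : IsFinite (pullback.snd p.fromNormalization (𝒰.f i)) := by
      rw [← heψ i]
      have := h1 i
      infer_instance
    exact h6
  · have hdom : IsSchemeTheoreticallyDominant p.toNormalization := ⟨p.ker_toNormalization⟩
    exact isIso_snd_of_section p.fromNormalization p p.toNormalization p.toNormalization_fromNormalization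
  · refine (IsZariskiLocalAtSource.iff_of_openCover (P := @Flat) (𝒰.pullback₁ p.fromNormalization)).2 fun i => ?_
    have h6 : Flat (pullback.fst p.fromNormalization (𝒰.f i) ≫ p.fromNormalization ≫ φ) := by
      rw [hcomp]
      have := h3 i
      infer_instance
    exact h6
  · refine (IsZariskiLocalAtSource.iff_of_openCover (P := @LocallyOfFinitePresentation)
      (𝒰.pullback₁ p.fromNormalization)).2 fun i => ?_
    have h6 : LocallyOfFinitePresentation (pullback.fst p.fromNormalization (𝒰.f i) ≫ p.fromNormalization ≫ φ) := by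
      rw [hcomp]
      have := h4 i
      infer_instance
    exact h6
  · intro x
    obtain ⟨i, u, hu⟩ := Scheme.Cover.exists_eq (𝒰.pullback₁ p.fromNormalization) x
    have hu' : (pullback.fst p.fromNormalization (𝒰.f i)).base u = x := hu
    rw [← hu', ← Groth.Agent.Ega43.GeomAt.geomAt_comp_openImmersion isoClosed, hcomp,
      Groth.Agent.Ega43.GeomAt.geomAt_comp_openImmersion isoClosed]
    exact h5 i _

include hS in
/-- Version for a family of open subschemes of `X`. -/
theorem of_cover {ι : Type u} (O : ι → X.Opens) (hO : ⨆ i, O i = ⊤) (h : ∀ i, EtaRed ((O i).ι ≫ φ)) : EtaRed φ :=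
  of_openCover hS φ (X.openCoverOfIsOpenCover O (by rw [IsOpenCover, hO])) h

end Cover

theorem isIso_snd_snd {X X' Y P Q : Scheme.{u}} (ψ : X' ⟶ X) (p : P ⟶ X) (t : Y ⟶ X) (q : Q ⟶ Y) (r : Q ⟶ P)
    (hr : r ≫ p = q ≫ t) (h : IsIso (pullback.snd ψ p)) : IsIso (pullback.snd (pullback.snd ψ t) q) := by
  have h1 := isIso_snd_of_factor ψ p (q ≫ t) r hr h
  have h2 := (IsPullback.of_hasPullback (pullback.snd ψ t) q).paste_horiz (IsPullback.of_hasPullback ψ t)
  rw [← h2.isoPullback_hom_snd]
  infer_instance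

/-- Enlarging the base. -/
theorem of_isOpenImmersion {U S X : Scheme.{u}} [IsIntegral U] [IsIntegral S] (φ : X ⟶ U) (j : U ⟶ S)
    [IsOpenImmersion j] (h : EtaRed φ) : EtaRed (φ ≫ j) := by
  rw [etaRed_iff] at h ⊢
  obtain ⟨X', ψ, h1, h2, h3, h4, h5⟩ := h
  have hc : ∀ s : S, j (genericPoint U) = s → ∃ c : Spec (S.presheaf.stalk s) ⟶ Spec (U.presheaf.stalk (genericPoint U)),
      c ≫ U.fromSpecStalk (genericPoint U) ≫ j = S.fromSpecStalk s := by
    rintro _ rfl
    refine ⟨Spec.map (inv (j.stalkMap (genericPoint U))), ?_⟩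
    rw [← Scheme.SpecMap_stalkMap_fromSpecStalk, ← Category.assoc, ← Spec.map_comp, IsIso.hom_inv_id, Spec.map_id,
      Category.id_comp]
  obtain ⟨c, hc⟩ := hc _ (genericPoint_eq_of_isOpenImmersion j)
  have hr : pullback.fst (φ ≫ j) (S.fromSpecStalk (genericPoint S)) ≫ φ =
      (pullback.snd (φ ≫ j) (S.fromSpecStalk (genericPoint S)) ≫ c) ≫ U.fromSpecStalk (genericPoint U) := by
    rw [← cancel_mono j, Category.assoc, pullback.condition, Category.assoc, Category.assoc, hc]
  refine ⟨X', ψ, h1, ?_, ?_, ?_, ?_⟩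
  · exact isIso_snd_of_factor ψ (pullback.fst φ (U.fromSpecStalk (genericPoint U))) _ (pullback.lift _ _ hr)
      (pullback.lift_fst _ _ _) h2
  · rw [← Category.assoc]; infer_instance
  · rw [← Category.assoc]; infer_instance
  · intro x
    rw [← Category.assoc, Groth.Agent.Ega43.GeomAt.geomAt_comp_openImmersion_target]
    exact h5 x

/-- Restriction to an open subscheme of `X`. -/
theorem precomp {S X Y : Scheme.{u}} [IsIntegral S] (φ : X ⟶ S) (t : Y ⟶ X) [IsOpenImmersion t] (h : EtaRed φ) :
    EtaRed (t ≫ φ) := by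
  rw [etaRed_iff] at h ⊢
  obtain ⟨X', ψ, h1, h2, h3, h4, h5⟩ := h
  have hc : pullback.snd ψ t ≫ t ≫ φ = pullback.fst ψ t ≫ ψ ≫ φ := by
    rw [← Category.assoc, ← pullback.condition, Category.assoc]
  refine ⟨pullback ψ t, pullback.snd ψ t, inferInstance, ?_, ?_, ?_, ?_⟩
  · refine isIso_snd_snd ψ (pullback.fst φ (S.fromSpecStalk (genericPoint S))) t _
      (pullback.lift (pullback.fst (t ≫ φ) _ ≫ t) (pullback.snd (t ≫ φ) _) ?_) (pullback.lift_fst _ _ _) h2
    rw [Category.assoc, pullback.condition]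
  · rw [hc]; infer_instance
  · rw [hc]; infer_instance
  · intro x
    rw [hc, Groth.Agent.Ega43.GeomAt.geomAt_comp_openImmersion isoClosed]
    exact h5 _

/-- Base change by a morphism of integral schemes preserving the generic points. -/
theorem baseChange {S S' X : Scheme.{u}} [IsIntegral S] [IsIntegral S'] (φ : X ⟶ S) (g : S' ⟶ S)
    (hg : g (genericPoint S') = genericPoint S) (h : EtaRed φ) : EtaRed (pullback.snd φ g) := by
  rw [etaRed_iff] at h ⊢
  obtain ⟨X', ψ, h1, h2, h3, h4, h5⟩ := h
  have H := EtaUniq.isPullback_over φ ψ g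
  obtain ⟨m, hm⟩ := EtaUniq.exists_fibre_hom φ g hg (pullback.snd φ g) (pullback.fst φ g) pullback.condition
  refine ⟨_, pullback.snd ψ (pullback.fst φ g), inferInstance, ?_, ?_, ?_, ?_⟩
  · exact isIso_snd_snd ψ _ (pullback.fst φ g) _ m hm h2
  · exact MorphismProperty.of_isPullback (P := @Flat) H h3
  · exact MorphismProperty.of_isPullback (P := @LocallyOfFinitePresentation) H h4
  · exact red_of_isPullback H h5

/-- A morphism which is already flat of finite presentation with geometrically reduced fibres. -/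
theorem of_red {S X : Scheme.{u}} [IsIntegral S] (φ : X ⟶ S) [Flat φ] [LocallyOfFinitePresentation φ] (h : Red φ) :
    EtaRed φ := by
  rw [etaRed_iff]
  refine ⟨X, 𝟙 X, inferInstance, inferInstance, ?_, ?_, ?_⟩
  all_goals rw [Category.id_comp]
  · infer_instance
  · infer_instance
  · exact h

end K263.EtaRed
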