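import Mathlib.AlgebraicGeometry.Morphisms.SchemeTheoreticallyDominant
import Mathlib.AlgebraicGeometry.Morphisms.ClosedImmersion

/-!
# The morphism to the scheme-theoretic image is scheme-theoretically dominant
-/

set_option autoImplicit false
universe u

open CategoryTheory AlgebraicGeometry Limits

namespace K263.ToImage

variable {X Y : Scheme.{u}}

theorem eq_bot_of_map_eq_ker (i : X ⟶ Y) [IsClosedImmersion i] {I : X.IdealSheafData}
    (h : I.map i = i.ker) : I = ⊥ := by
  have h1 : IsIso I.subschemeι := by
    refine IsClosedImmersion.isIso_of_ker_eq (I.subschemeι ≫ i) i I.subschemeι rfl ?_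
    exact h
  rw [← I.ker_subschemeι]
  exact Scheme.Hom.ker_eq_bot _

/-- The morphism to the scheme-theoretic image is scheme-theoretically dominant. -/
theorem isSchemeTheoreticallyDominant_toImage (f : X ⟶ Y) : IsSchemeTheoreticallyDominant f.toImage := by
  rw [isSchemeTheoreticallyDominant_iff]
  apply eq_bot_of_map_eq_ker f.imageι
  rw [Scheme.IdealSheafData.map_ker, Scheme.Hom.toImage_imageι]
  exact (Scheme.IdealSheafData.ker_subschemeι _).symm

/-- `f ≫ g` schematically dominant implies `g` schematically dominant. -/
theorem of_comp {Z : Scheme.{u}} (f : X ⟶ Y) (g : Y ⟶ Z) [IsSchemeTheoreticallyDominant (f ≫ g)] :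
    IsSchemeTheoreticallyDominant g := by
  rw [isSchemeTheoreticallyDominant_iff, ← le_bot_iff, ← (f ≫ g).ker_eq_bot]
  exact Scheme.Hom.le_ker_comp f g

end K263.ToImage
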