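import Groth.Agent.FlatMor.K263.GenFibre
import Groth.Agent.FlatMor.K263.ToImage
import Groth.Agent.FlatMor.K263.EtaFinite
import Groth.Agent.S2299

/-!
# Morphisms into modifications which are isomorphisms over the generic fibre

`hom_ext`: uniqueness; `exists_hom`: existence over a normal base.
-/

set_option autoImplicit false
universe u

open CategoryTheory AlgebraicGeometry Limits TopologicalSpace

namespace K263.EtaUniq

open K263.GenFibre

theorem exists_generic {S S' : Scheme.{u}} [IsIntegral S] [IsIntegral S'] (g : S' ⟶ S)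
    (hg : g (genericPoint S') = genericPoint S) :
    ∃ k : Spec (S'.presheaf.stalk (genericPoint S')) ⟶ Spec (S.presheaf.stalk (genericPoint S)),
      k ≫ S.fromSpecStalk (genericPoint S) = S'.fromSpecStalk (genericPoint S') ≫ g := by
  rw [← hg]
  exact ⟨Spec.map (g.stalkMap (genericPoint S')), Scheme.SpecMap_stalkMap_fromSpecStalk g⟩

/-- The point of the generic fibre defined by a morphism from the generic fibre of something flat over `S'`. -/
theorem exists_fibre_hom {S S' X Y : Scheme.{u}} [IsIntegral S] [IsIntegral S'] (φ : X ⟶ S)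
    (g : S' ⟶ S) (hg : g (genericPoint S') = genericPoint S)
    (y : Y ⟶ S') (t : Y ⟶ X) (ht : t ≫ φ = y ≫ g) :
    ∃ m : pullback y (S'.fromSpecStalk (genericPoint S')) ⟶ pullback φ (S.fromSpecStalk (genericPoint S)),
      m ≫ pullback.fst _ _ = pullback.fst _ _ ≫ t := by
  obtain ⟨k, hk⟩ := exists_generic g hg
  refine ⟨pullback.lift (pullback.fst _ _ ≫ t) (pullback.snd _ _ ≫ k) ?_, pullback.lift_fst _ _ _⟩
  rw [Category.assoc, Category.assoc, hk, ht, pullback.condition_assoc]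

theorem hom_ext {S S' X X₂ Y : Scheme.{u}} [IsIntegral S] [IsIntegral S'] (φ : X ⟶ S) (f₂ : X₂ ⟶ X)
    [IsSeparated f₂]
    (hη₂ : Mono (pullback.snd f₂ (pullback.fst φ (S.fromSpecStalk (genericPoint S)))))
    (g : S' ⟶ S) (hg : g (genericPoint S') = genericPoint S)
    (y : Y ⟶ S') [Flat y] (t : Y ⟶ X) (ht : t ≫ φ = y ≫ g) (u v : Y ⟶ X₂) (hu : u ≫ f₂ = t)
    (hv : v ≫ f₂ = t) : u = v := by
  obtain ⟨m, hm⟩ := exists_fibre_hom φ g hg y t ht
  have hdom : IsSchemeTheoreticallyDominant (pullback.fst y (S'.fromSpecStalk (genericPoint S'))) :=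
    dominant_of_flat (IsPullback.of_hasPullback _ _)
  refine Groth.Agent.S2299.result (pullback.fst y (S'.fromSpecStalk (genericPoint S'))) f₂ u v (hu.trans hv.symm) ?_
  have h1 : ∀ w : Y ⟶ X₂, w ≫ f₂ = t → ∃ l : pullback y (S'.fromSpecStalk (genericPoint S')) ⟶
      pullback f₂ (pullback.fst φ (S.fromSpecStalk (genericPoint S))), l ≫ pullback.snd _ _ = m ∧
        l ≫ pullback.fst _ _ = pullback.fst _ _ ≫ w := by
    intro w hw
    refine ⟨pullback.lift (pullback.fst _ _ ≫ w) m (by rw [Category.assoc, hw, hm]), pullback.lift_snd _ _ _,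
      pullback.lift_fst _ _ _⟩
  obtain ⟨l₁, h₁, h₁'⟩ := h1 u hu
  obtain ⟨l₂, h₂, h₂'⟩ := h1 v hv
  have h3 : l₁ = l₂ := by
    rw [← cancel_mono (pullback.snd f₂ (pullback.fst φ (S.fromSpecStalk (genericPoint S)))), h₁, h₂]
  rw [← h₁', ← h₂', h3]

theorem exists_hom {S S' X X₂ Y : Scheme.{u}} [IsIntegral S] [IsIntegral S'] (hS' : Pi1.IsNormalScheme S')
    (φ : X ⟶ S) (f₂ : X₂ ⟶ X)
    [IsIntegralHom f₂]
    (hη₂ : IsIso (pullback.snd f₂ (pullback.fst φ (S.fromSpecStalk (genericPoint S)))))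
    (g : S' ⟶ S) (hg : g (genericPoint S') = genericPoint S)
    (y : Y ⟶ S') [Flat y] [LocallyOfFinitePresentation y]
    (hgeom : ∀ x, Groth.Agent.Ega43.GeomAt.GeomAt (fun R _ => _root_.IsReduced R) y x)
    (t : Y ⟶ X) (ht : t ≫ φ = y ≫ g) : ∃ a : Y ⟶ X₂, a ≫ f₂ = t := by
  obtain ⟨m, hm⟩ := exists_fibre_hom φ g hg y t ht
  have H := IsPullback.of_hasPullback y (S'.fromSpecStalk (genericPoint S'))
  set p₁ : pullback y (S'.fromSpecStalk (genericPoint S')) ⟶ Y := pullback.fst _ _ with hp₁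
  let σ : pullback y (S'.fromSpecStalk (genericPoint S')) ⟶ X₂ :=
    m ≫ inv (pullback.snd f₂ (pullback.fst φ (S.fromSpecStalk (genericPoint S)))) ≫ pullback.fst _ _
  have hσ : σ ≫ f₂ = p₁ ≫ t := by
    simp only [σ, Category.assoc]
    rw [pullback.condition, IsIso.inv_hom_id_assoc, hm]
  let s : pullback y (S'.fromSpecStalk (genericPoint S')) ⟶ pullback t f₂ := pullback.lift p₁ σ hσ.symm
  have hqp : QuasiCompact p₁ := quasiCompact H
  have hs1 : s ≫ pullback.fst t f₂ = p₁ := pullback.lift_fst _ _ _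
  have hs2 : s ≫ pullback.snd t f₂ = σ := pullback.lift_snd _ _ _
  have hqs : QuasiCompact s := by
    have : QuasiCompact (s ≫ pullback.fst t f₂) := by rw [hs1]; exact hqp
    exact QuasiCompact.of_comp s (pullback.fst t f₂)
  let h : s.image ⟶ Y := s.imageι ≫ pullback.fst t f₂
  have hint : IsIntegralHom h := inferInstance
  have hsh : s.toImage ≫ h = p₁ := by
    rw [← Category.assoc, Scheme.Hom.toImage_imageι, hs1]
  have H' : IsPullback s.toImage (𝟙 _) h p₁ := by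
    refine IsPullback.of_isLimit' ⟨by rw [hsh, Category.id_comp]⟩ ?_
    refine PullbackCone.IsLimit.mk _ (fun c => c.snd) ?_ ?_ ?_
    · intro c
      -- `c.snd ≫ s.toImage = c.fst`
      rw [← cancel_mono s.imageι, Category.assoc, Scheme.Hom.toImage_imageι]
      apply pullback.hom_ext
      · rw [Category.assoc, hs1, ← c.condition, Category.assoc]
      · rw [Category.assoc, hs2]
        -- `c.snd ≫ σ = c.fst ≫ imageι ≫ snd`
        have hc : (c.fst ≫ s.imageι ≫ pullback.snd t f₂) ≫ f₂ = c.snd ≫ m ≫ pullback.fst _ _ := by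
          rw [hm, ← Category.assoc c.snd, ← c.condition]
          simp only [h, Category.assoc]
          rw [pullback.condition]
        have hl : pullback.lift (c.fst ≫ s.imageι ≫ pullback.snd t f₂) (c.snd ≫ m)
            (by rw [hc, Category.assoc]) =
          c.snd ≫ m ≫ inv (pullback.snd f₂ (pullback.fst φ (S.fromSpecStalk (genericPoint S)))) := by
          rw [← cancel_mono (pullback.snd f₂ (pullback.fst φ (S.fromSpecStalk (genericPoint S))))]
          simp only [Category.assoc, IsIso.inv_hom_id, Category.comp_id]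
          exact pullback.lift_snd _ _ _
        have := congrArg (· ≫ pullback.fst _ _) hl
        simp only [pullback.lift_fst, Category.assoc] at this
        rw [Category.assoc, this]
    · intro c
      exact Category.comp_id _
    · intro c m' hm1 hm2
      rw [← hm2]
      exact (Category.comp_id _).symm
  have hiso : IsIso h := K263.EtaFinite.isIso_of_isIntegralHom hS' y hgeom h H H' inferInstance
    (K263.ToImage.isSchemeTheoreticallyDominant_toImage s)
  refine ⟨inv h ≫ s.imageι ≫ pullback.snd t f₂, ?_⟩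
  rw [Category.assoc, Category.assoc, ← pullback.condition, ← Category.assoc s.imageι, IsIso.inv_hom_id_assoc]

theorem geomAt_of_isPullback {P : ∀ (R : Type u) [CommRing R], Prop} {X Y X' Y' : Scheme.{u}} {f : X ⟶ Y}
    {g' : X' ⟶ X} {f' : X' ⟶ Y'} {g : Y' ⟶ Y} (H : IsPullback g' f' f g)
    (h : ∀ x, Groth.Agent.Ega43.GeomAt.GeomAt P f x) (x' : X') : Groth.Agent.Ega43.GeomAt.GeomAt P f' x' := by
  intro K _ Z a b j hZ z hz
  exact h _ K Z (a ≫ g') b (j ≫ g) (hZ.paste_horiz H) z rfl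

theorem isPullback_over {S S' X X₁ : Scheme.{u}} (φ : X ⟶ S) (f₁ : X₁ ⟶ X) (g : S' ⟶ S) :
    IsPullback (pullback.fst f₁ (pullback.fst φ g)) (pullback.snd f₁ (pullback.fst φ g) ≫ pullback.snd φ g)
      (f₁ ≫ φ) g := by
  have h1 : IsPullback (pullback.fst f₁ (pullback.fst φ g)) (pullback.snd f₁ (pullback.fst φ g)) f₁
      (pullback.fst φ g) := IsPullback.of_hasPullback _ _
  have h2 : IsPullback (pullback.fst φ g) (pullback.snd φ g) φ g := IsPullback.of_hasPullback _ _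
  exact h1.paste_vert h2

theorem over_condition {S S' X X₁ : Scheme.{u}} (φ : X ⟶ S) (f₁ : X₁ ⟶ X) (g : S' ⟶ S) :
    (pullback.fst f₁ (pullback.fst φ g) ≫ f₁) ≫ φ =
      (pullback.snd f₁ (pullback.fst φ g) ≫ pullback.snd φ g) ≫ g := by
  rw [Category.assoc]
  exact (isPullback_over φ f₁ g).w

/-- Uniqueness of morphisms over `X ×_S S'`. -/
theorem hom_ext_over {S S' X X₁ X₂ : Scheme.{u}} [IsIntegral S] [IsIntegral S']
    (φ : X ⟶ S) (f₁ : X₁ ⟶ X) (f₂ : X₂ ⟶ X) [IsSeparated f₂]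
    (hη₂ : IsIso (pullback.snd f₂ (pullback.fst φ (S.fromSpecStalk (genericPoint S)))))
    [Flat (f₁ ≫ φ)] (g : S' ⟶ S) (hg : g (genericPoint S') = genericPoint S)
    (u v : pullback f₁ (pullback.fst φ g) ⟶ pullback f₂ (pullback.fst φ g))
    (hu : u ≫ pullback.snd f₂ (pullback.fst φ g) = pullback.snd f₁ (pullback.fst φ g))
    (hv : v ≫ pullback.snd f₂ (pullback.fst φ g) = pullback.snd f₁ (pullback.fst φ g)) : u = v := by
  have hfl : Flat (pullback.snd f₁ (pullback.fst φ g) ≫ pullback.snd φ g) :=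
    MorphismProperty.of_isPullback (P := @Flat) (isPullback_over φ f₁ g) inferInstance
  have h1 : ∀ w : pullback f₁ (pullback.fst φ g) ⟶ pullback f₂ (pullback.fst φ g),
      w ≫ pullback.snd f₂ (pullback.fst φ g) = pullback.snd f₁ (pullback.fst φ g) →
      (w ≫ pullback.fst f₂ (pullback.fst φ g)) ≫ f₂ = pullback.fst f₁ (pullback.fst φ g) ≫ f₁ := by
    intro w hw
    rw [Category.assoc, pullback.condition, ← Category.assoc, hw, pullback.condition]
  apply pullback.hom_ext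
  · exact hom_ext φ f₂ inferInstance g hg _ _ (over_condition φ f₁ g) _ _ (h1 u hu) (h1 v hv)
  · rw [hu, hv]

/-- Existence of morphisms over `X ×_S S'` for normal `S'`. -/
theorem exists_hom_over {S S' X X₁ X₂ : Scheme.{u}} [IsIntegral S] [IsIntegral S'] (hS' : Pi1.IsNormalScheme S')
    (φ : X ⟶ S) (f₁ : X₁ ⟶ X) (f₂ : X₂ ⟶ X) [IsIntegralHom f₂]
    (hη₂ : IsIso (pullback.snd f₂ (pullback.fst φ (S.fromSpecStalk (genericPoint S)))))
    [Flat (f₁ ≫ φ)] [LocallyOfFinitePresentation (f₁ ≫ φ)]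
    (hgeom : ∀ x, Groth.Agent.Ega43.GeomAt.GeomAt (fun R _ => _root_.IsReduced R) (f₁ ≫ φ) x)
    (g : S' ⟶ S) (hg : g (genericPoint S') = genericPoint S) :
    ∃ u : pullback f₁ (pullback.fst φ g) ⟶ pullback f₂ (pullback.fst φ g),
      u ≫ pullback.snd f₂ (pullback.fst φ g) = pullback.snd f₁ (pullback.fst φ g) := by
  have hfl : Flat (pullback.snd f₁ (pullback.fst φ g) ≫ pullback.snd φ g) :=
    MorphismProperty.of_isPullback (P := @Flat) (isPullback_over φ f₁ g) inferInstance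
  have hfp : LocallyOfFinitePresentation (pullback.snd f₁ (pullback.fst φ g) ≫ pullback.snd φ g) :=
    MorphismProperty.of_isPullback (P := @LocallyOfFinitePresentation) (isPullback_over φ f₁ g) inferInstance
  obtain ⟨a, ha⟩ := exists_hom hS' φ f₂ hη₂ g hg _ (geomAt_of_isPullback (isPullback_over φ f₁ g) hgeom)
    _ (over_condition φ f₁ g)
  exact ⟨pullback.lift a (pullback.snd _ _) (by rw [ha, pullback.condition]), pullback.lift_snd _ _ _⟩

theorem exists_iso_over {S S' X X₁ X₂ : Scheme.{u}} [IsIntegral S] [IsIntegral S'] (hS' : Pi1.IsNormalScheme S')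
    (φ : X ⟶ S) (f₁ : X₁ ⟶ X) (f₂ : X₂ ⟶ X) [IsIntegralHom f₁] [IsIntegralHom f₂]
    (hη₁ : IsIso (pullback.snd f₁ (pullback.fst φ (S.fromSpecStalk (genericPoint S)))))
    (hη₂ : IsIso (pullback.snd f₂ (pullback.fst φ (S.fromSpecStalk (genericPoint S)))))
    [Flat (f₁ ≫ φ)] [LocallyOfFinitePresentation (f₁ ≫ φ)]
    [Flat (f₂ ≫ φ)] [LocallyOfFinitePresentation (f₂ ≫ φ)]
    (hgeom₁ : ∀ x, Groth.Agent.Ega43.GeomAt.GeomAt (fun R _ => _root_.IsReduced R) (f₁ ≫ φ) x)
    (hgeom₂ : ∀ x, Groth.Agent.Ega43.GeomAt.GeomAt (fun R _ => _root_.IsReduced R) (f₂ ≫ φ) x)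
    (g : S' ⟶ S) (hg : g (genericPoint S') = genericPoint S) :
    ∃ e : pullback f₁ (pullback.fst φ g) ≅ pullback f₂ (pullback.fst φ g),
      e.hom ≫ pullback.snd f₂ (pullback.fst φ g) = pullback.snd f₁ (pullback.fst φ g) := by
  obtain ⟨a, ha⟩ := exists_hom_over hS' φ f₁ f₂ hη₂ hgeom₁ g hg
  obtain ⟨b, hb⟩ := exists_hom_over hS' φ f₂ f₁ hη₁ hgeom₂ g hg
  refine ⟨⟨a, b, ?_, ?_⟩, ha⟩
  · exact hom_ext_over φ f₁ f₁ hη₁ g hg _ _ (by rw [Category.assoc, hb, ha]) (Category.id_comp _)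
  · exact hom_ext_over φ f₂ f₂ hη₂ g hg _ _ (by rw [Category.assoc, ha, hb]) (Category.id_comp _)

/-- Pulling back an isomorphism over the base. -/
theorem iso_comp {X X₁ X₂ Q Q' : Scheme.{u}} (f₁ : X₁ ⟶ X) (f₂ : X₂ ⟶ X) (q : Q ⟶ X) (q' : Q' ⟶ X) (r : Q' ⟶ Q)
    (hr : r ≫ q = q') (e : pullback f₁ q ≅ pullback f₂ q)
    (he : e.hom ≫ pullback.snd f₂ q = pullback.snd f₁ q) :
    ∃ e' : pullback f₁ q' ≅ pullback f₂ q', e'.hom ≫ pullback.snd f₂ q' = pullback.snd f₁ q' := by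
  have hm : ∀ (X₁ : Scheme.{u}) (f₁ : X₁ ⟶ X), ∃ m₁ : pullback f₁ q' ⟶ pullback f₁ q,
      m₁ ≫ pullback.fst _ _ = pullback.fst _ _ ∧ m₁ ≫ pullback.snd _ _ = pullback.snd _ _ ≫ r := by
    intro X₁ f₁
    exact ⟨pullback.lift (pullback.fst f₁ q') (pullback.snd f₁ q' ≫ r)
        (by rw [Category.assoc, hr, pullback.condition]), pullback.lift_fst _ _ _, pullback.lift_snd _ _ _⟩
  have key : ∀ (X₁ X₂ : Scheme.{u}) (f₁ : X₁ ⟶ X) (f₂ : X₂ ⟶ X) (e : pullback f₁ q ⟶ pullback f₂ q)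
      (he : e ≫ pullback.snd f₂ q = pullback.snd f₁ q) (m₁ : pullback f₁ q' ⟶ pullback f₁ q)
          (m₂ : pullback f₂ q' ⟶ pullback f₂ q) (_ : m₁ ≫ pullback.fst _ _ = pullback.fst _ _)
          (_ : m₂ ≫ pullback.fst _ _ = pullback.fst _ _) (_ : m₁ ≫ pullback.snd _ _ = pullback.snd _ _ ≫ r)
          (_ : m₂ ≫ pullback.snd _ _ = pullback.snd _ _ ≫ r), ∃ e' : pullback f₁ q' ⟶ pullback f₂ q',
        e' ≫ pullback.snd f₂ q' = pullback.snd f₁ q' ∧ e' ≫ m₂ = m₁ ≫ e := by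
    intro X₁ X₂ f₁ f₂ e he m₁ m₂ h₁ h₂ h₃ h₄
    have h1 : (m₁ ≫ e ≫ pullback.fst f₂ q) ≫ f₂ = pullback.snd f₁ q' ≫ q' := by
      rw [Category.assoc, Category.assoc, pullback.condition, ← Category.assoc e, he, ← Category.assoc,
        h₃, Category.assoc, hr]
    refine ⟨pullback.lift _ _ h1, pullback.lift_snd _ _ _, ?_⟩
    apply pullback.hom_ext
    · rw [Category.assoc, h₂, pullback.lift_fst, Category.assoc]
    · rw [Category.assoc, h₄, ← Category.assoc, pullback.lift_snd, Category.assoc, he, h₃]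
  obtain ⟨m₁, h₁, h₃⟩ := hm X₁ f₁
  obtain ⟨m₂, h₂, h₄⟩ := hm X₂ f₂
  obtain ⟨a, ha, h5⟩ := key X₁ X₂ f₁ f₂ e.hom he m₁ m₂ h₁ h₂ h₃ h₄
  obtain ⟨b, hb, h6⟩ := key X₂ X₁ f₂ f₁ e.inv (by rw [← he, Iso.inv_hom_id_assoc]) m₂ m₁ h₂ h₁ h₄ h₃
  refine ⟨⟨a, b, ?_, ?_⟩, ha⟩
  · have h7 : (a ≫ b) ≫ m₁ = m₁ := by
      rw [Category.assoc, h6, ← Category.assoc a, h5, Category.assoc, Iso.hom_inv_id, Category.comp_id]
    apply pullback.hom_ext
    · rw [← h₁, ← Category.assoc, h7, Category.id_comp]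
    · rw [Category.assoc, hb, ha, Category.id_comp]
  · have h7 : (b ≫ a) ≫ m₂ = m₂ := by
      rw [Category.assoc, h5, ← Category.assoc b, h6, Category.assoc, Iso.inv_hom_id, Category.comp_id]
    apply pullback.hom_ext
    · rw [← h₂, ← Category.assoc, h7, Category.id_comp]
    · rw [Category.assoc, ha, hb, Category.id_comp]

end K263.EtaUniq
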