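import Mathlib.AlgebraicGeometry.Morphisms.Proper
import Mathlib.AlgebraicGeometry.Morphisms.ClosedImmersion

/-!
# Finite products of proper `S`-schemes
-/

set_option autoImplicit false
universe u

open CategoryTheory AlgebraicGeometry Limits

namespace K263.FinProd

/-- A finite family of proper `S`-schemes has a product over `S` that is proper over `S` (existence part of the
universal property). -/
theorem exists_proper_prod {S : Scheme.{u}} (ι : Type u) [Finite ι] :
    ∀ (P : ι → Scheme.{u}) (g : ∀ i, P i ⟶ S), (∀ i, IsProper (g i)) →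
    ∃ (Q : Scheme.{u}) (q : Q ⟶ S) (π : ∀ i, Q ⟶ P i), IsProper q ∧ (∀ i, π i ≫ g i = q) ∧
      ∀ (T : Scheme.{u}) (a : T ⟶ S) (b : ∀ i, T ⟶ P i), (∀ i, b i ≫ g i = a) →
        ∃ c : T ⟶ Q, c ≫ q = a ∧ ∀ i, c ≫ π i = b i := by
  induction ι using Finite.induction_empty_option with
  | of_equiv e ih =>
    intro P g hg
    obtain ⟨Q, q, π, hq, h1, h2⟩ := ih (fun i => P (e i)) (fun i => g (e i)) (fun i => hg (e i))
    have key : ∀ j, e (e.symm j) = j := fun j => e.apply_symm_apply j
    refine ⟨Q, q, fun j => π (e.symm j) ≫ eqToHom (congrArg P (key j)), hq, fun j => ?_, fun T a b hb => ?_⟩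
    · obtain ⟨i, rfl⟩ := e.surjective j
      have : ∀ i' : _, ∀ h : i' = e.symm (e i), (π i' ≫ eqToHom (by rw [h, key])) ≫ g (e i) = q := by
        rintro i' h
        have hi : i' = i := by rw [h, e.symm_apply_apply]
        subst hi
        simpa using h1 i'
      exact this _ rfl
    · obtain ⟨c, hc, hc'⟩ := h2 T a (fun i => b (e i)) (fun i => hb _)
      refine ⟨c, hc, fun j => ?_⟩
      obtain ⟨i, rfl⟩ := e.surjective j
      have : ∀ i' : _, ∀ h : i' = e.symm (e i), c ≫ (π i' ≫ eqToHom (by rw [h, key])) = b (e i) := by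
        rintro i' h
        have hi : i' = i := by rw [h, e.symm_apply_apply]
        subst hi
        simpa using hc' i'
      exact this _ rfl
  | h_empty =>
    intro P g hg
    exact ⟨S, 𝟙 S, fun i => i.elim, inferInstance, fun i => i.elim, fun T a b _ => ⟨a, by simp, fun i => i.elim⟩⟩
  | h_option ih =>
    intro P g hg
    obtain ⟨Q, q, π, hq, h1, h2⟩ := ih (fun i => P (some i)) (fun i => g (some i)) (fun i => hg _)
    have := hg none
    refine ⟨pullback (g none) q, pullback.snd _ _ ≫ q, fun o => match o with
      | none => pullback.fst _ _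
      | some i => pullback.snd _ _ ≫ π i, inferInstance, ?_, fun T a b hb => ?_⟩
    · rintro (_ | i)
      · exact pullback.condition
      · change (pullback.snd _ _ ≫ π i) ≫ g (some i) = _
        rw [Category.assoc, h1]
    · obtain ⟨c, hc, hc'⟩ := h2 T a (fun i => b (some i)) (fun i => hb _)
      refine ⟨pullback.lift (b none) c (by rw [hb, hc]), by rw [← Category.assoc, pullback.lift_snd, hc], ?_⟩
      rintro (_ | i)
      · exact pullback.lift_fst _ _ _
      · change pullback.lift (b none) c _ ≫ pullback.snd _ _ ≫ π i = _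
        rw [← Category.assoc, pullback.lift_snd, hc']

end K263.FinProd
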