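import Groth.Agent.FlatMor.K263.PushBC
import Mathlib.AlgebraicGeometry.Morphisms.SchemeTheoreticallyDominant
import Mathlib.AlgebraicGeometry.FunctionField
import Mathlib.AlgebraicGeometry.Stalk

/-!
# The generic fibre over an integral base

`S` integral with generic point `η`, `g : X ⟶ S`, `X_η = X ×_S Spec O_{S,η}`.
* sections of `X_η` over the preimage of an affine open of `X` are fractions;
* if `X` is flat over `S`, or only over a schematically dense open, then `X_η ⟶ X` is schematically dominant.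
-/

set_option autoImplicit false
universe u

open CategoryTheory AlgebraicGeometry Limits TopologicalSpace

namespace K263.GenFibre

theorem quasiCompact_fromSpecStalk (S : Scheme.{u}) [IsIntegral S] :
    QuasiCompact (S.fromSpecStalk (genericPoint S)) := by
  have : Finite (Spec (S.presheaf.stalk (genericPoint S))) := by
    have h : IsField (S.presheaf.stalk (genericPoint S)) := Field.toIsField (S.functionField)
    let := h.toField
    exact inferInstanceAs (Finite (PrimeSpectrum (S.presheaf.stalk (genericPoint S))))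
  exact ⟨fun U _ _ => Set.Finite.isCompact (Set.toFinite _)⟩

theorem dominant_fromSpecStalk (S : Scheme.{u}) [IsIntegral S] :
    IsSchemeTheoreticallyDominant (S.fromSpecStalk (genericPoint S)) := by
  have : IsDominant (S.fromSpecStalk (genericPoint S)) := by
    refine ⟨?_⟩
    have h1 : closure {genericPoint S} = Set.univ := genericPoint_closure _
    rw [DenseRange, dense_iff_closure_eq, ← Set.univ_subset_iff, ← h1]
    apply closure_mono
    rw [Set.singleton_subset_iff]
    exact ⟨IsLocalRing.closedPoint _, Scheme.fromSpecStalk_closedPoint⟩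
  exact .of_isDominant _

theorem apply_fromSpecStalk (S : Scheme.{u}) [IsIntegral S] (z : Spec (S.presheaf.stalk (genericPoint S))) :
    S.fromSpecStalk (genericPoint S) z = genericPoint S := by
  have h : IsField (S.presheaf.stalk (genericPoint S)) := Field.toIsField (S.functionField)
  let := h.toField
  have h2 : z = IsLocalRing.closedPoint _ :=
    Subsingleton.elim (α := PrimeSpectrum (S.presheaf.stalk (genericPoint S))) _ _
  rw [h2]
  exact Scheme.fromSpecStalk_closedPoint

theorem le_preimage {S : Scheme.{u}} [IsIntegral S] {V : S.Opens} (hη : genericPoint S ∈ V) :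
    (⊤ : (Spec (S.presheaf.stalk (genericPoint S))).Opens) ≤ S.fromSpecStalk (genericPoint S) ⁻¹ᵁ V := by
  intro z _
  change S.fromSpecStalk (genericPoint S) z ∈ V
  rw [apply_fromSpecStalk]
  exact hη

theorem appLE_fromSpecStalk {S : Scheme.{u}} [IsIntegral S] {V : S.Opens} (hη : genericPoint S ∈ V) (r : Γ(S, V)) :
    (S.fromSpecStalk (genericPoint S)).appLE V ⊤ (le_preimage hη) r =
      (Scheme.ΓSpecIso (S.presheaf.stalk (genericPoint S))).inv (S.presheaf.germ V (genericPoint S) hη r) := by
  rw [Scheme.Hom.appLE, Scheme.fromSpecStalk_app hη]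
  simp only [Category.assoc, ← Functor.map_comp]
  have h3 : ∀ (F : TopCat.Presheaf CommRingCat (Spec (S.presheaf.stalk (genericPoint S))))
      (a : Opposite.op (⊤ : Opens (Spec (S.presheaf.stalk (genericPoint S)))) ⟶ Opposite.op ⊤),
      F.map a = 𝟙 _ := by
    intro F a
    rw [Subsingleton.elim a (𝟙 _), F.map_id]
  rw [h3, Category.comp_id]
  rfl

theorem isLocalization_sections {S : Scheme.{u}} [IsIntegral S] {V : S.Opens} (hV : IsAffineOpen V)
    (hη : genericPoint S ∈ V) :
    @IsLocalization Γ(S, V) _ (nonZeroDivisors Γ(S, V)) Γ(Spec (S.presheaf.stalk (genericPoint S)), ⊤) _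
      ((S.fromSpecStalk (genericPoint S)).appLE V ⊤ (le_preimage hη)).hom.toAlgebra := by
  have hne : Nonempty V := ⟨⟨_, hη⟩⟩
  have hfr := functionField_isFractionRing_of_isAffineOpen S V hV
  let _ : Algebra Γ(S, V) Γ(Spec (S.presheaf.stalk (genericPoint S)), ⊤) :=
    ((S.fromSpecStalk (genericPoint S)).appLE V ⊤ (le_preimage hη)).hom.toAlgebra
  let eR : S.functionField ≃+* Γ(Spec (S.presheaf.stalk (genericPoint S)), ⊤) :=
    (Scheme.ΓSpecIso (S.presheaf.stalk (genericPoint S))).symm.commRingCatIsoToRingEquiv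
  let eA : S.functionField ≃ₐ[Γ(S, V)] Γ(Spec (S.presheaf.stalk (genericPoint S)), ⊤) :=
    AlgEquiv.ofRingEquiv (f := eR) fun r => (appLE_fromSpecStalk hη r).symm
  exact IsLocalization.isLocalization_of_algEquiv (nonZeroDivisors Γ(S, V)) eA

theorem exists_mul_of_isPushout {R A K C : Type u} [CommRing R] [IsDomain R] [CommRing A] [CommRing K] [CommRing C]
    (a : R →+* K) (b : R →+* A) (c : K →+* C) (d : A →+* C)
    (h : IsPushout (CommRingCat.ofHom a) (CommRingCat.ofHom b) (CommRingCat.ofHom c) (CommRingCat.ofHom d))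
    (hK : @IsLocalization R _ (nonZeroDivisors R) K _ a.toAlgebra) (x : C) :
    ∃ r : R, r ≠ 0 ∧ ∃ y : A, d (b r) * x = d y := by
  let _ := a.toAlgebra
  let _ := b.toAlgebra
  let _ := c.toAlgebra
  let _ := d.toAlgebra
  let _ : Algebra R C := (c.comp a).toAlgebra
  have : IsScalarTower R K C := .of_algebraMap_eq fun _ => rfl
  have : IsScalarTower R A C := .of_algebraMap_eq fun r => by
    exact congr($(h.w) r)
  have h1 : Algebra.IsPushout R K A C := CommRingCat.isPushout_iff_isPushout.1 h
  have h2 : Algebra.IsPushout R A K C := h1.symm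
  have h3 := (Algebra.isLocalization_iff_isPushout (R := R) (nonZeroDivisors R) (A := K) (T := A) (B := C)).2 h2
  obtain ⟨⟨y, ⟨_, r, hr, rfl⟩⟩, hy⟩ := IsLocalization.surj (Algebra.algebraMapSubmonoid A (nonZeroDivisors R)) x
  refine ⟨r, nonZeroDivisors.ne_zero hr, y, ?_⟩
  rw [mul_comm]
  exact hy

section

variable {S X Xη : Scheme.{u}} [IsIntegral S] {g : X ⟶ S} {p : Xη ⟶ X}
  {q : Xη ⟶ Spec (S.presheaf.stalk (genericPoint S))}
  (H : IsPullback p q g (S.fromSpecStalk (genericPoint S)))

include H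

theorem quasiCompact : QuasiCompact p :=
  MorphismProperty.of_isPullback (P := @QuasiCompact) H.flip (quasiCompact_fromSpecStalk S)

theorem dominant_of_flat [Flat g] : IsSchemeTheoreticallyDominant p := by
  have := dominant_fromSpecStalk S
  have := quasiCompact_fromSpecStalk S
  exact IsSchemeTheoreticallyDominant.of_isPullback H.flip

theorem dominant_of_flat_dense (O : X.Opens) (hO : IsSchemeTheoreticallyDominant O.ι) [Flat (O.ι ≫ g)] :
    IsSchemeTheoreticallyDominant p := by
  have hq := quasiCompact H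
  refine ⟨le_bot_iff.1 ?_⟩
  rw [← hO.ker_eq_bot]
  have hH := (IsPullback.of_hasPullback O.ι p).flip.paste_horiz H.flip
  have hd := dominant_of_flat hH.flip
  have hqc := quasiCompact hH.flip
  refine Scheme.IdealSheafData.le_ofIdeals_iff.2 fun W t ht => ?_
  rw [Scheme.Hom.ker_apply, RingHom.mem_ker] at ht
  rw [RingHom.mem_ker]
  apply Scheme.Hom.app_injective (pullback.fst O.ι p) (O.ι ⁻¹ᵁ W)
  have h1 := K263.PushChar.app_comp_apply (pullback.fst O.ι p) O.ι W.1 t
  have h2 := K263.PushChar.app_comp_apply (pullback.snd O.ι p) p W.1 t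
  have h3 : p.app W t = 0 := ht
  rw [h3, map_zero] at h2
  have h4 : (pullback.fst O.ι p).app (O.ι ⁻¹ᵁ W) (O.ι.app W t) = 0 := by
    rw [← h1]
    have h5 : ∀ (f f' : pullback O.ι p ⟶ X) (e : f = f'), f'.app W.1 t = 0 → f.app W.1 t = 0 := by
      rintro f _ rfl h; exact h
    exact h5 _ _ pullback.condition h2
  rw [map_zero]
  exact h4

variable {V : S.Opens} (hV : IsAffineOpen V) (hη : genericPoint S ∈ V) {W : X.Opens} (hW : IsAffineOpen W)
  (e : W ≤ g ⁻¹ᵁ V)

include hη in
theorem isUnit_app (r : Γ(S, V)) (hr : r ≠ 0) : IsUnit (p.app W (g.appLE V W e r)) := by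
  have hj := le_preimage hη
  have h1 : IsUnit ((S.fromSpecStalk (genericPoint S)).appLE V ⊤ hj r) := by
    rw [appLE_fromSpecStalk hη]
    refine IsUnit.map _ ?_
    have h4 : S.presheaf.germ V (genericPoint S) hη r ≠ 0 := by
      intro h0
      exact hr (germ_injective_of_isIntegral S (genericPoint S) hη (by rw [h0, map_zero]))
    exact (Ne.isUnit (G₀ := S.functionField) h4)
  have h5 : p.app W (g.appLE V W e r) = q.appLE ⊤ (p ⁻¹ᵁ W) (by simp)
      ((S.fromSpecStalk (genericPoint S)).appLE V ⊤ hj r) := by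
    have h6 : g.appLE V W e ≫ p.app W = (S.fromSpecStalk (genericPoint S)).appLE V ⊤ hj ≫
        q.appLE ⊤ (p ⁻¹ᵁ W) (by simp) := by
      rw [Scheme.Hom.app_eq_appLE, Scheme.Hom.appLE_comp_appLE, Scheme.Hom.appLE_comp_appLE]
      simp only [H.w]
    exact congr($(h6) r)
  rw [h5]
  exact h1.map _

include hV hη hW in
theorem exists_mul_eq (x : Γ(Xη, p ⁻¹ᵁ W)) : ∃ r : Γ(S, V), r ≠ 0 ∧ ∃ a : Γ(X, W),
    p.app W (g.appLE V W e r) * x = p.app W a := by
  have hne : Nonempty V := ⟨⟨_, hη⟩⟩
  have hO' : p ⁻¹ᵁ W = p ⁻¹ᵁ W ⊓ q ⁻¹ᵁ ⊤ := by simp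
  have hpo := K263.PushBC.isPushout_sections H hV (isAffineOpen_top _) hW (le_preimage hη) e hO'
  obtain ⟨r, hr, y, hy⟩ := exists_mul_of_isPushout _ _ _ _ hpo (isLocalization_sections hV hη) x
  refine ⟨r, hr, y, ?_⟩
  rw [Scheme.Hom.app_eq_appLE]
  exact hy

end

end K263.GenFibre
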