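import Groth.Agent.FlatB.PushSections
import Groth.Agent.S1442
import Mathlib.AlgebraicGeometry.Morphisms.IsIso

/-!
# Recognizing scheme pushouts along a closed immersion

`i : Z ⟶ X` a closed immersion, `j : Z ⟶ Y`, `a : X ⟶ W`, `b : Y ⟶ W` with `i ≫ a = j ≫ b`.
* `Mil i j a b O`: sections over the open `O` of `W` are pairs of sections over the preimages agreeing on `Z`.
* `isPushout_of_mil`: if `a`, `b` are affine and `W` is covered by affine opens `O` with `Mil i j a b O`, the square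
  is a pushout of schemes.
* `IsGlued`: the list of properties of such a pushout; `isGlued_of_isPushout` : every scheme pushout
  such that the points of `Y` lie in adapted pairs has them.
-/

set_option autoImplicit false
universe u

open CategoryTheory AlgebraicGeometry Limits TopologicalSpace

namespace K263.PushChar

variable {X Y Z W : Scheme.{u}}

/-- Sections of `W` over `O` are pairs of sections over the preimages of `O` which agree on `Z`. -/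
def Mil (i : Z ⟶ X) (j : Z ⟶ Y) (a : X ⟶ W) (b : Y ⟶ W) (O : W.Opens) : Prop :=
  (∀ (s : Γ(X, a ⁻¹ᵁ O)) (t : Γ(Y, b ⁻¹ᵁ O)) (V : Z.Opens)
    (hVa : V = i ⁻¹ᵁ a ⁻¹ᵁ O) (hVb : V = j ⁻¹ᵁ b ⁻¹ᵁ O),
    i.appLE (a ⁻¹ᵁ O) V hVa.le s = j.appLE (b ⁻¹ᵁ O) V hVb.le t →
      ∃ r : Γ(W, O), a.app O r = s ∧ b.app O r = t) ∧
  ∀ r r' : Γ(W, O), a.app O r = a.app O r' → b.app O r = b.app O r' → r = r'

/-- The properties of the pushout `W` of a closed immersion `i` along `j` when every point of `Y` lies in an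
adapted pair of affine opens. -/
structure IsGlued (i : Z ⟶ X) (j : Z ⟶ Y) (a : X ⟶ W) (b : Y ⟶ W) : Prop where
  isPullback : IsPullback i j a b
  isClosedImmersion_b : IsClosedImmersion b
  isAffineHom_a : IsAffineHom a
  isIntegralHom_a : IsIntegralHom j → IsIntegralHom a
  isClosedImmersion_a : IsClosedImmersion j → IsClosedImmersion a
  surj : ∀ w : W, (∃ x, a x = w) ∨ ∃ y, b y = w
  adapted : ∀ (U : X.Opens) (V : Y.Opens), IsAffineOpen U → IsAffineOpen V → i ⁻¹ᵁ U = j ⁻¹ᵁ V →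
    ∃ O : W.Opens, IsAffineOpen O ∧ a ⁻¹ᵁ O = U ∧ b ⁻¹ᵁ O = V
  mil : ∀ O : W.Opens, Mil i j a b O

theorem IsGlued.opens_ext {i : Z ⟶ X} {j : Z ⟶ Y} {a : X ⟶ W} {b : Y ⟶ W} (h : IsGlued i j a b)
    {O O' : W.Opens} (h1 : a ⁻¹ᵁ O = a ⁻¹ᵁ O') (h2 : b ⁻¹ᵁ O = b ⁻¹ᵁ O') : O = O' := by
  ext w
  rcases h.surj w with ⟨x, rfl⟩ | ⟨y, rfl⟩
  · exact Set.ext_iff.mp (congrArg (fun V : X.Opens => (V : Set X)) h1) x
  · exact Set.ext_iff.mp (congrArg (fun V : Y.Opens => (V : Set Y)) h2) y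

theorem exists_isGlued (i : Z ⟶ X) (j : Z ⟶ Y) [IsClosedImmersion i]
    (H : ∀ y : Y, ∃ (U : X.Opens) (V : Y.Opens), IsAffineOpen U ∧ IsAffineOpen V ∧ y ∈ V ∧
      i ⁻¹ᵁ U = j ⁻¹ᵁ V) :
    ∃ (W : Scheme.{u}) (a : X ⟶ W) (b : Y ⟶ W), IsPushout i j a b ∧ IsGlued i j a b := by
  obtain ⟨W, a, b, h1, h2, h3, h4, h5, h6, -, h8, h9, h10, h11⟩ :=
    Groth.Agent.FlatB.PushSections.exists_pushout_sections i j H
  exact ⟨W, a, b, h1, h2, h3, h4, h5, h6, h8, h9, fun O =>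
    ⟨fun s t V hVa hVb hst => (h10 O s t V hVa hVb hst).exists, h11 O⟩⟩

theorem app_comp_apply {A B C : Scheme.{u}} (f : A ⟶ B) (g : B ⟶ C) (U : C.Opens) (x : Γ(C, U)) :
    (f ≫ g).app U x = f.app (g ⁻¹ᵁ U) (g.app U x) := by
  rw [Scheme.Hom.comp_app]
  rfl

/-- Transport along an isomorphism. -/
theorem IsGlued.comp_iso {i : Z ⟶ X} {j : Z ⟶ Y} {a : X ⟶ W} {b : Y ⟶ W} (h : IsGlued i j a b)
    {W' : Scheme.{u}} (e : W ⟶ W') [IsIso e] : IsGlued i j (a ≫ e) (b ≫ e) where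
  isPullback :=
    IsPullback.of_iso h.isPullback (Iso.refl _) (Iso.refl _) (Iso.refl _) (asIso e) (by simp) (by simp)
      (by simp) (by simp)
  isClosedImmersion_b := by
    have := h.isClosedImmersion_b
    infer_instance
  isAffineHom_a := by
    have := h.isAffineHom_a
    infer_instance
  isIntegralHom_a hj := by
    have := h.isIntegralHom_a hj
    infer_instance
  isClosedImmersion_a hj := by
    have := h.isClosedImmersion_a hj
    infer_instance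
  surj w := by
    rcases h.surj (inv e w) with ⟨x, hx⟩ | ⟨y, hy⟩
    · refine Or.inl ⟨x, ?_⟩
      rw [Scheme.Hom.comp_apply, hx, ← Scheme.Hom.comp_apply, IsIso.inv_hom_id]
      rfl
    · refine Or.inr ⟨y, ?_⟩
      rw [Scheme.Hom.comp_apply, hy, ← Scheme.Hom.comp_apply, IsIso.inv_hom_id]
      rfl
  adapted U V hU hV hUV := by
    obtain ⟨O, hO, h1, h2⟩ := h.adapted U V hU hV hUV
    refine ⟨inv e ⁻¹ᵁ O, hO.preimage (inv e), ?_, ?_⟩
    · rw [← h1, ← Scheme.Hom.comp_preimage, Category.assoc, IsIso.hom_inv_id, Category.comp_id]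
    · rw [← h2, ← Scheme.Hom.comp_preimage, Category.assoc, IsIso.hom_inv_id, Category.comp_id]
  mil O := by
    obtain ⟨h1, h2⟩ := h.mil (e ⁻¹ᵁ O)
    refine ⟨fun s t V hVa hVb hst => ?_, fun r r' hr hr' => ?_⟩
    · obtain ⟨r₀, hr₀, hr₀'⟩ := h1 s t V hVa hVb hst
      refine ⟨inv (e.app O) r₀, ?_, ?_⟩
      · rw [app_comp_apply, ← hr₀]
        congr 1
        rw [← CommRingCat.comp_apply, IsIso.inv_hom_id]
        rfl
      · rw [app_comp_apply, ← hr₀']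
        congr 1
        rw [← CommRingCat.comp_apply, IsIso.inv_hom_id]
        rfl
    · rw [app_comp_apply, app_comp_apply] at hr hr'
      exact (ConcreteCategory.bijective_of_isIso (e.app O)).1 (h2 _ _ hr hr')

/-- Every scheme pushout of a closed immersion `i` along `j` such that the points of `Y` lie in adapted pairs is
obtained by gluing. -/
theorem isGlued_of_isPushout {i : Z ⟶ X} {j : Z ⟶ Y} {a : X ⟶ W} {b : Y ⟶ W} [IsClosedImmersion i]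
    (H : ∀ y : Y, ∃ (U : X.Opens) (V : Y.Opens), IsAffineOpen U ∧ IsAffineOpen V ∧ y ∈ V ∧
      i ⁻¹ᵁ U = j ⁻¹ᵁ V) (hpo : IsPushout i j a b) : IsGlued i j a b := by
  obtain ⟨W₀, a₀, b₀, hpo₀, hgl⟩ := exists_isGlued i j H
  let e : W₀ ≅ W := hpo₀.isoIsPushout _ _ hpo
  have ha : a₀ ≫ e.hom = a := hpo₀.inl_isoIsPushout_hom _ _ hpo
  have hb : b₀ ≫ e.hom = b := hpo₀.inr_isoIsPushout_hom _ _ hpo
  rw [← ha, ← hb]
  exact hgl.comp_iso e.hom

/-- Adapted pairs exist when there is a commutative square with affine legs. -/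
theorem exists_adapted_of_affine {i : Z ⟶ X} {j : Z ⟶ Y} {a : X ⟶ W} {b : Y ⟶ W} [IsAffineHom a]
    [IsAffineHom b] (w : i ≫ a = j ≫ b) (y : Y) :
    ∃ (U : X.Opens) (V : Y.Opens), IsAffineOpen U ∧ IsAffineOpen V ∧ y ∈ V ∧ i ⁻¹ᵁ U = j ⁻¹ᵁ V := by
  obtain ⟨O, hO, hyO, -⟩ := exists_isAffineOpen_mem_and_subset (U := (⊤ : W.Opens)) (x := b y) trivial
  refine ⟨a ⁻¹ᵁ O, b ⁻¹ᵁ O, hO.preimage a, hO.preimage b, hyO, ?_⟩
  rw [← Scheme.Hom.comp_preimage, w, Scheme.Hom.comp_preimage]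

/-- Adapted pairs exist when `i` and `j` are closed immersions. -/
theorem exists_adapted_of_isClosedImmersion (i : Z ⟶ X) (j : Z ⟶ Y) [IsClosedImmersion i]
    [IsClosedImmersion j] (y : Y) :
    ∃ (U : X.Opens) (V : Y.Opens), IsAffineOpen U ∧ IsAffineOpen V ∧ y ∈ V ∧ i ⁻¹ᵁ U = j ⁻¹ᵁ V := by
  refine Groth.Agent.S1442.result i j (fun y => ?_) y
  by_cases hy : ∃ z : Z, j z = y
  · obtain ⟨z, rfl⟩ := hy
    obtain ⟨U, hU, hzU, -⟩ := exists_isAffineOpen_mem_and_subset (U := (⊤ : X.Opens)) (x := i z) trivial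
    refine ⟨U, hU, fun z' hz' => ?_⟩
    rw [j.isClosedEmbedding.injective hz']
    exact hzU
  · exact ⟨⊥, isAffineOpen_bot _, fun z hz => (hy ⟨z, hz⟩).elim⟩

theorem bijective_of_mil {W₀ : Scheme.{u}} {i : Z ⟶ X} {j : Z ⟶ Y} {a₀ : X ⟶ W₀} {b₀ : Y ⟶ W₀}
    (w₀ : i ≫ a₀ = j ≫ b₀) (φ : W₀ ⟶ W) (O : W.Opens) (hgl : Mil i j a₀ b₀ (φ ⁻¹ᵁ O))
    (h : Mil i j (a₀ ≫ φ) (b₀ ≫ φ) O) : Function.Bijective (φ.app O) := by
  constructor
  · intro r r' hr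
    refine h.2 r r' ?_ ?_
    · rw [app_comp_apply, app_comp_apply, hr]
    · rw [app_comp_apply, app_comp_apply, hr]
  · intro r₀
    have hV : (i ⁻¹ᵁ a₀ ⁻¹ᵁ φ ⁻¹ᵁ O) = j ⁻¹ᵁ b₀ ⁻¹ᵁ φ ⁻¹ᵁ O := by
      have e : i ⁻¹ᵁ a₀ ⁻¹ᵁ φ ⁻¹ᵁ O = (i ≫ a₀) ⁻¹ᵁ (φ ⁻¹ᵁ O) := rfl
      rw [e, w₀]
      rfl
    obtain ⟨r, hr1, hr2⟩ := h.1 (a₀.app (φ ⁻¹ᵁ O) r₀) (b₀.app (φ ⁻¹ᵁ O) r₀) (i ⁻¹ᵁ a₀ ⁻¹ᵁ φ ⁻¹ᵁ O) rfl hV (by
      have e1 : a₀.appLE (φ ⁻¹ᵁ O) (a₀ ⁻¹ᵁ φ ⁻¹ᵁ O) le_rfl ≫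
          i.appLE (a₀ ⁻¹ᵁ φ ⁻¹ᵁ O) (i ⁻¹ᵁ a₀ ⁻¹ᵁ φ ⁻¹ᵁ O) le_rfl =
          b₀.appLE (φ ⁻¹ᵁ O) (b₀ ⁻¹ᵁ φ ⁻¹ᵁ O) le_rfl ≫
          j.appLE (b₀ ⁻¹ᵁ φ ⁻¹ᵁ O) (i ⁻¹ᵁ a₀ ⁻¹ᵁ φ ⁻¹ᵁ O) hV.le := by
        rw [Scheme.Hom.appLE_comp_appLE, Scheme.Hom.appLE_comp_appLE]
        simp only [w₀]
      rw [Scheme.Hom.appLE_eq_app (f := a₀), Scheme.Hom.appLE_eq_app (f := b₀)] at e1
      exact congr($(e1) r₀))
    refine ⟨r, ?_⟩
    rw [app_comp_apply] at hr1 hr2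
    exact hgl.2 _ _ hr1 hr2

/-- Recognition of pushouts: the square `i, j, a, b` with `a`, `b` affine is a pushout of schemes as soon as `W` is
covered by affine opens over which sections are pairs of sections agreeing on `Z`. -/
theorem isPushout_of_mil {i : Z ⟶ X} {j : Z ⟶ Y} {a : X ⟶ W} {b : Y ⟶ W} [IsClosedImmersion i]
    [IsAffineHom a] [IsAffineHom b] (w : i ≫ a = j ≫ b)
    (hcov : ∀ x : W, ∃ O : W.Opens, IsAffineOpen O ∧ x ∈ O ∧ Mil i j a b O) : IsPushout i j a b := by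
  obtain ⟨W₀, a₀, b₀, hpo, hgl⟩ := exists_isGlued i j (fun y => exists_adapted_of_affine w y)
  let φ : W₀ ⟶ W := hpo.desc a b w
  have ha : a₀ ≫ φ = a := hpo.inl_desc _ _ _
  have hb : b₀ ≫ φ = b := hpo.inr_desc _ _ _
  choose O hO hxO hmil using hcov
  -- the preimages are affine
  have hφO : ∀ x, IsAffineOpen (φ ⁻¹ᵁ O x) := by
    intro x
    obtain ⟨O', hO', h1, h2⟩ := hgl.adapted (a ⁻¹ᵁ O x) (b ⁻¹ᵁ O x) ((hO x).preimage a) ((hO x).preimage b)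
      (by rw [← Scheme.Hom.comp_preimage, w, Scheme.Hom.comp_preimage])
    have h3 : φ ⁻¹ᵁ O x = O' := by
      refine hgl.opens_ext ?_ ?_
      · rw [h1, ← Scheme.Hom.comp_preimage, ha]
      · rw [h2, ← Scheme.Hom.comp_preimage, hb]
    rw [h3]
    exact hO'
  have key : ∀ x, Function.Bijective (φ.app (O x)) := by
    intro x
    refine bijective_of_mil hpo.w φ (O x) (hgl.mil _) ?_
    rw [ha, hb]
    exact hmil x
  let Ua : W → W.affineOpens := fun x => ⟨O x, hO x⟩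
  have hsup : ⨆ x, (Ua x : W.Opens) = ⊤ :=
    top_le_iff.mp fun x _ => Opens.mem_iSup.mpr ⟨x, hxO x⟩
  have hiso : IsIso φ := by
    rw [← MorphismProperty.isomorphisms.iff]
    refine (HasAffineProperty.iff_of_iSup_eq_top (P := MorphismProperty.isomorphisms Scheme.{u})
      Ua hsup).mpr fun x => ?_
    have hi : IsIso (φ.app ((O x).ι ''ᵁ ⊤)) := (ConcreteCategory.isIso_iff_bijective _).mpr
      (by rw [Scheme.Opens.ι_image_top]; exact key x)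
    refine ⟨hφO x, ?_⟩
    rw [morphismRestrict_appTop]
    have h2 : ∀ (V V' : W₀.Opens) (e : V = V'), IsIso (W₀.presheaf.map (eqToHom e).op) := by
      rintro V _ rfl
      infer_instance
    exact IsIso.comp_isIso' hi (h2 _ _ _)
  exact IsPushout.of_iso' (by simpa using! hpo) (Iso.refl _) (Iso.refl _) (Iso.refl _) (asIso φ).symm
    (by simp) (by simp) (by simp [← ha]) (by simp [← hb])

end K263.PushChar
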