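import Groth.Agent.FlatMor.K263.RFGauss
import Groth.Agent.S0437
import Mathlib.FieldTheory.Minpoly.IsIntegrallyClosed
import Mathlib.Algebra.MvPolynomial.NoZeroDivisors

/-!
# Integrality over the Rees algebra of a polynomial ring
-/

set_option autoImplicit false
universe u v w

open Polynomial

namespace K263.RFRees

variable (σ : Type)

/-- The homogenisation map `A[T₀, Tᵢ] → A[Tᵢ][t]`, `T₀ ↦ t`, `Tᵢ ↦ t Tᵢ`. -/
noncomputable def hom (A : Type u) [CommRing A] : MvPolynomial (Option σ) A →ₐ[A] (MvPolynomial σ A)[X] :=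
  MvPolynomial.aeval (fun o => o.elim X (fun i => monomial 1 (MvPolynomial.X i)))

theorem range_hom (A : Type u) [CommRing A] : (hom σ A).range = Groth.Agent.S0437.rees σ A := by
  rw [Groth.Agent.S0437.rees_eq_adjoin, hom, ← Algebra.adjoin_range_eq_range_aeval]
  congr 1
  ext p
  simp only [Set.mem_range, Set.mem_insert_iff, Option.exists, Option.elim]
  constructor
  · rintro (h | ⟨i, h⟩)
    · exact Or.inl h.symm
    · exact Or.inr ⟨i, h⟩
  · rintro (h | ⟨i, h⟩)
    · exact Or.inl h.symm
    · exact Or.inr ⟨i, h⟩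

variable {σ}

theorem totalDegree_coeff_hom {A : Type u} [CommRing A] (q : MvPolynomial (Option σ) A) (j : ℕ) :
    ((hom σ A q).coeff j).totalDegree ≤ j := by
  have h : hom σ A q ∈ Groth.Agent.S0437.rees σ A := by
    rw [← range_hom]; exact ⟨q, rfl⟩
  exact h j

theorem exists_hom_eq {A : Type u} [CommRing A] {j : ℕ} {p : MvPolynomial σ A} (hp : p.totalDegree ≤ j) :
    ∃ q, hom σ A q = monomial j p := by
  have h : monomial j p ∈ Groth.Agent.S0437.rees σ A := Groth.Agent.S0437.monomial_mem_rees hp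
  rw [← range_hom] at h
  exact h

/-- The structure map `A[T₀, Tᵢ] → D[t]`. -/
noncomputable def phi (σ : Type) (A D : Type u) [CommRing A] [CommRing D] [Algebra (MvPolynomial σ A) D] :
    MvPolynomial (Option σ) A →+* D[X] :=
  (mapRingHom (algebraMap (MvPolynomial σ A) D)).comp (hom σ A : MvPolynomial (Option σ) A →+* (MvPolynomial σ A)[X])

/-- The degree condition. -/
def Bd (σ : Type) (A : Type u) {D : Type u} [CommRing A] [CommRing D] [Algebra (MvPolynomial σ A) D] (N : ℕ) (f : D) : Prop :=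
  ∃ p : (MvPolynomial σ A)[X], p.Monic ∧ aeval f p = 0 ∧ ∀ i ≤ p.natDegree, (p.coeff i).totalDegree ≤ (p.natDegree - i) * N

theorem exists_lift {A : Type u} [CommRing A] {p : (MvPolynomial σ A)[X]} (hp : p.Monic) {N : ℕ}
    (hdeg : ∀ i ≤ p.natDegree, (p.coeff i).totalDegree ≤ (p.natDegree - i) * N) :
    ∃ q : (MvPolynomial (Option σ) A)[X], q.Monic ∧
      q.map (hom σ A : MvPolynomial (Option σ) A →+* (MvPolynomial σ A)[X]) = (p.map C).scaleRoots (X ^ N) := by
  nontriviality A
  have hm : ((p.map C).scaleRoots (X ^ N : (MvPolynomial σ A)[X])).Monic := (monic_scaleRoots_iff _).2 (hp.map C)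
  have h1 : (p.map C).scaleRoots (X ^ N) ∈ lifts (hom σ A : MvPolynomial (Option σ) A →+* (MvPolynomial σ A)[X]) := by
    rw [lifts_iff_coeff_lifts]
    intro i
    rw [coeff_scaleRoots, coeff_map, hp.natDegree_map]
    by_cases hi : i ≤ p.natDegree
    · obtain ⟨q, hq⟩ := exists_hom_eq (hdeg i hi)
      refine ⟨q, ?_⟩
      change hom σ A q = _
      rw [hq, ← pow_mul, mul_comm N, C_mul_X_pow_eq_monomial]
    · rw [coeff_eq_zero_of_natDegree_lt (not_le.1 hi), C_0, zero_mul]
      exact ⟨0, map_zero _⟩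
  obtain ⟨q, hq, -, hqm⟩ := lifts_and_natDegree_eq_and_monic h1 hm
  exact ⟨q, hqm, hq⟩

theorem isIntegralElem_of_bd {A D : Type u} [CommRing A] [CommRing D] [Algebra (MvPolynomial σ A) D] {N : ℕ} {f : D}
    (h : Bd σ A N f) : (phi σ A D).IsIntegralElem (monomial N f) := by
  obtain ⟨p, hp, hpf, hdeg⟩ := h
  obtain ⟨q, hq, hqp⟩ := exists_lift hp hdeg
  refine ⟨q, hq, ?_⟩
  rw [phi, ← eval₂_map, hqp]
  have h1 : (monomial N f : D[X]) = mapRingHom (algebraMap (MvPolynomial σ A) D) (X ^ N) * C f := by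
    rw [map_pow, coe_mapRingHom, map_X, X_pow_mul_C, C_mul_X_pow_eq_monomial]
  rw [h1, scaleRoots_eval₂_mul, eval₂_map]
  have h2 : (mapRingHom (algebraMap (MvPolynomial σ A) D)).comp C = C.comp (algebraMap (MvPolynomial σ A) D) := by
    ext x <;> simp
  have h3 : eval₂ (algebraMap (MvPolynomial σ A) D) f p = 0 := hpf
  rw [h2, ← hom_eval₂, h3, map_zero, mul_zero]

theorem phi_apply {A D : Type u} [CommRing A] [CommRing D] [Algebra (MvPolynomial σ A) D]
    (q : MvPolynomial (Option σ) A) (j : ℕ) :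
    (phi σ A D q).coeff j = algebraMap (MvPolynomial σ A) D ((hom σ A q).coeff j) := by
  rw [phi, RingHom.comp_apply, coe_mapRingHom, coeff_map]
  rfl

theorem bd_of_isIntegralElem {A D : Type u} [CommRing A] [Nontrivial A] [CommRing D] [Algebra (MvPolynomial σ A) D] {N : ℕ}
    {f : D} (h : (phi σ A D).IsIntegralElem (monomial N f)) : Bd σ A N f := by
  obtain ⟨q, hq, hqf⟩ := h
  let r := q.natDegree
  let c : ℕ → MvPolynomial σ A := fun i => (hom σ A (q.coeff i)).coeff ((r - i) * N)
  let p : (MvPolynomial σ A)[X] := ∑ i ∈ Finset.range (r + 1), monomial i (c i)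
  have hcoeff : ∀ i, p.coeff i = if i < r + 1 then c i else 0 := by
    intro i
    simp only [p, finsetSum_coeff, coeff_monomial]
    rw [Finset.sum_ite_eq']
    simp only [Finset.mem_range]
  have hcr : c r = 1 := by
    simp only [c, r]
    rw [hq.coeff_natDegree, map_one, Nat.sub_self, zero_mul, coeff_one_zero]
  have hle : p.natDegree ≤ r := by
    refine natDegree_sum_le_of_forall_le _ _ fun i hi => ?_
    exact (natDegree_monomial_le _).trans (Nat.lt_succ_iff.1 (Finset.mem_range.1 hi))
  have hr1 : p.coeff r = 1 := by rw [hcoeff, if_pos (Nat.lt_succ_self r), hcr]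
  have hmon : p.Monic := monic_of_natDegree_le_of_coeff_eq_one r hle hr1
  have hnat : p.natDegree = r := natDegree_eq_of_le_of_coeff_ne_zero hle (by rw [hr1]; exact one_ne_zero)
  refine ⟨p, hmon, ?_, ?_⟩
  · have h1 := congrArg (fun z => coeff z (r * N)) hqf
    simp only [coeff_zero] at h1
    rw [eval₂_eq_sum_range, finsetSum_coeff] at h1
    rw [aeval_def, eval₂_finsetSum, ← h1]
    refine Finset.sum_congr rfl fun i hi => ?_
    have hir : i ≤ r := Nat.lt_succ_iff.1 (Finset.mem_range.1 hi)
    rw [eval₂_monomial, monomial_pow]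
    have h2 : r * N = (r - i) * N + N * i := by
      rw [mul_comm N i, ← add_mul, Nat.sub_add_cancel hir]
    rw [h2, coeff_mul_monomial, phi_apply]
  · intro i hi
    rw [hnat] at hi ⊢
    rw [hcoeff, if_pos (Nat.lt_succ_iff.2 hi)]
    exact totalDegree_coeff_hom _ _

theorem bd_iff {A D : Type u} [CommRing A] [Nontrivial A] [CommRing D] [Algebra (MvPolynomial σ A) D] {N : ℕ}
    {f : D} : Bd σ A N f ↔ (phi σ A D).IsIntegralElem (monomial N f) :=
  ⟨isIntegralElem_of_bd, bd_of_isIntegralElem⟩

theorem bd_add {A D : Type u} [CommRing A] [Nontrivial A] [CommRing D] [Algebra (MvPolynomial σ A) D] {N : ℕ}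
    {f g : D} (hf : Bd σ A N f) (hg : Bd σ A N g) : Bd σ A N (f + g) := by
  rw [bd_iff] at hf hg ⊢
  rw [map_add]
  exact hf.add _ hg

theorem bd_zero {A D : Type u} [CommRing A] [Nontrivial A] [CommRing D] [Algebra (MvPolynomial σ A) D] {N : ℕ} :
    Bd σ A N (0 : D) := by
  rw [bd_iff, map_zero]
  exact (phi σ A D).isIntegralElem_zero

theorem bd_smul {A D : Type u} [CommRing A] [Nontrivial A] [CommRing D] [Algebra (MvPolynomial σ A) D] {N : ℕ}
    {f : D} (hf : Bd σ A N f) (a : A) : Bd σ A N (algebraMap (MvPolynomial σ A) D (MvPolynomial.C a) * f) := by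
  rw [bd_iff] at hf ⊢
  have h1 : (monomial N (algebraMap (MvPolynomial σ A) D (MvPolynomial.C a) * f) : D[X]) =
      phi σ A D (MvPolynomial.C a) * monomial N f := by
    have h2 : phi σ A D (MvPolynomial.C a) = C (algebraMap (MvPolynomial σ A) D (MvPolynomial.C a)) := by
      rw [phi, RingHom.comp_apply]
      have h3 : (hom σ A : MvPolynomial (Option σ) A →+* (MvPolynomial σ A)[X]) (MvPolynomial.C a) =
        C (MvPolynomial.C a) := (hom σ A).commutes a
      rw [h3, coe_mapRingHom, map_C]
    rw [h2, C_mul_monomial]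
  rw [h1]
  exact ((phi σ A D).isIntegralElem_map).mul _ hf

/-- An element of the polynomial ring satisfying the degree condition has small degree. -/
theorem totalDegree_le_of_bd {K : Type u} [Field K] {c : MvPolynomial σ K} {N : ℕ} (h : Bd σ K N c) :
    c.totalDegree ≤ N := by
  obtain ⟨p, hp, hpc, hdeg⟩ := h
  by_contra hcon
  push Not at hcon
  have hc0 : c ≠ 0 := by
    rintro rfl
    simp at hcon
  have hr : 0 < p.natDegree := by
    rw [Nat.pos_iff_ne_zero]
    intro h0
    have h0' : p = 1 := eq_one_of_monic_natDegree_zero hp h0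
    rw [h0', map_one] at hpc
    exact one_ne_zero hpc
  rw [aeval_eq_sum_range, Finset.sum_range_succ, hp.coeff_natDegree, one_smul] at hpc
  have h1 : c ^ p.natDegree = - ∑ i ∈ Finset.range p.natDegree, p.coeff i • c ^ i := by
    rw [eq_neg_iff_add_eq_zero, add_comm]; exact hpc
  have hpow : ∀ n : ℕ, (c ^ n).totalDegree = n * c.totalDegree := by
    intro n
    induction n with
    | zero => simp
    | succ n ih =>
      rw [pow_succ, MvPolynomial.totalDegree_mul_of_isDomain (pow_ne_zero n hc0) hc0, ih]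
      ring
  have h2 := congrArg MvPolynomial.totalDegree h1
  rw [hpow, MvPolynomial.totalDegree_neg] at h2
  have h3 : (∑ i ∈ Finset.range p.natDegree, p.coeff i • c ^ i).totalDegree < p.natDegree * c.totalDegree := by
    refine lt_of_le_of_lt (MvPolynomial.totalDegree_finsetSum_le (d := p.natDegree * c.totalDegree - 1) ?_)
      (Nat.sub_one_lt (Nat.mul_ne_zero hr.ne' (by omega)))
    intro i hi
    have hir := Finset.mem_range.1 hi
    rw [smul_eq_mul]
    refine (MvPolynomial.totalDegree_mul _ _).trans ?_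
    rw [hpow]
    have h4 := hdeg i hir.le
    have h5 : (p.natDegree - i) * N < (p.natDegree - i) * c.totalDegree :=
      Nat.mul_lt_mul_of_pos_left hcon (Nat.sub_pos_of_lt hir)
    have h6 : (p.natDegree - i) * c.totalDegree + i * c.totalDegree = p.natDegree * c.totalDegree := by
      rw [← add_mul, Nat.sub_add_cancel hir.le]
    omega
  omega

/-- The minimal polynomial satisfies the degree condition. -/
theorem totalDegree_coeff_minpoly {K D : Type u} [Field K] [Finite σ] [CommRing D] [IsDomain D] [Algebra (MvPolynomial σ K) D]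
    (hinj : Function.Injective (algebraMap (MvPolynomial σ K) D)) {N : ℕ} {f : D} (h : Bd σ K N f) (i : ℕ) :
    ((minpoly (MvPolynomial σ K) f).coeff i).totalDegree ≤ ((minpoly (MvPolynomial σ K) f).natDegree - i) * N := by
  have hcl := RFGauss.isIntegrallyClosed_mvPolynomial K σ
  have hfaith : FaithfulSMul (MvPolynomial σ K) D := (faithfulSMul_iff_algebraMap_injective _ _).2 hinj
  obtain ⟨p, hp, hpf, hdeg⟩ := h
  have hf : IsIntegral (MvPolynomial σ K) f := ⟨p, hp, hpf⟩
  have hdvd := minpoly.isIntegrallyClosed_dvd hf hpf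
  obtain ⟨q, hq, hqp⟩ := exists_lift hp hdeg
  let _ : Algebra (MvPolynomial (Option σ) K) (MvPolynomial σ K)[X] :=
    (hom σ K : MvPolynomial (Option σ) K →+* (MvPolynomial σ K)[X]).toAlgebra
  have hd2 : ((minpoly (MvPolynomial σ K) f).map C).scaleRoots (X ^ N) ∣
      q.map (algebraMap (MvPolynomial (Option σ) K) (MvPolynomial σ K)[X]) := by
    have h1 : q.map (algebraMap (MvPolynomial (Option σ) K) (MvPolynomial σ K)[X]) = (p.map C).scaleRoots (X ^ N) := hqp
    rw [h1]
    exact scaleRoots_dvd _ _ (map_dvd (mapRingHom C) hdvd)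
  have hm := minpoly.monic hf
  have h2 := isIntegral_coeff_of_dvd q _ hq ((monic_scaleRoots_iff _).2 (hm.map C)) hd2 i
  rw [coeff_scaleRoots, coeff_map, hm.natDegree_map, ← pow_mul, mul_comm N, C_mul_X_pow_eq_monomial] at h2
  apply totalDegree_le_of_bd
  rw [bd_iff]
  obtain ⟨q', hq', hqq⟩ := h2
  refine ⟨q', hq', ?_⟩
  have h3 : phi σ K (MvPolynomial σ K) = algebraMap (MvPolynomial (Option σ) K) (MvPolynomial σ K)[X] := by
    rw [phi]
    have h4 : mapRingHom (algebraMap (MvPolynomial σ K) (MvPolynomial σ K)) = RingHom.id _ := mapRingHom_id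
    rw [h4, RingHom.id_comp]
    rfl
  rw [h3]
  exact hqq

end K263.RFRees
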