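import Groth.Agent.FlatMor.K263.RFPoints
import Groth.Agent.FlatMor.K263.RFRees
import Mathlib.RingTheory.Flat.TorsionFree

/-!
# The graded pieces of the unit ball are finitely generated
-/

set_option autoImplicit false
universe u v w

open Polynomial IsLocalRing

namespace K263.RFBall

open RFPoints RFRees

/-- Saturated submodules of finite free modules over valuation rings are finitely generated. -/
theorem fg_of_saturated {R : Type u} [CommRing R] [IsDomain R] [ValuationRing R] {ι : Type u} [Finite ι]
    (S : Submodule R (ι → R)) (hS : ∀ a : R, a ≠ 0 → ∀ v, a • v ∈ S → v ∈ S) : S.FG := by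
  have htf : Module.IsTorsionFree R ((ι → R) ⧸ S) := by
    refine Module.IsTorsionFree.of_smul_eq_zero fun a x hax => ?_
    obtain ⟨v, rfl⟩ := Submodule.Quotient.mk_surjective S x
    by_cases ha : a = 0
    · exact Or.inl ha
    · right
      rw [← Submodule.Quotient.mk_smul, Submodule.Quotient.mk_eq_zero] at hax
      rw [Submodule.Quotient.mk_eq_zero]
      exact hS a ha v hax
  have hfl : Module.Flat R ((ι → R) ⧸ S) := by
    rw [Module.Flat.flat_iff_torsion_eq_bot_of_isBezout, ← Submodule.isTorsionFree_iff_torsion_eq_bot]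
    exact htf
  have hfp : Module.FinitePresentation R ((ι → R) ⧸ S) := Groth.Agent.S0437.result (A := R) (B := R)
  have := Module.FinitePresentation.fg_ker S.mkQ S.mkQ_surjective
  rwa [Submodule.ker_mkQ] at this

section Residue

variable (R K : Type u) [CommRing R] [IsDomain R] [ValuationRing R] [Field K] [IsAlgClosed K] [Algebra R K]
  [IsFractionRing R K]

include K in
theorem isAlgClosed_residueField : IsAlgClosed (ResidueField R) := by
  have := RFGauss.isIntegrallyClosed_of_valuationRing R
  refine IsAlgClosed.of_exists_root _ fun p hp hirr => ?_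
  obtain ⟨q, hq, hqd, hqm⟩ := lifts_and_natDegree_eq_and_monic (f := residue R) (p := p) (by
    rw [lifts_iff_coeff_lifts]
    exact fun n => residue_surjective _) hp
  have hdeg : (q.map (algebraMap R K)).degree ≠ 0 := by
    rw [hqm.degree_map]
    intro h
    have h1 : q.natDegree = 0 := natDegree_eq_of_degree_eq_some h
    rw [hqd] at h1
    exact hirr.natDegree_pos.ne' h1
  obtain ⟨z, hz⟩ := IsAlgClosed.exists_root (q.map (algebraMap R K)) hdeg
  rw [IsRoot, eval_map] at hz
  obtain ⟨r, hr⟩ := (IsIntegrallyClosed.isIntegral_iff (R := R) (K := K)).1 ⟨q, hqm, hz⟩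
  refine ⟨residue R r, ?_⟩
  rw [← hr, eval₂_at_apply, map_eq_zero_iff _ (IsFractionRing.injective R K)] at hz
  rw [← hq, eval_map, eval₂_at_apply, hz, map_zero]

include K in
theorem exists_grid (n : ℕ) : ∃ G : Finset R, n < G.card ∧ Set.InjOn (residue R) (G : Set R) := by
  classical
  have := isAlgClosed_residueField R K
  have hinf : Infinite (ResidueField R) := IsAlgClosed.instInfinite
  obtain ⟨S, hS⟩ := Infinite.exists_subset_card_eq (ResidueField R) (n + 1)
  choose g hg using residue_surjective (R := R)
  have hinj : Function.Injective g := fun x y h => by rw [← hg x, ← hg y, h]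
  refine ⟨S.image g, ?_, ?_⟩
  · rw [Finset.card_image_of_injective _ hinj, hS]; exact Nat.lt_succ_self n
  · intro x hx y hy hxy
    rw [Finset.mem_coe, Finset.mem_image] at hx hy
    obtain ⟨a, -, rfl⟩ := hx
    obtain ⟨b, -, rfl⟩ := hy
    rw [hg, hg] at hxy
    rw [hxy]

end Residue

section Ball

variable {R K D : Type u} [CommRing R] [IsDomain R] [ValuationRing R] [Field K] [IsAlgClosed K] [Algebra R K]
  [IsFractionRing R K] {σ : Type} [Finite σ] [CommRing D] [IsDomain D] [Algebra (MvPolynomial σ K) D]
  [Module.Finite (MvPolynomial σ K) D] [Algebra (MvPolynomial σ R) D]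

/-- Compatibility of the two algebra structures. -/
def Compat (R K D : Type u) [CommRing R] [Field K] [Algebra R K] (σ : Type) [CommRing D]
    [Algebra (MvPolynomial σ K) D] [Algebra (MvPolynomial σ R) D] : Prop :=
  algebraMap (MvPolynomial σ R) D = (algebraMap (MvPolynomial σ K) D).comp (MvPolynomial.map (algebraMap R K))

omit [IsDomain R] [ValuationRing R] [IsAlgClosed K] [IsFractionRing R K] [Finite σ] [IsDomain D]
  [Module.Finite (MvPolynomial σ K) D] in
theorem bd_map (h : Compat R K D σ) {N : ℕ} {f : D} (hf : Bd σ R N f) : Bd σ K N f := by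
  obtain ⟨p, hp, hpf, hdeg⟩ := hf
  have hn : (p.map (MvPolynomial.map (σ := σ) (algebraMap R K))).natDegree = p.natDegree := hp.natDegree_map _
  refine ⟨p.map (MvPolynomial.map (algebraMap R K)), hp.map _, ?_, ?_⟩
  · rw [aeval_def, eval₂_map, ← h]
    exact hpf
  · intro i hi
    rw [hn] at hi ⊢
    rw [coeff_map]
    exact (Groth.Agent.S0437.totalDegree_map_le _ _).trans (hdeg i hi)

omit [IsDomain R] [ValuationRing R] [IsAlgClosed K] [IsFractionRing R K] [Finite σ] [IsDomain D]
  [Module.Finite (MvPolynomial σ K) D] in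
theorem isIntegral_pt (h : Compat R K D σ) {f : D} (hf : IsIntegral (MvPolynomial σ R) f) (a : σ → R)
    (x : Pts σ K D (fun i => algebraMap R K (a i))) : IsIntegral R (x.1 f) := by
  obtain ⟨p, hp, hpf⟩ := hf
  obtain ⟨x, hx⟩ := x
  refine ⟨p.map (MvPolynomial.eval a), hp.map _, ?_⟩
  have h1 : (algebraMap R K).comp (MvPolynomial.eval a) = x.comp (algebraMap (MvPolynomial σ R) D) := by
    refine RingHom.ext fun q => ?_
    rw [h, RingHom.comp_apply, RingHom.comp_apply, RingHom.comp_apply, hx, MvPolynomial.map_eval]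
    rfl
  rw [eval₂_map, h1]
  change eval₂ _ (x f) p = 0
  rw [← hom_eval₂, hpf, map_zero]

/-- Elements of bounded degree which are integral at all points of a large grid are integral. -/
theorem bd_of_isIntegral_pt (h : Compat R K D σ) (hinj : Function.Injective (algebraMap (MvPolynomial σ K) D))
    (d : ℕ) (hd : ∀ f : D, (minpoly (MvPolynomial σ K) f).natDegree ≤ d) (N : ℕ) (G : Finset R)
    (hG : Set.InjOn (residue R) (G : Set R)) (hGc : d * N < G.card) {f : D} (hf : Bd σ K N f)
    (hx : ∀ (a : σ → R), (∀ i, a i ∈ G) → ∀ x : Pts σ K D (fun i => algebraMap R K (a i)), IsIntegral R (x.1 f)) :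
    Bd σ R N f := by
  have hcl := RFGauss.isIntegrallyClosed_of_valuationRing R
  have hf' : IsIntegral (MvPolynomial σ K) f := Algebra.IsIntegral.isIntegral f
  have hm := minpoly.monic hf'
  have hdeg := totalDegree_coeff_minpoly hinj hf
  have h1 : ∀ i, ∃ c : MvPolynomial σ R, MvPolynomial.map (algebraMap R K) c = (minpoly (MvPolynomial σ K) f).coeff i := by
    intro i
    refine exists_map_eq G hG _ (fun j => ?_) ?_
    · refine lt_of_le_of_lt (MvPolynomial.degreeOf_le_totalDegree _ _) ?_
      refine lt_of_le_of_lt (hdeg i) (lt_of_le_of_lt ?_ hGc)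
      exact Nat.mul_le_mul_right _ ((Nat.sub_le _ _).trans (hd f))
    · intro a ha
      have h2 : ∀ j, IsIntegral R (((minpoly (MvPolynomial σ K) f).map
          (MvPolynomial.eval (fun i => algebraMap R K (a i)))).coeff j) := by
        refine isIntegral_coeff_of_factors _ ?_ (IsAlgClosed.splits _) ?_
        · rw [(hm.map _).leadingCoeff]; exact isIntegral_one
        · intro y hy
          rw [IsRoot, eval_map] at hy
          obtain ⟨x, rfl⟩ := exists_pt hinj _ f hy
          exact hx a ha x
      obtain ⟨r, hr⟩ := (IsIntegrallyClosed.isIntegral_iff (R := R) (K := K)).1 (h2 i)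
      exact ⟨r, by rw [hr, coeff_map]⟩
  choose c hc using h1
  have hl : minpoly (MvPolynomial σ K) f ∈ lifts (MvPolynomial.map (σ := σ) (algebraMap R K)) := by
    rw [lifts_iff_coeff_lifts]
    exact fun n => ⟨c n, hc n⟩
  obtain ⟨q, hq, hqd, hqm⟩ := lifts_and_natDegree_eq_and_monic hl hm
  refine ⟨q, hqm, ?_, ?_⟩
  · rw [aeval_def, h, ← eval₂_map, hq]
    exact minpoly.aeval _ _
  · intro i hi
    rw [hqd]
    have h3 : (q.coeff i).totalDegree = ((minpoly (MvPolynomial σ K) f).coeff i).totalDegree := by
      rw [← hq, coeff_map]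
      unfold MvPolynomial.totalDegree
      rw [MvPolynomial.support_map_of_injective _ (IsFractionRing.injective R K)]
    rw [h3]
    exact hdeg i

/-- Elements of bounded degree vanishing at all points of a large grid are zero. -/
theorem eq_zero_of_pt (hinj : Function.Injective (algebraMap (MvPolynomial σ K) D))
    (d : ℕ) (hd : ∀ f : D, (minpoly (MvPolynomial σ K) f).natDegree ≤ d) (N : ℕ) (G : Finset R)
    (hG : Set.InjOn (residue R) (G : Set R)) (hGc : d * N < G.card) {f : D} (hf : Bd σ K N f)
    (hx : ∀ (a : σ → R), (∀ i, a i ∈ G) → ∀ x : Pts σ K D (fun i => algebraMap R K (a i)), x.1 f = 0) : f = 0 := by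
  classical
  have hf' : IsIntegral (MvPolynomial σ K) f := Algebra.IsIntegral.isIntegral f
  have hm := minpoly.monic hf'
  have hdeg := totalDegree_coeff_minpoly hinj hf
  have hGinj : Function.Injective (algebraMap R K) := IsFractionRing.injective R K
  have h1 : ∀ i, i ≠ (minpoly (MvPolynomial σ K) f).natDegree → (minpoly (MvPolynomial σ K) f).coeff i = 0 := by
    intro i hi
    refine MvPolynomial.eq_zero_of_eval_zero_at_prod_finset _ (fun _ => G.image (algebraMap R K)) (fun j => ?_) ?_
    · rw [Finset.card_image_of_injective _ hGinj]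
      refine lt_of_le_of_lt (MvPolynomial.degreeOf_le_totalDegree _ _) ?_
      refine lt_of_le_of_lt (hdeg i) (lt_of_le_of_lt ?_ hGc)
      exact Nat.mul_le_mul_right _ ((Nat.sub_le _ _).trans (hd f))
    · intro b hb
      choose a ha hab using fun i => Finset.mem_image.1 (hb i)
      have hb' : b = fun i => algebraMap R K (a i) := funext fun i => (hab i).symm
      subst hb'
      let q : K[X] := (minpoly (MvPolynomial σ K) f).map (MvPolynomial.eval (fun i => algebraMap R K (a i)))
      have hq : q.Monic := hm.map _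
      have hroots : ∀ y ∈ q.roots, y = 0 := by
        intro y hy
        rw [mem_roots hq.ne_zero, IsRoot, eval_map] at hy
        obtain ⟨x, rfl⟩ := exists_pt hinj _ f hy
        exact hx a ha x
      have h2 : q = (q.roots.map fun a => X - C a).prod := (IsAlgClosed.splits q).eq_prod_roots_of_monic hq
      have h3 : q.roots = Multiset.replicate (Multiset.card q.roots) 0 := Multiset.eq_replicate_card.2 hroots
      rw [h3, Multiset.map_replicate, Multiset.prod_replicate, C_0, sub_zero] at h2
      have h4 : Multiset.card q.roots = (minpoly (MvPolynomial σ K) f).natDegree := by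
        rw [← hm.natDegree_map (MvPolynomial.eval (fun i => algebraMap R K (a i)))]
        change _ = q.natDegree
        rw [h2, natDegree_X_pow]
        simp
      have h5 := congrArg (fun z => coeff z i) h2
      simp only [q, coeff_map, coeff_X_pow] at h5
      rw [h5, if_neg]
      intro h6
      apply hi
      rw [h6]
      exact h4
  have h7 : minpoly (MvPolynomial σ K) f = X ^ (minpoly (MvPolynomial σ K) f).natDegree := by
    ext1 i
    rw [coeff_X_pow]
    split_ifs with h
    · rw [h, hm.coeff_natDegree]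
    · exact h1 i h
  have h8 := minpoly.aeval (MvPolynomial σ K) f
  rw [h7, map_pow, aeval_X] at h8
  exact (pow_eq_zero_iff (minpoly.natDegree_pos hf').ne').1 h8

variable [Algebra R D] [IsScalarTower R (MvPolynomial σ R) D]

/-- The graded pieces of the unit ball. -/
def ball (R D : Type u) [CommRing R] [IsDomain R] (σ : Type) [CommRing D] [Algebra (MvPolynomial σ R) D] [Algebra R D]
    [IsScalarTower R (MvPolynomial σ R) D] (N : ℕ) : Submodule R D where
  carrier := {f | Bd σ R N f}
  add_mem' := fun hf hg => bd_add hf hg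
  zero_mem' := bd_zero
  smul_mem' := fun a f hf => by
    have h1 : a • f = algebraMap (MvPolynomial σ R) D (MvPolynomial.C a) * f := by
      rw [Algebra.smul_def, IsScalarTower.algebraMap_apply R (MvPolynomial σ R) D]
      rfl
    change Bd σ R N (a • f)
    rw [h1]
    exact bd_smul hf a

omit [IsAlgClosed K] [Algebra R K] [IsFractionRing R K] [Finite σ] [IsDomain D] [Field K] [Algebra (MvPolynomial σ K) D]
  [Module.Finite (MvPolynomial σ K) D] [ValuationRing R] in
theorem mem_ball {N : ℕ} {f : D} : f ∈ ball R D σ N ↔ Bd σ R N f := Iff.rfl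

/-- **Finite generation of the graded pieces.** -/
theorem ball_fg (h : Compat R K D σ) (hinj : Function.Injective (algebraMap (MvPolynomial σ K) D)) (N : ℕ) :
    (ball R D σ N).FG := by
  classical
  have hcl := RFGauss.isIntegrallyClosed_of_valuationRing R
  have hRK : Function.Injective (algebraMap R K) := IsFractionRing.injective R K
  obtain ⟨d, hd⟩ := exists_bound σ K D
  obtain ⟨G, hGc, hG⟩ := exists_grid R K (d * N)
  let A : Type u := {a : σ → R // ∀ i, a i ∈ G}
  have hA : Finite A := by
    let e : A → (σ → G) := fun a i => ⟨a.1 i, a.2 i⟩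
    exact Finite.of_injective e fun a b hab => Subtype.ext (funext fun i => congrArg Subtype.val (congrFun hab i))
  let ι : Type u := Σ a : A, Pts σ K D (fun i => algebraMap R K (a.1 i))
  have hι : Finite ι := by
    have : ∀ a : A, Finite (Pts σ K D (fun i => algebraMap R K (a.1 i))) := fun a => finite_pts _
    infer_instance
  have hsm : ∀ (x : ι) (r : R) (f : D), x.2.1 (r • f) = algebraMap R K r * x.2.1 f := by
    rintro ⟨a, x, hx⟩ r f
    have h1 : r • f = algebraMap (MvPolynomial σ K) D (MvPolynomial.C (algebraMap R K r)) * f := by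
      rw [Algebra.smul_def, IsScalarTower.algebraMap_apply R (MvPolynomial σ R) D, h, RingHom.comp_apply]
      congr 2
      exact MvPolynomial.map_C _ _
    change x (r • f) = algebraMap R K r * x f
    rw [h1, map_mul, hx, MvPolynomial.eval_C]
  have hev0 : ∀ f : D, Bd σ K N f → (∀ x : ι, x.2.1 f = 0) → f = 0 := fun f hf hx =>
    eq_zero_of_pt hinj d hd N G hG hGc hf fun a ha x => hx ⟨⟨a, ha⟩, x⟩
  have hevR : ∀ f : D, Bd σ K N f → (∀ x : ι, IsIntegral R (x.2.1 f)) → Bd σ R N f := fun f hf hx =>
    bd_of_isIntegral_pt h hinj d hd N G hG hGc hf fun a ha x => hx ⟨⟨a, ha⟩, x⟩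
  have hRev : ∀ f : D, Bd σ R N f → ∀ x : ι, IsIntegral R (x.2.1 f) := by
    rintro f ⟨p, hp, hpf, -⟩ ⟨a, x⟩
    exact isIntegral_pt h ⟨p, hp, hpf⟩ a.1 x
  have hneg : ∀ f : D, Bd σ K N f → Bd σ K N (-f) := by
    intro f hf
    have := bd_smul hf (-1)
    rwa [map_neg, map_neg, map_one, map_one, neg_one_mul] at this
  let S : Submodule R (ι → R) :=
    { carrier := {v | ∃ f : D, Bd σ K N f ∧ ∀ x : ι, x.2.1 f = algebraMap R K (v x)}
      add_mem' := by
        rintro v w ⟨f, hf, hfv⟩ ⟨g, hg, hgw⟩
        exact ⟨f + g, bd_add hf hg, fun x => by rw [map_add, hfv, hgw, Pi.add_apply, map_add]⟩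
      zero_mem' := ⟨0, bd_zero, fun x => by rw [map_zero, Pi.zero_apply, map_zero]⟩
      smul_mem' := by
        rintro r v ⟨f, hf, hfv⟩
        refine ⟨r • f, ?_, fun x => by rw [hsm, hfv, Pi.smul_apply, smul_eq_mul, map_mul]⟩
        have h1 : r • f = algebraMap (MvPolynomial σ K) D (MvPolynomial.C (algebraMap R K r)) * f := by
          rw [Algebra.smul_def, IsScalarTower.algebraMap_apply R (MvPolynomial σ R) D, h, RingHom.comp_apply]
          congr 2
          exact MvPolynomial.map_C _ _
        rw [h1]
        exact bd_smul hf _ }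
  have hS : S.FG := by
    refine fg_of_saturated S ?_
    rintro r hr v ⟨f, hf, hfv⟩
    have hrK : algebraMap R K r ≠ 0 := fun h => hr (hRK (h.trans (map_zero _).symm))
    refine ⟨algebraMap (MvPolynomial σ K) D (MvPolynomial.C (algebraMap R K r)⁻¹) * f, bd_smul hf _, ?_⟩
    rintro ⟨a, x, hx⟩
    have h1 := hfv ⟨a, x, hx⟩
    change x f = _ at h1
    change x _ = _
    rw [map_mul, hx, MvPolynomial.eval_C, h1, Pi.smul_apply, smul_eq_mul, map_mul, ← mul_assoc, inv_mul_cancel₀ hrK,
      one_mul]
  obtain ⟨s, hs⟩ := hS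
  have hmem : ∀ v ∈ s, v ∈ S := fun v hv => hs ▸ Submodule.subset_span hv
  choose! F hF hFv using fun v (hv : v ∈ s) => (hmem v hv : ∃ f : D, Bd σ K N f ∧ ∀ x : ι, x.2.1 f = algebraMap R K (v x))
  refine ⟨s.image F, le_antisymm ?_ ?_⟩
  · rw [Submodule.span_le]
    intro f hf
    rw [Finset.coe_image] at hf
    obtain ⟨v, hv, rfl⟩ := hf
    exact hevR _ (hF v hv) fun x => by rw [hFv v hv]; exact isIntegral_algebraMap
  · intro f hf
    have h2 : ∀ x : ι, ∃ r : R, algebraMap R K r = x.2.1 f := fun x =>
      (IsIntegrallyClosed.isIntegral_iff (R := R) (K := K)).1 (hRev f hf x)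
    choose v hv using h2
    have hvS : v ∈ S := ⟨f, bd_map h hf, fun x => (hv x).symm⟩
    rw [← hs] at hvS
    obtain ⟨c, -, hc⟩ := Submodule.mem_span_finset.1 hvS
    have h3 : f = ∑ w ∈ s, c w • F w := by
      rw [← sub_eq_zero]
      have hsumK : Bd σ K N (∑ w ∈ s, c w • F w) := by
        refine bd_map h ?_
        refine (mem_ball (R := R)).1 (Submodule.sum_mem _ fun w hw => Submodule.smul_mem _ _ ?_)
        exact hevR _ (hF w hw) fun x => by rw [hFv w hw]; exact isIntegral_algebraMap
      refine hev0 _ ?_ ?_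
      · rw [sub_eq_add_neg]
        exact bd_add (bd_map h hf) (hneg _ hsumK)
      · intro x
        rw [map_sub, ← hv x, ← hc, map_sum, Finset.sum_apply, map_sum, sub_eq_zero]
        refine Finset.sum_congr rfl fun w hw => ?_
        rw [hsm, hFv w hw, Pi.smul_apply, smul_eq_mul, map_mul]
    rw [h3]
    refine Submodule.sum_mem _ fun w hw => Submodule.smul_mem _ _ (Submodule.subset_span ?_)
    exact Finset.mem_coe.2 (Finset.mem_image_of_mem _ hw)

end Ball

end K263.RFBall
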