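import Groth.Agent.FlatMor.K263.ValKap
import Mathlib.RingTheory.Polynomial.IsIntegral
import Mathlib.RingTheory.Polynomial.ScaleRoots
import Mathlib.FieldTheory.Minpoly.Field
import Mathlib.RingTheory.LocalRing.ResidueField.Basic
import Mathlib.RingTheory.Valuation.ValuationRing
import Mathlib.Algebra.GCDMonoid.IntegrallyClosed
import Mathlib.RingTheory.PrincipalIdealDomain

/-!
# Gauss lemma over valuation rings and a criterion of integrality
-/

set_option autoImplicit false
universe u v w

open Polynomial IsLocalRing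

namespace K263.RFGauss

theorem isIntegrallyClosed_of_valuationRing (R : Type u) [CommRing R] [IsDomain R] [ValuationRing R] :
    IsIntegrallyClosed R := by
  classical
  let _ := IsBezout.toGCDDomain R
  exact GCDMonoid.toIsIntegrallyClosed

/-- Polynomial rings over integrally closed domains are integrally closed. -/
theorem isIntegrallyClosed_mvPolynomial (R : Type u) [CommRing R] [IsDomain R] [IsIntegrallyClosed R] (σ : Type v)
    [Finite σ] : IsIntegrallyClosed (MvPolynomial σ R) := by
  have key : ∀ n : ℕ, IsIntegrallyClosed (MvPolynomial (Fin n) R) := by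
    intro n
    induction n with
    | zero => exact IsIntegrallyClosed.of_equiv (MvPolynomial.isEmptyRingEquiv R (Fin 0)).symm
    | succ n ih =>
      exact IsIntegrallyClosed.of_equiv (MvPolynomial.finSuccEquiv R n).symm.toRingEquiv
  obtain ⟨n, ⟨e⟩⟩ := Finite.exists_equiv_fin σ
  have := key n
  exact IsIntegrallyClosed.of_equiv (MvPolynomial.renameEquiv R e.symm).toRingEquiv

section Content

variable {R : Type u} [CommRing R] [IsDomain R] [ValuationRing R] {τ : Type v}

/-- Extracting the content of a polynomial over a valuation ring. -/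
theorem exists_content (F : MvPolynomial τ R) (hF : F ≠ 0) :
    ∃ (a : R) (G : MvPolynomial τ R) (s : τ →₀ ℕ), a ≠ 0 ∧ F = MvPolynomial.C a * G ∧ G.coeff s = 1 ∧ F.coeff s = a := by
  classical
  obtain ⟨a, ha, hdiv⟩ := ValKap.exists_dvd_all (F.support.image fun s => F.coeff s) (by
    rw [Finset.image_nonempty]
    exact MvPolynomial.support_nonempty.2 hF)
  obtain ⟨s, hs, rfl⟩ := Finset.mem_image.1 ha
  have ha0 : F.coeff s ≠ 0 := MvPolynomial.mem_support_iff.1 hs
  have h1 : ∀ t, F.coeff s ∣ F.coeff t := by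
    intro t
    by_cases ht : F.coeff t = 0
    · rw [ht]; exact dvd_zero _
    · exact hdiv _ (Finset.mem_image.2 ⟨t, MvPolynomial.mem_support_iff.2 ht, rfl⟩)
  obtain ⟨G, hG⟩ := (MvPolynomial.C_dvd_iff_dvd_coeff (F.coeff s) F).2 h1
  refine ⟨F.coeff s, G, s, ha0, hG, ?_, rfl⟩
  have h2 := congrArg (MvPolynomial.coeff s) hG
  rw [MvPolynomial.coeff_C_mul] at h2
  exact mul_left_cancel₀ ha0 (by rw [← h2, mul_one])

/-- A polynomial is nonzero modulo the maximal ideal iff some coefficient is a unit. -/
theorem map_residue_ne_zero_iff {F : MvPolynomial τ R} :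
    MvPolynomial.map (residue R) F ≠ 0 ↔ ∃ s, IsUnit (F.coeff s) := by
  rw [MvPolynomial.ne_zero_iff]
  refine exists_congr fun s => ?_
  rw [MvPolynomial.coeff_map, residue_ne_zero_iff_isUnit]

theorem exists_isUnit_coeff_mul {F G : MvPolynomial τ R} (hF : ∃ s, IsUnit (F.coeff s)) (hG : ∃ s, IsUnit (G.coeff s)) :
    ∃ s, IsUnit ((F * G).coeff s) := by
  rw [← map_residue_ne_zero_iff] at hF hG ⊢
  rw [map_mul]
  exact mul_ne_zero hF hG

theorem exists_isUnit_coeff_pow {F : MvPolynomial τ R} (hF : ∃ s, IsUnit (F.coeff s)) (n : ℕ) :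
    ∃ s, IsUnit ((F ^ n).coeff s) := by
  rw [← map_residue_ne_zero_iff] at hF ⊢
  rw [map_pow]
  exact pow_ne_zero _ hF

/-- Gauss lemma. -/
theorem C_dvd_of_dvd_mul {a : R} {F G : MvPolynomial τ R} (hG : ∃ s, IsUnit (G.coeff s))
    (h : MvPolynomial.C a ∣ G * F) : MvPolynomial.C a ∣ F := by
  by_cases hF : F = 0
  · rw [hF]; exact dvd_zero _
  obtain ⟨b, F', s, hb, hF', hs, -⟩ := exists_content F hF
  obtain ⟨t, ht⟩ := exists_isUnit_coeff_mul hG ⟨s, hs.symm ▸ isUnit_one⟩
  have h1 : a ∣ b := by
    rw [hF', mul_left_comm, MvPolynomial.C_dvd_iff_dvd_coeff] at h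
    have := h t
    rw [MvPolynomial.coeff_C_mul] at this
    exact (ht.dvd_mul_right).1 this
  rw [hF']
  exact (map_dvd MvPolynomial.C h1).mul_right _

/-- Extracting the content of a family of polynomials over a valuation ring. -/
theorem exists_content_family {ι : Type*} (s : Finset ι) (F : ι → MvPolynomial τ R) (hF : ∃ i ∈ s, F i ≠ 0) :
    ∃ (a : R) (G : ι → MvPolynomial τ R), a ≠ 0 ∧ (∀ i ∈ s, F i = MvPolynomial.C a * G i) ∧
      ∃ i ∈ s, ∃ t, (G i).coeff t = 1 := by
  classical
  obtain ⟨i₀, hi₀, hne₀⟩ := hF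
  choose a G t ha hG ht hat using fun (i : ι) (h : F i ≠ 0) => exists_content (F i) h
  let s' : Finset ι := s.filter fun i => F i ≠ 0
  let c : ι → R := fun i => if h : F i ≠ 0 then a i h else 0
  obtain ⟨b, hb, hdiv⟩ := ValKap.exists_dvd_all (s'.image c) (by
    rw [Finset.image_nonempty]
    exact ⟨i₀, Finset.mem_filter.2 ⟨hi₀, hne₀⟩⟩)
  obtain ⟨j, hj, rfl⟩ := Finset.mem_image.1 hb
  have hj' := Finset.mem_filter.1 hj
  have hcj : c j = a j hj'.2 := dif_pos hj'.2
  have hcj0 : c j ≠ 0 := by rw [hcj]; exact ha _ _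
  have h1 : ∀ i ∈ s, ∃ g, F i = MvPolynomial.C (c j) * g := by
    intro i hi
    by_cases h : F i = 0
    · exact ⟨0, by rw [h, mul_zero]⟩
    · have hi' : i ∈ s' := Finset.mem_filter.2 ⟨hi, h⟩
      obtain ⟨d, hd⟩ := hdiv (c i) (Finset.mem_image.2 ⟨i, hi', rfl⟩)
      have hci : c i = a i h := dif_pos h
      refine ⟨MvPolynomial.C d * G i h, ?_⟩
      rw [← mul_assoc, ← map_mul, ← hd, hci]
      exact hG i h
  choose! g hg using h1
  refine ⟨c j, g, hcj0, hg, j, hj'.1, t j hj'.2, ?_⟩
  have h2 := hg j hj'.1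
  have h3 := congrArg (MvPolynomial.coeff (t j hj'.2)) h2
  rw [MvPolynomial.coeff_C_mul, hat, hcj] at h3
  exact mul_left_cancel₀ (ha j hj'.2) (by rw [← h3, mul_one])

end Content

section Integrality

variable {P L F : Type*} [CommRing P] [IsDomain P] [IsIntegrallyClosed P] [Field L] [Algebra P L]
  [IsFractionRing P L] [Field F] [Algebra L F] [Algebra P F] [IsScalarTower P L F]

omit [IsDomain P] [IsIntegrallyClosed P] [IsFractionRing P L] in
theorem natDegree_minpoly_le {x : F} (hx : IsIntegral L x) (g : L) :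
    (minpoly L (algebraMap L F g * x)).natDegree ≤ (minpoly L x).natDegree := by
  have h1 : aeval (algebraMap L F g * x) (scaleRoots (minpoly L x) g) = 0 :=
    scaleRoots_aeval_eq_zero (minpoly.aeval L x)
  have h2 := minpoly.dvd L _ h1
  have h3 : (scaleRoots (minpoly L x) g).Monic := (monic_scaleRoots_iff g).2 (minpoly.monic hx)
  have := natDegree_le_of_dvd h2 h3.ne_zero
  rwa [natDegree_scaleRoots] at this

theorem minpoly_mul {x : F} (hx : IsIntegral L x) {g : L} (hg : g ≠ 0) :
    minpoly L (algebraMap L F g * x) = scaleRoots (minpoly L x) g := by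
  have hgx : IsIntegral L (algebraMap L F g * x) := isIntegral_algebraMap.mul hx
  have h1 : aeval (algebraMap L F g * x) (scaleRoots (minpoly L x) g) = 0 :=
    scaleRoots_aeval_eq_zero (minpoly.aeval L x)
  refine (eq_of_monic_of_dvd_of_natDegree_le (minpoly.monic hgx) ((monic_scaleRoots_iff g).2 (minpoly.monic hx))
    (minpoly.dvd L _ h1) ?_).symm
  rw [natDegree_scaleRoots]
  have h2 := natDegree_minpoly_le hgx g⁻¹
  rwa [← mul_assoc, ← map_mul, inv_mul_cancel₀ hg, map_one, one_mul] at h2

/-- The coefficients of the minimal polynomial of an integral element lie in the integrally closed base. -/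
theorem exists_coeff_minpoly {x : F} (hx : IsIntegral P x) (i : ℕ) : ∃ c : P, algebraMap P L c = (minpoly L x).coeff i := by
  have h1 : IsIntegral L x := hx.tower_top
  have h2 : minpoly L x ∣ (minpoly P x).map (algebraMap P L) := minpoly.dvd_map_of_isScalarTower P L x
  have h3 := isIntegral_coeff_of_dvd (minpoly P x) (minpoly L x) (minpoly.monic hx) (minpoly.monic h1) h2 i
  exact (IsIntegrallyClosed.isIntegral_iff).1 h3

/-- If `g x` is integral over `P` then the scaled coefficients of the minimal polynomial of `x` lie in `P`. -/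
theorem exists_coeff_mul_pow {x : F} (hx : IsIntegral L x) {g : P} (hg : g ≠ 0)
    (hgx : IsIntegral P (algebraMap P F g * x)) (i : ℕ) :
    ∃ c : P, algebraMap P L c = (minpoly L x).coeff i * algebraMap P L g ^ ((minpoly L x).natDegree - i) := by
  have hg' : algebraMap P L g ≠ 0 := fun h => hg (IsFractionRing.injective P L (h.trans (map_zero _).symm))
  have h1 := exists_coeff_minpoly (L := L) hgx i
  rwa [IsScalarTower.algebraMap_apply P L F, minpoly_mul hx hg', coeff_scaleRoots] at h1

/-- If all coefficients of the minimal polynomial lie in `P`, then the element is integral over `P`. -/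
theorem isIntegral_of_coeff_minpoly {x : F} (hx : IsIntegral L x)
    (h : ∀ i, ∃ c : P, algebraMap P L c = (minpoly L x).coeff i) : IsIntegral P x := by
  have h1 : minpoly L x ∈ lifts (algebraMap P L) := (lifts_iff_coeff_lifts _).2 fun i => h i
  obtain ⟨q, hq, -, hqm⟩ := lifts_and_natDegree_eq_and_monic h1 (minpoly.monic hx)
  refine ⟨q, hqm, ?_⟩
  have h2 := minpoly.aeval L x
  rw [← hq, aeval_map_algebraMap] at h2
  exact h2

end Integrality

/-- Key integrality criterion: if `a x` and `g x` are integral over the integrally closed domain `P`, with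
`a, g` a 'regular sequence', then so is `x`. -/
theorem isIntegral_of_mul_of_mul {P E : Type*} [CommRing P] [IsDomain P] [IsIntegrallyClosed P] [CommRing E]
    [IsDomain E] [Algebra P E] (hinj : Function.Injective (algebraMap P E))
    {a g : P} (ha : a ≠ 0) (hg : g ≠ 0) (H : ∀ (m : ℕ) (c d : P), g ^ m * c = a ^ m * d → a ^ m ∣ c) {x : E}
    (hax : IsIntegral P (algebraMap P E a * x)) (hgx : IsIntegral P (algebraMap P E g * x)) :
    IsIntegral P x := by
  let L := FractionRing P
  let F := FractionRing E
  have hfaith : FaithfulSMul P E := (faithfulSMul_iff_algebraMap_injective P E).2 hinj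
  have hfaith' : FaithfulSMul P F := (faithfulSMul_iff_algebraMap_injective P F).2 (by
    rw [IsScalarTower.algebraMap_eq P E F]
    exact (IsFractionRing.injective E F).comp hinj)
  let _ : Algebra L F := FractionRing.liftAlgebra P F
  have ht : IsScalarTower P L F := inferInstance
  have hEF : Function.Injective (algebraMap E F) := IsFractionRing.injective E F
  rw [← isIntegral_algHom_iff (IsScalarTower.toAlgHom P E F) hEF] at hax hgx ⊢
  simp only [IsScalarTower.coe_toAlgHom', map_mul] at hax hgx ⊢
  rw [← IsScalarTower.algebraMap_apply P E F] at hax hgx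
  have hCa' : algebraMap P L a ≠ 0 :=
    fun h => ha (IsFractionRing.injective P L (h.trans (map_zero _).symm))
  have hxL : IsIntegral L (algebraMap E F x) := by
    have h1 : IsIntegral L (algebraMap L F (algebraMap P L a)⁻¹ *
        (algebraMap P F a * algebraMap E F x)) := isIntegral_algebraMap.mul hax.tower_top
    rwa [IsScalarTower.algebraMap_apply P L F, ← mul_assoc, ← map_mul, inv_mul_cancel₀ hCa', map_one, one_mul] at h1
  refine isIntegral_of_coeff_minpoly (L := L) hxL fun i => ?_
  obtain ⟨c, hc⟩ := exists_coeff_mul_pow (L := L) hxL ha hax i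
  obtain ⟨d, hd⟩ := exists_coeff_mul_pow (L := L) hxL hg hgx i
  set m := (minpoly L (algebraMap E F x)).natDegree - i
  set y := (minpoly L (algebraMap E F x)).coeff i
  have h1 : g ^ m * c = a ^ m * d := by
    apply IsFractionRing.injective P L
    rw [map_mul, map_mul, hc, hd, map_pow, map_pow]
    ring
  obtain ⟨e, he⟩ := H m c d h1
  refine ⟨e, ?_⟩
  have h2 : algebraMap P L a ^ m ≠ 0 := pow_ne_zero _ hCa'
  apply mul_left_cancel₀ h2
  rw [← map_pow, ← map_mul, ← he, hc, map_pow]
  ring

/-- Key integrality criterion over polynomial rings over valuation rings: if `a x` and `g x` are integral, with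
`a` a nonzero scalar and `g` primitive, then so is `x`. -/
theorem isIntegral_of_smul {R : Type u} {E : Type w} {τ : Type v} [CommRing R] [IsDomain R] [ValuationRing R] [Finite τ]
    [CommRing E] [IsDomain E] [Algebra (MvPolynomial τ R) E]
    (hinj : Function.Injective (algebraMap (MvPolynomial τ R) E))
    {a : R} (ha : a ≠ 0) {g : MvPolynomial τ R} (hg : ∃ s, IsUnit (g.coeff s)) {x : E}
    (hax : IsIntegral (MvPolynomial τ R) (algebraMap (MvPolynomial τ R) E (MvPolynomial.C a) * x))
    (hgx : IsIntegral (MvPolynomial τ R) (algebraMap (MvPolynomial τ R) E g * x)) :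
    IsIntegral (MvPolynomial τ R) x := by
  have := isIntegrallyClosed_of_valuationRing R
  have hcl : IsIntegrallyClosed (MvPolynomial τ R) := isIntegrallyClosed_mvPolynomial R τ
  have hg0 : g ≠ 0 := by
    rintro rfl
    obtain ⟨s, hs⟩ := hg
    rw [MvPolynomial.coeff_zero] at hs
    exact not_isUnit_zero hs
  refine isIntegral_of_mul_of_mul hinj (a := MvPolynomial.C a) (g := g)
    (by rwa [Ne, MvPolynomial.C_eq_zero]) hg0 ?_ hax hgx
  intro m c d h
  rw [← MvPolynomial.C_pow] at h ⊢
  exact C_dvd_of_dvd_mul (exists_isUnit_coeff_pow hg m) (h ▸ dvd_mul_right _ _)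

end K263.RFGauss
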