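import Groth.Agent.Fdesc.GeomRed
import Groth.Agent.S0253
import Groth.Agent.FlatMor.K263.RFGauss
import Mathlib.RingTheory.Valuation.ValuationRing
import Mathlib.RingTheory.LocalProperties.Reduced
import Mathlib.RingTheory.Localization.BaseChange
import Mathlib.RingTheory.LocalRing.ResidueField.Ideal

/-!
# All fibres of an algebra over a valuation ring which is integrally closed in its generic fibre are geometrically
reduced (separably closed fraction field)
-/

set_option autoImplicit false
universe u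
open TensorProduct

namespace K263.RFFib

theorem exists_eq_smul {R : Type*} [CommRing R] [IsDomain R] [ValuationRing R] (q : Ideal R)
    {C : Type*} [CommRing C] [Algebra R C] {x : C}
    (hx : x ∈ q.map (algebraMap R C)) :
    ∃ c ∈ q, ∃ y : C, x = algebraMap R C c * y := by
  induction hx using Submodule.span_induction with
  | mem x hx =>
    obtain ⟨c, hc, rfl⟩ := hx
    exact ⟨c, hc, 1, by rw [mul_one]⟩
  | zero => exact ⟨0, Ideal.zero_mem _, 0, by simp⟩
  | add x y _ _ hx hy =>
    obtain ⟨a, ha, x', rfl⟩ := hx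
    obtain ⟨b, hb, y', rfl⟩ := hy
    rcases ValuationRing.dvd_total a b with ⟨c, rfl⟩ | ⟨c, rfl⟩
    · exact ⟨a, ha, x' + algebraMap R C c * y', by rw [map_mul]; ring⟩
    · exact ⟨b, hb, algebraMap R C c * x' + y', by rw [map_mul]; ring⟩
  | smul r x _ hx =>
    obtain ⟨a, ha, x', rfl⟩ := hx
    exact ⟨a, ha, r * x', by rw [smul_eq_mul]; ring⟩

/-- the fibres over the primes of a valuation ring with square roots -/
theorem isReduced_quotient (R : Type*) [CommRing R] [IsDomain R] [ValuationRing R]
    (hsq : ∀ c : R, c ≠ 0 → ∃ d : R, Associated c (d ^ 2)) (q : Ideal R) [hq : q.IsPrime]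
    (C V : Type*) [CommRing C] [Algebra R C] [CommRing V] [Algebra C V]
    (hinj : Function.Injective (algebraMap C V)) [IsReduced V]
    (hunit : ∀ r : R, r ≠ 0 → IsUnit (algebraMap C V (algebraMap R C r)))
    (hroot : ∀ z : V, z ^ 2 ∈ (algebraMap C V).range → z ∈ (algebraMap C V).range) :
    IsReduced (C ⧸ q.map (algebraMap R C)) := by
  have hCred : IsReduced C := isReduced_of_injective (algebraMap C V) hinj
  rw [isReduced_iff_pow_one_lt 2 (by norm_num)]
  intro x hx
  obtain ⟨x, rfl⟩ := Ideal.Quotient.mk_surjective x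
  rw [← map_pow, Ideal.Quotient.eq_zero_iff_mem] at hx
  rw [Ideal.Quotient.eq_zero_iff_mem]
  obtain ⟨c, hc, y, hxy⟩ := exists_eq_smul q hx
  by_cases hc0 : c = 0
  · rw [hc0, map_zero, zero_mul] at hxy
    rw [pow_eq_zero_iff two_ne_zero] at hxy
    rw [hxy]
    exact Ideal.zero_mem _
  · obtain ⟨d, w, hw⟩ := hsq c hc0
    have hd0 : d ≠ 0 := by
      rintro rfl
      rw [zero_pow two_ne_zero] at hw
      exact hc0 ((Units.mul_left_eq_zero w).mp hw)
    have hdm : d ∈ q := by
      apply hq.mem_of_pow_mem 2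
      rw [← hw]
      exact Ideal.mul_mem_right _ _ hc
    obtain ⟨D, hD⟩ := hunit d hd0
    -- z = x / d
    have hz : (↑D⁻¹ * algebraMap C V x) ^ 2 = algebraMap C V (algebraMap R C (↑w⁻¹ : R) * y) := by
      have h1 : (algebraMap C V x) ^ 2 = algebraMap C V (algebraMap R C c) * algebraMap C V y := by
        rw [← map_pow, hxy, map_mul]
      have h2 : algebraMap C V (algebraMap R C c) = algebraMap C V (algebraMap R C (↑w⁻¹ : R)) * (D : V) ^ 2 := by
        rw [hD, ← map_pow, ← map_pow, ← map_mul, ← map_mul, ← hw]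
        congr 2
        rw [mul_comm c, ← mul_assoc, Units.inv_mul, one_mul]
      rw [mul_pow, h1, h2, map_mul]
      have h4 : (↑D⁻¹ : V) * (D : V) = 1 := Units.inv_mul D
      calc (↑D⁻¹ : V) ^ 2 * (algebraMap C V (algebraMap R C (↑w⁻¹ : R)) * (D : V) ^ 2 * algebraMap C V y)
          = ((↑D⁻¹ : V) * (D : V)) ^ 2 * (algebraMap C V (algebraMap R C (↑w⁻¹ : R)) * algebraMap C V y) := by ring
        _ = _ := by rw [h4, one_pow, one_mul]
    obtain ⟨z, hz'⟩ := hroot _ ⟨_, hz.symm⟩
    have hx' : x = algebraMap R C d * z := by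
      apply hinj
      rw [map_mul, hz', ← hD, ← mul_assoc, Units.mul_inv, one_mul]
    rw [hx']
    exact Ideal.mul_mem_right _ _ (Ideal.mem_map_of_mem _ hdm)

/-- geometric fibres from the generic one and the quotients -/
theorem isReduced_tensor (R : Type u) [CommRing R] [IsDomain R] [ValuationRing R] [IsSepClosed (FractionRing R)]
    (C : Type u) [CommRing C] [Algebra R C]
    (hq : ∀ (q : Ideal R) [q.IsPrime], IsReduced (C ⧸ q.map (algebraMap R C)))
    (hgen : ∀ (E : Type u) [Field E] [Algebra R E], Function.Injective (algebraMap R E) → IsReduced (E ⊗[R] C))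
    (E : Type u) [Field E] [Algebra R E] : IsReduced (E ⊗[R] C) := by
  let q : Ideal R := RingHom.ker (algebraMap R E)
  have hqp : q.IsPrime := RingHom.ker_isPrime _
  by_cases hq0 : q = ⊥
  · exact hgen E ((RingHom.injective_iff_ker_eq_bot _).2 hq0)
  have hic : IsIntegrallyClosed R := RFGauss.isIntegrallyClosed_of_valuationRing R
  have hκ : IsAlgClosed q.ResidueField := Groth.Agent.S0253.result R q hq0
  let κ := q.ResidueField
  -- the map of fields
  let ι : κ →ₐ[R] E := Ideal.ResidueField.liftₐ q (Algebra.ofId R E) le_rfl (by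
    intro x hx
    rw [Submonoid.mem_comap]
    exact IsUnit.mem_submonoid_iff _ |>.2 (IsUnit.mk0 _ hx))
  let _ : Algebra κ E := ι.toRingHom.toAlgebra
  have hT : IsScalarTower R κ E := IsScalarTower.of_algebraMap_eq fun r => (ι.commutes r).symm
  have h1 : IsReduced (κ ⊗[R] C) := by
    have h2 : IsReduced ((R ⧸ q) ⊗[R] C) := by
      have e1 := (Algebra.TensorProduct.quotIdealMapEquivTensorQuot C q)
      have e2 := (Algebra.TensorProduct.comm R (R ⧸ q) C)
      have h3 := hq q
      have h4 : IsReduced (C ⊗[R] (R ⧸ q)) := isReduced_of_injective e1.symm.toRingEquiv.toRingHom e1.symm.injective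
      exact isReduced_of_injective e2.toRingEquiv.toRingHom e2.injective
    have h5 : IsReduced (((R ⧸ q) ⊗[R] C) ⊗[R ⧸ q] κ) :=
      isReduced_localizationPreserves (Algebra.algebraMapSubmonoid ((R ⧸ q) ⊗[R] C) (nonZeroDivisors (R ⧸ q)))
        (((R ⧸ q) ⊗[R] C) ⊗[R ⧸ q] κ) h2
    have h5' : IsReduced (κ ⊗[R ⧸ q] ((R ⧸ q) ⊗[R] C)) := by
      have e5 := Algebra.TensorProduct.comm (R ⧸ q) κ ((R ⧸ q) ⊗[R] C)
      exact isReduced_of_injective e5.toRingEquiv.toRingHom e5.injective
    have e3 := Algebra.TensorProduct.cancelBaseChange R (R ⧸ q) κ κ C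
    exact isReduced_of_injective e3.symm.toRingEquiv.toRingHom e3.symm.injective
  have h6 : IsReduced (E ⊗[κ] (κ ⊗[R] C)) := Groth.Agent.Fdesc.GeomRed.isReduced_tensor_of_perfectField _ E
  have e4 := Algebra.TensorProduct.cancelBaseChange R κ E E C
  exact isReduced_of_injective e4.symm.toRingEquiv.toRingHom e4.symm.injective

end K263.RFFib
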