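import Groth.Agent.Ega4B.NagIntClos
import Mathlib.LinearAlgebra.Dimension.Localization
import Mathlib.RingTheory.Flat.Basic
import Mathlib.RingTheory.LocalProperties.Reduced

/-!
# Integral torsion-free algebras of finite rank over Nagata domains are finite
-/

set_option autoImplicit false
universe u

open scoped TensorProduct nonZeroDivisors

namespace K263.RFNagata

/-- A reduced, integral, torsion-free algebra of finite rank over a Nagata domain is a finite module. -/
theorem finite_of_rank {A C : Type u} [CommRing A] [IsDomain A] (hA : CAlg.IsNagata A) [CommRing C]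
    [IsReduced C] [Algebra A C] [Algebra.IsIntegral A C] [Module.IsTorsionFree A C] (n : ℕ)
    (hn : ∀ s : Finset C, LinearIndependent A (fun i : s => (i : C)) → s.card ≤ n) : Module.Finite A C := by
  have hN := hA.1
  have h1 : Module.rank A C ≤ n := rank_le hn
  let K := FractionRing A
  let Λ := Localization (Algebra.algebraMapSubmonoid C A⁰)
  have hinj : Function.Injective (algebraMap C Λ) := by
    apply IsLocalization.injective Λ (M := Algebra.algebraMapSubmonoid C A⁰)
    rintro _ ⟨a, ha, rfl⟩
    rw [mem_nonZeroDivisors_iff_right]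
    intro x hx
    rw [mul_comm, ← Algebra.smul_def] at hx
    exact (smul_eq_zero_iff_right (nonZeroDivisors.ne_zero ha)).1 hx
  have hΛ : IsReduced Λ := isReduced_localizationPreserves (Algebra.algebraMapSubmonoid C A⁰) Λ inferInstance
  let _ : Algebra K Λ := localizationAlgebra A⁰ C
  have hloc : IsLocalizedModule A⁰ (IsScalarTower.toAlgHom A C Λ).toLinearMap := inferInstance
  have ht : IsScalarTower A K Λ := inferInstance
  have h2 : Module.rank K Λ ≤ n := by
    rw [IsLocalization.rank_eq K A⁰ le_rfl,
      IsLocalizedModule.rank_eq A⁰ le_rfl (IsScalarTower.toAlgHom A C Λ).toLinearMap]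
    exact h1
  have hfin : Module.Finite K Λ := Module.rank_lt_aleph0_iff.1 (h2.trans_lt (Cardinal.natCast_lt_aleph0))
  have hess : Algebra.EssFiniteType A Λ := Algebra.EssFiniteType.comp A K Λ
  have h3 := Groth.Agent.Ega4B.NagIntClos.finite_of_isReduced (R := A) (S := Λ) hA
  let φ : C →ₗ[A] integralClosure A Λ :=
    { toFun := fun c => ⟨algebraMap C Λ c, (Algebra.IsIntegral.isIntegral (R := A) c).map
        (IsScalarTower.toAlgHom A C Λ)⟩
      map_add' := fun x y => Subtype.ext (map_add _ _ _)
      map_smul' := fun r x => Subtype.ext (by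
        change algebraMap C Λ (r • x) = r • algebraMap C Λ x
        rw [Algebra.smul_def, map_mul, ← IsScalarTower.algebraMap_apply, Algebra.smul_def]) }
  have hφ : Function.Injective φ := fun x y hxy => hinj (congrArg Subtype.val hxy)
  exact Module.Finite.of_injective φ hφ

/-- Fields are Nagata rings. -/
theorem isNagata_field (k : Type u) [Field k] : CAlg.IsNagata k := by
  refine ⟨inferInstance, ?_⟩
  intro p hp L _ _ _ _ hfin
  have hp' : p = ⊥ := by
    rcases Ideal.eq_bot_or_top p with h | h
    · exact h
    · exact absurd h hp.ne_top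
  have hmax : p.IsMaximal := by rw [hp']; exact Ideal.bot_isMaximal
  let : Field (k ⧸ p) := Ideal.Quotient.field p
  have hsurj : Function.Surjective (algebraMap (k ⧸ p) (FractionRing (k ⧸ p))) :=
    IsField.localization_map_bijective (M := nonZeroDivisors (k ⧸ p)) zero_notMem_nonZeroDivisors
      (Field.toIsField (k ⧸ p)) |>.2
  have h1 : Module.Finite (k ⧸ p) (FractionRing (k ⧸ p)) :=
    Module.Finite.of_surjective (Algebra.linearMap (k ⧸ p) (FractionRing (k ⧸ p))) hsurj
  have h2 : Module.Finite (k ⧸ p) L := Module.Finite.trans (FractionRing (k ⧸ p)) L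
  exact Module.Finite.of_injective (Subalgebra.val (integralClosure (k ⧸ p) L)).toLinearMap
    Subtype.val_injective

theorem isNagata_mvPolynomial (k : Type u) [Field k] (τ : Type) [Finite τ] : CAlg.IsNagata (MvPolynomial τ k) :=
  Groth.Agent.Ega4B.NagFinal.isNagata_of_finiteType (isNagata_field k)

end K263.RFNagata
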