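import Groth.Agent.FlatMor.K263.RFGauss
import Groth.Agent.FlatMor.K263.RFNagata
import Mathlib.FieldTheory.IsAlgClosed.Basic

/-!
# The closed fibre of an integral closure over a valuation ring with algebraically closed fraction field
-/

set_option autoImplicit false
universe u v w

open Polynomial IsLocalRing

namespace K263.RFQuot

variable {R K : Type u} [CommRing R] [IsDomain R] [ValuationRing R] [Field K] [IsAlgClosed K] [Algebra R K]
  [IsFractionRing R K]

include K in
/-- Square roots in the maximal ideal. -/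
theorem exists_sq {a : R} (ha : a ∈ maximalIdeal R) : ∃ b ∈ maximalIdeal R, b ^ 2 = a := by
  have := RFGauss.isIntegrallyClosed_of_valuationRing R
  obtain ⟨z, hz⟩ := IsAlgClosed.exists_pow_nat_eq (algebraMap R K a) (n := 2) (by norm_num)
  obtain ⟨b, hb⟩ := IsIntegrallyClosed.exists_algebraMap_eq_of_isIntegral_pow (R := R) (K := K) (x := z) (n := 2)
    (by norm_num) (by rw [hz]; exact isIntegral_algebraMap)
  have h1 : b ^ 2 = a := by
    apply IsFractionRing.injective R K
    rw [map_pow, hb, hz]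
  refine ⟨b, ?_, h1⟩
  rw [mem_maximalIdeal, mem_nonunits_iff]
  intro hu
  have h2 : IsUnit a := h1 ▸ hu.pow 2
  exact ((mem_maximalIdeal a).1 ha) h2

omit [IsAlgClosed K] [IsFractionRing R K] [Algebra R K] [Field K] in
/-- Elements of the extension of the maximal ideal are multiples of a single element. -/
theorem exists_eq_smul {B : Type*} [CommRing B] [Algebra R B] {x : B}
    (hx : x ∈ (maximalIdeal R).map (algebraMap R B)) : ∃ a ∈ maximalIdeal R, ∃ b : B, x = a • b := by
  rw [Ideal.map] at hx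
  induction hx using Submodule.span_induction with
  | mem x h =>
    obtain ⟨a, ha, rfl⟩ := h
    exact ⟨a, ha, 1, by rw [Algebra.smul_def, mul_one]⟩
  | zero => exact ⟨0, zero_mem _, 0, by simp⟩
  | add x y _ _ hx hy =>
    obtain ⟨a, ha, b, rfl⟩ := hx
    obtain ⟨c, hc, d, rfl⟩ := hy
    rcases ValuationRing.dvd_total a c with ⟨e, rfl⟩ | ⟨e, rfl⟩
    · exact ⟨a, ha, b + e • d, by rw [smul_add, mul_smul]⟩
    · exact ⟨c, hc, e • b + d, by rw [smul_add, mul_smul]⟩
  | smul r x _ hx =>
    obtain ⟨a, ha, b, rfl⟩ := hx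
    exact ⟨a, ha, r • b, by rw [smul_comm]⟩

section Main

variable {τ : Type} [Finite τ] {E : Type u} [CommRing E] [IsDomain E] [Algebra K E] [Algebra R E] [IsScalarTower R K E]
  [Algebra (MvPolynomial τ R) E] [IsScalarTower R (MvPolynomial τ R) E]

include K in
/-- Integral elements whose square is divisible by an element of the maximal ideal. -/
theorem exists_eq_smul_of_sq {x : E} {a : R} (ha : a ∈ maximalIdeal R) {b : E} (hb : IsIntegral (MvPolynomial τ R) b)
    (h : x ^ 2 = a • b) : ∃ c ∈ maximalIdeal R, ∃ d : E, IsIntegral (MvPolynomial τ R) d ∧ x = c • d := by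
  obtain ⟨c, hc, rfl⟩ := exists_sq (K := K) ha
  by_cases hc0 : c = 0
  · refine ⟨0, zero_mem _, 0, isIntegral_zero, ?_⟩
    rw [hc0, zero_pow two_ne_zero, zero_smul] at h
    rw [zero_smul]
    exact pow_eq_zero_iff two_ne_zero |>.1 h
  have hcK : algebraMap R K c ≠ 0 := fun h => hc0 (IsFractionRing.injective R K (h.trans (map_zero _).symm))
  refine ⟨c, hc, (algebraMap R K c)⁻¹ • x, ?_, ?_⟩
  · refine IsIntegral.of_pow (n := 2) (by norm_num) ?_
    have h1 : ((algebraMap R K c)⁻¹ • x) ^ 2 = b := by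
      rw [smul_pow, h, ← algebraMap_smul K (c ^ 2), map_pow, smul_smul, ← mul_pow, inv_mul_cancel₀ hcK, one_pow,
        one_smul]
    rw [h1]
    exact hb
  · rw [← algebraMap_smul K c, smul_smul, mul_inv_cancel₀ hcK, one_smul]

omit [IsAlgClosed K] in
include K in
/-- Torsion-freeness of the closed fibre. -/
theorem exists_eq_smul_of_mul (hinj : Function.Injective (algebraMap (MvPolynomial τ R) E))
    {g : MvPolynomial τ R} (hg : ∃ s, IsUnit (g.coeff s)) {x : E} (hx : IsIntegral (MvPolynomial τ R) x)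
    {a : R} {b : E} (hb : IsIntegral (MvPolynomial τ R) b)
    (h : algebraMap (MvPolynomial τ R) E g * x = a • b) :
    ∃ d : E, IsIntegral (MvPolynomial τ R) d ∧ x = a • d := by
  by_cases ha0 : a = 0
  · refine ⟨0, isIntegral_zero, ?_⟩
    rw [ha0, zero_smul] at h ⊢
    rcases mul_eq_zero.1 h with h | h
    · exfalso
      have h1 : g = 0 := hinj (h.trans (map_zero _).symm)
      obtain ⟨s, hs⟩ := hg
      rw [h1, MvPolynomial.coeff_zero] at hs
      exact not_isUnit_zero hs
    · exact h
  have haK : algebraMap R K a ≠ 0 := fun h => ha0 (IsFractionRing.injective R K (h.trans (map_zero _).symm))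
  have hsmul : ∀ y : E, algebraMap (MvPolynomial τ R) E (MvPolynomial.C a) * y = a • y := by
    intro y
    rw [Algebra.smul_def, IsScalarTower.algebraMap_apply R (MvPolynomial τ R) E]
    rfl
  refine ⟨(algebraMap R K a)⁻¹ • x, ?_, ?_⟩
  · refine RFGauss.isIntegral_of_smul hinj ha0 hg ?_ ?_
    · rw [hsmul, ← algebraMap_smul K a, smul_smul, mul_inv_cancel₀ haK, one_smul]
      exact hx
    · rw [mul_smul_comm, h, ← algebraMap_smul K a, smul_smul, inv_mul_cancel₀ haK, one_smul]
      exact hb
  · rw [← algebraMap_smul K a, smul_smul, mul_inv_cancel₀ haK, one_smul]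

omit [ValuationRing R] [IsDomain R] [IsDomain E] [Finite τ] [Field K] [IsAlgClosed K] [Algebra R K] [IsFractionRing R K] [Algebra K E] [IsScalarTower R K E] in
theorem smul_eq_mul_C (a : R) (y : integralClosure (MvPolynomial τ R) E) :
    algebraMap (MvPolynomial τ R) (integralClosure (MvPolynomial τ R) E) (MvPolynomial.C a) * y = a • y := by
  rw [Algebra.smul_def, IsScalarTower.algebraMap_apply R (MvPolynomial τ R) (integralClosure (MvPolynomial τ R) E)]
  rfl

include K in
/-- Abstract form of the finiteness modulo the maximal ideal. -/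
theorem finite_aux (hinj : Function.Injective (algebraMap (MvPolynomial τ R) E)) (n : ℕ)
    (hn : ∀ s : Finset E, LinearIndependent (MvPolynomial τ R) (fun i : s => (i : E)) → s.card ≤ n)
    (A₀ C₀ : Type u) [CommRing A₀] [IsDomain A₀] [CommRing C₀] [Algebra A₀ C₀] (hnag : CAlg.IsNagata A₀)
    (π : MvPolynomial τ R →+* A₀) (hπ : Function.Surjective π)
    (hπ' : ∀ c, π c = 0 ↔ MvPolynomial.map (residue R) c = 0)
    (ψ : integralClosure (MvPolynomial τ R) E →+* C₀) (hψ : Function.Surjective ψ)
    (hψ' : ∀ b, ψ b = 0 ↔ ∃ a ∈ maximalIdeal R, ∃ b', b = a • b')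
    (hcomp : ∀ c, algebraMap A₀ C₀ (π c) = ψ (algebraMap _ _ c)) : Module.Finite A₀ C₀ := by
  classical
  have hmk : ∀ (g : MvPolynomial τ R) (b : integralClosure (MvPolynomial τ R) E), π g • ψ b =
      ψ (algebraMap _ _ g * b) := fun g b => by
    rw [Algebra.smul_def, hcomp, map_mul]
  have hred : IsReduced C₀ := by
    rw [isReduced_iff_pow_one_lt 2 one_lt_two]
    intro x hx
    obtain ⟨b, rfl⟩ := hψ x
    rw [← map_pow, hψ'] at hx
    obtain ⟨a, ha, b', hb'⟩ := hx
    obtain ⟨c, hc, d, hd, hbd⟩ := exists_eq_smul_of_sq (K := K) (x := (b : E)) ha b'.2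
      (by have := congrArg Subtype.val hb'; exact this)
    rw [hψ']
    exact ⟨c, hc, ⟨d, hd⟩, Subtype.ext hbd⟩
  have htf : Module.IsTorsionFree A₀ C₀ := by
    refine Module.IsTorsionFree.of_smul_eq_zero fun g x hgx => ?_
    obtain ⟨g, rfl⟩ := hπ g
    obtain ⟨b, rfl⟩ := hψ x
    rw [hmk, hψ'] at hgx
    by_cases hg : π g = 0
    · exact Or.inl hg
    · right
      have hg' : ∃ s, IsUnit (g.coeff s) := RFGauss.map_residue_ne_zero_iff.1 fun h => hg ((hπ' g).2 h)
      obtain ⟨a, ha, b', hb'⟩ := hgx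
      obtain ⟨d, hd, hbd⟩ := exists_eq_smul_of_mul (K := K) hinj hg' b.2 b'.2
        (by have := congrArg Subtype.val hb'; exact this)
      rw [hψ']
      exact ⟨a, ha, ⟨d, hd⟩, Subtype.ext hbd⟩
  have hint : Algebra.IsIntegral A₀ C₀ := by
    refine ⟨fun x => ?_⟩
    obtain ⟨b, rfl⟩ := hψ x
    obtain ⟨q, hq, hqb⟩ := (isIntegral_algebraMap_iff (A := integralClosure (MvPolynomial τ R) E) (B := E)
      Subtype.val_injective).1 b.2
    refine ⟨q.map π, hq.map _, ?_⟩
    rw [eval₂_map]
    have h1 : (algebraMap A₀ C₀).comp π = ψ.comp (algebraMap _ _) := RingHom.ext hcomp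
    rw [h1, ← hom_eval₂, hqb, map_zero]
  refine RFNagata.finite_of_rank hnag n fun s hs => ?_
  choose l hl using hψ
  let s' : Finset E := s.image fun x => (l x : E)
  have hlinj : Function.Injective fun x : C₀ => (l x : E) := by
    intro x y hxy
    have h1 : l x = l y := Subtype.ext hxy
    rw [← hl x, ← hl y, h1]
  have hcard : s'.card = s.card := Finset.card_image_of_injective s hlinj
  rw [← hcard]
  refine hn s' ?_
  have h2 : LinearIndependent (MvPolynomial τ R) (fun i : s => (l i : E)) := by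
    rw [Fintype.linearIndependent_iff]
    by_contra hcon
    push Not at hcon
    obtain ⟨F, hF, i₀, hi₀⟩ := hcon
    obtain ⟨a, G, ha, hG, j, -, t, ht⟩ := RFGauss.exists_content_family (Finset.univ : Finset s) F
      ⟨i₀, Finset.mem_univ _, hi₀⟩
    have haE : algebraMap (MvPolynomial τ R) E (MvPolynomial.C a) ≠ 0 := fun h => ha (by
      have := hinj (h.trans (map_zero _).symm)
      rwa [MvPolynomial.C_eq_zero] at this)
    have h3 : ∑ i : s, G i • (l i : E) = 0 := by
      apply mul_left_cancel₀ haE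
      rw [mul_zero, ← hF, Finset.mul_sum]
      refine Finset.sum_congr rfl fun i hi => ?_
      rw [hG i hi, Algebra.smul_def, Algebra.smul_def, map_mul, mul_assoc]
    have h4 : ∑ i : s, algebraMap (MvPolynomial τ R) (integralClosure (MvPolynomial τ R) E) (G i) * l i = 0 := by
      apply Subtype.ext
      rw [ZeroMemClass.coe_zero, ← h3]
      rw [AddSubmonoidClass.coe_finsetSum]
      refine Finset.sum_congr rfl fun i _ => ?_
      rw [Algebra.smul_def]
      rfl
    have h5 : ∑ i : s, π (G i) • (i : C₀) = 0 := by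
      have := congrArg ψ h4
      rw [map_sum, map_zero] at this
      rw [← this]
      refine Finset.sum_congr rfl fun i _ => ?_
      rw [← hmk, hl]
    have h6 := Fintype.linearIndependent_iff.1 hs _ h5 j
    rw [hπ'] at h6
    have h7 := RFGauss.map_residue_ne_zero_iff.2 ⟨t, ht ▸ isUnit_one⟩
    exact h7 h6
  have h9 : Set.range (fun i : s => (l i : E)) = (s' : Set E) := by
    ext e
    simp [s']
  have h10 := h2.linearIndepOn_id
  rw [h9] at h10
  exact h10

include K in
theorem exists_finset_aux (hinj : Function.Injective (algebraMap (MvPolynomial τ R) E)) (n : ℕ)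
    (hn : ∀ s : Finset E, LinearIndependent (MvPolynomial τ R) (fun i : s => (i : E)) → s.card ≤ n)
    (A₀ C₀ : Type u) [CommRing A₀] [IsDomain A₀] [CommRing C₀] [Algebra A₀ C₀] (hnag : CAlg.IsNagata A₀)
    (π : MvPolynomial τ R →+* A₀) (hπ : Function.Surjective π)
    (hπ' : ∀ c, π c = 0 ↔ MvPolynomial.map (residue R) c = 0)
    (ψ : integralClosure (MvPolynomial τ R) E →+* C₀) (hψ : Function.Surjective ψ)
    (hψ' : ∀ b, ψ b = 0 ↔ ∃ a ∈ maximalIdeal R, ∃ b', b = a • b')
    (hcomp : ∀ c, algebraMap A₀ C₀ (π c) = ψ (algebraMap _ _ c)) :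
    ∃ s : Finset E, (∀ b ∈ s, IsIntegral (MvPolynomial τ R) b) ∧ ∀ f : E, IsIntegral (MvPolynomial τ R) f →
      ∃ z ∈ Submodule.span (MvPolynomial τ R) (s : Set E), ∃ a ∈ maximalIdeal R, ∃ b : E,
        IsIntegral (MvPolynomial τ R) b ∧ f = z + a • b := by
  classical
  have hmk : ∀ (g : MvPolynomial τ R) (b : integralClosure (MvPolynomial τ R) E), π g • ψ b =
      ψ (algebraMap _ _ g * b) := fun g b => by
    rw [Algebra.smul_def, hcomp, map_mul]
  have hfin : Module.Finite A₀ C₀ := finite_aux (K := K) hinj n hn A₀ C₀ hnag π hπ hπ' ψ hψ hψ' hcomp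
  obtain ⟨S, hS⟩ := hfin.fg_top
  choose l hl using hψ
  refine ⟨S.image fun x => (l x : E), ?_, ?_⟩
  · intro b hb
    obtain ⟨x, -, rfl⟩ := Finset.mem_image.1 hb
    exact (l x).2
  · intro f hf
    have h1 : ψ ⟨f, hf⟩ ∈ Submodule.span A₀ (S : Set C₀) := hS ▸ Submodule.mem_top
    obtain ⟨c, hc, hcf⟩ := Submodule.mem_span_finset.1 h1
    choose g hg using hπ
    let z : integralClosure (MvPolynomial τ R) E := ∑ x ∈ S, algebraMap _ _ (g (c x)) * l x
    have hz : ψ z = ψ ⟨f, hf⟩ := by
      rw [← hcf, map_sum]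
      refine Finset.sum_congr rfl fun x _ => ?_
      rw [← hmk, hl, hg]
    have hz' : ψ (⟨f, hf⟩ - z) = 0 := by rw [map_sub, hz, sub_self]
    obtain ⟨a, ha, b, hb⟩ := (hψ' _).1 hz'
    refine ⟨z, ?_, a, ha, b, b.2, ?_⟩
    · have : (z : E) = ∑ x ∈ S, g (c x) • (l x : E) := by
        rw [AddSubmonoidClass.coe_finsetSum]
        refine Finset.sum_congr rfl fun x _ => ?_
        rw [Algebra.smul_def]
        rfl
      rw [this]
      refine Submodule.sum_mem _ fun x hx => Submodule.smul_mem _ _ (Submodule.subset_span ?_)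
      exact Finset.mem_coe.2 (Finset.mem_image.2 ⟨x, hx, rfl⟩)
    · have h2 := congrArg Subtype.val hb
      have h3 : f - (z : E) = a • (b : E) := h2
      rw [← h3]
      ring

include K in
/-- **Finiteness modulo the maximal ideal.** If `E` has finite rank over the polynomial ring then the integral closure
of the polynomial ring in `E` is finite modulo the maximal ideal. -/
theorem exists_finset (hinj : Function.Injective (algebraMap (MvPolynomial τ R) E)) (n : ℕ)
    (hn : ∀ s : Finset E, LinearIndependent (MvPolynomial τ R) (fun i : s => (i : E)) → s.card ≤ n) :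
    ∃ s : Finset E, (∀ b ∈ s, IsIntegral (MvPolynomial τ R) b) ∧ ∀ f : E, IsIntegral (MvPolynomial τ R) f →
      ∃ z ∈ Submodule.span (MvPolynomial τ R) (s : Set E), ∃ a ∈ maximalIdeal R, ∃ b : E,
        IsIntegral (MvPolynomial τ R) b ∧ f = z + a • b := by
  classical
  let J : Ideal (MvPolynomial τ R) := RingHom.ker (MvPolynomial.map (σ := τ) (residue R))
  have hJp : J.IsPrime := RingHom.ker_isPrime _
  have hmemJ : ∀ c : MvPolynomial τ R, c ∈ J ↔ MvPolynomial.map (residue R) c = 0 := fun c => Iff.rfl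
  -- elements of `J`
  have hJ : ∀ c ∈ J, ∃ a ∈ maximalIdeal R, ∃ c', c = MvPolynomial.C a * c' := by
    intro c hc
    by_cases hc0 : c = 0
    · exact ⟨0, zero_mem _, 0, by rw [hc0, mul_zero]⟩
    obtain ⟨a, G, s, ha, hG, -, hs⟩ := RFGauss.exists_content c hc0
    refine ⟨a, ?_, G, hG⟩
    rw [← hs, ← residue_eq_zero_iff, ← MvPolynomial.coeff_map, (hmemJ c).1 hc, MvPolynomial.coeff_zero]
  let JB : Ideal (integralClosure (MvPolynomial τ R) E) :=
    J.map (algebraMap (MvPolynomial τ R) (integralClosure (MvPolynomial τ R) E))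
  have hJB : ∀ x ∈ JB, ∃ a ∈ maximalIdeal R, ∃ b : integralClosure (MvPolynomial τ R) E, x = a • b := by
    intro x hx
    refine exists_eq_smul (B := integralClosure (MvPolynomial τ R) E) ?_
    have h1 : JB ≤ (maximalIdeal R).map (algebraMap R (integralClosure (MvPolynomial τ R) E)) := by
      rw [Ideal.map_le_iff_le_comap]
      intro c hc
      obtain ⟨a, ha, c', rfl⟩ := hJ c hc
      rw [Ideal.mem_comap, map_mul]
      refine Ideal.mul_mem_right _ _ ?_
      have h2 : algebraMap (MvPolynomial τ R) (integralClosure (MvPolynomial τ R) E) (MvPolynomial.C a) =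
          algebraMap R (integralClosure (MvPolynomial τ R) E) a := by
        rw [IsScalarTower.algebraMap_apply R (MvPolynomial τ R) (integralClosure (MvPolynomial τ R) E)]
        rfl
      rw [h2]
      exact Ideal.mem_map_of_mem _ ha
    exact h1 hx
  have hJB' : ∀ a ∈ maximalIdeal R, ∀ b : integralClosure (MvPolynomial τ R) E, a • b ∈ JB := by
    intro a ha b
    rw [← smul_eq_mul_C]
    refine Ideal.mul_mem_right _ _ (Ideal.mem_map_of_mem _ ?_)
    rw [hmemJ, MvPolynomial.map_C, (residue_eq_zero_iff a).2 ha, map_zero]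
  have hdomA : IsDomain (MvPolynomial τ R ⧸ J) := Ideal.Quotient.isDomain J
  have hnag : CAlg.IsNagata (MvPolynomial τ R ⧸ J) :=
    Groth.Agent.Ega4B.NagBasic.isNagata_of_ringEquiv
      (RingHom.quotientKerEquivOfSurjective (f := MvPolynomial.map (σ := τ) (residue R))
        (MvPolynomial.map_surjective _ residue_surjective)).symm
      (RFNagata.isNagata_mvPolynomial (ResidueField R) τ)
  exact @exists_finset_aux R K _ _ _ _ _ _ _ τ _ E _ _ _ _ _ _ _ hinj n hn (MvPolynomial τ R ⧸ J)
    (integralClosure (MvPolynomial τ R) E ⧸ JB) _ hdomA _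
    (Ideal.quotientMap JB (algebraMap (MvPolynomial τ R) (integralClosure (MvPolynomial τ R) E))
      Ideal.le_comap_map).toAlgebra hnag (Ideal.Quotient.mk J) Ideal.Quotient.mk_surjective
    (fun c => Ideal.Quotient.eq_zero_iff_mem) (Ideal.Quotient.mk JB) Ideal.Quotient.mk_surjective
    (fun b => Ideal.Quotient.eq_zero_iff_mem.trans ⟨hJB b, fun ⟨a, ha, b', hb'⟩ => hb' ▸ hJB' a ha b'⟩)
    (fun c => rfl)

end Main

end K263.RFQuot
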