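import Groth.Agent.FlatMor.K263.RFBall
import Groth.Agent.FlatMor.K263.RFQuot
import Mathlib.LinearAlgebra.Dimension.StrongRankCondition

/-!
# Finiteness of the integral closure over valuation rings with algebraically closed fraction field
-/

set_option autoImplicit false
universe u v w

open Polynomial IsLocalRing

namespace K263.RFKey

open RFPoints RFRees RFBall

section Graded

variable {σ : Type} {A D : Type u} [CommRing A] [CommRing D] [Algebra (MvPolynomial σ A) D]

/-- The coaction on the Rees algebra. -/
noncomputable def coact (D : Type u) [CommRing D] : D[X] →+* D[X][X] :=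
  eval₂RingHom (C.comp C) (C X * X)

theorem coact_monomial (n : ℕ) (d : D) : coact D (monomial n d) = monomial n (monomial n d) := by
  rw [coact, coe_eval₂RingHom, eval₂_monomial, mul_pow, RingHom.comp_apply, ← mul_assoc, ← map_pow, ← map_mul,
    C_mul_X_pow_eq_monomial, C_mul_X_pow_eq_monomial]

theorem coeff_coact (p : D[X]) (n : ℕ) : (coact D p).coeff n = monomial n (p.coeff n) := by
  induction p using Polynomial.induction_on' with
  | add p q hp hq => rw [map_add, coeff_add, coeff_add, hp, hq, map_add]
  | monomial m d =>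
    rw [coact_monomial, coeff_monomial, coeff_monomial]
    split_ifs with h
    · rw [h]
    · rw [map_zero]

/-- The coaction on the source. -/
noncomputable def coact' (σ : Type) (A : Type u) [CommRing A] :
    MvPolynomial (Option σ) A →+* (MvPolynomial (Option σ) A)[X] :=
  MvPolynomial.eval₂Hom (C.comp MvPolynomial.C) (fun o => C (MvPolynomial.X o) * X)

theorem coact_comp : (coact D).comp (phi σ A D) = (mapRingHom (phi σ A D)).comp (coact' σ A) := by
  apply MvPolynomial.ringHom_ext
  · intro a
    have h1 : phi σ A D (MvPolynomial.C a) = C (algebraMap (MvPolynomial σ A) D (MvPolynomial.C a)) := by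
      rw [phi, RingHom.comp_apply]
      have h3 : (hom σ A : MvPolynomial (Option σ) A →+* (MvPolynomial σ A)[X]) (MvPolynomial.C a) =
        C (MvPolynomial.C a) := (hom σ A).commutes a
      rw [h3, coe_mapRingHom, map_C]
    rw [RingHom.comp_apply, RingHom.comp_apply, h1, coact', MvPolynomial.coe_eval₂Hom, MvPolynomial.eval₂_C,
      RingHom.comp_apply, coe_mapRingHom, map_C, h1]
    rw [coact, coe_eval₂RingHom, eval₂_C]
    rfl
  · intro o
    rw [RingHom.comp_apply, RingHom.comp_apply, coact', MvPolynomial.coe_eval₂Hom, MvPolynomial.eval₂_X, map_mul,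
      coe_mapRingHom, map_C, map_X]
    have h2 : ∃ d : D, phi σ A D (MvPolynomial.X o) = monomial 1 d := by
      rcases o with _ | i
      · refine ⟨1, ?_⟩
        have h3 : (hom σ A : MvPolynomial (Option σ) A →+* (MvPolynomial σ A)[X]) (MvPolynomial.X none) = X :=
          MvPolynomial.aeval_X _ _
        rw [phi, RingHom.comp_apply, h3, coe_mapRingHom, map_X, monomial_one_one_eq_X]
      · refine ⟨algebraMap (MvPolynomial σ A) D (MvPolynomial.X i), ?_⟩
        have h3 : (hom σ A : MvPolynomial (Option σ) A →+* (MvPolynomial σ A)[X]) (MvPolynomial.X (some i)) =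
            monomial 1 (MvPolynomial.X i) := MvPolynomial.aeval_X _ _
        rw [phi, RingHom.comp_apply, h3, coe_mapRingHom, map_monomial]
    obtain ⟨d, hd⟩ := h2
    rw [hd, coact_monomial, C_mul_X_eq_monomial]

/-- Integral elements have integral homogeneous components. -/
theorem isIntegralElem_monomial {p : D[X]} (hp : (phi σ A D).IsIntegralElem p) (n : ℕ) :
    (phi σ A D).IsIntegralElem (monomial n (p.coeff n)) := by
  let _ : Algebra (MvPolynomial (Option σ) A) D[X] := (phi σ A D).toAlgebra
  let _ : Algebra (MvPolynomial (Option σ) A)[X] D[X][X] := (mapRingHom (phi σ A D)).toAlgebra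
  have h1 : IsIntegral (MvPolynomial (Option σ) A)[X] (coact D p) := by
    obtain ⟨q, hq, hqp⟩ := hp
    refine ⟨q.map (coact' σ A), hq.map _, ?_⟩
    have h2 : (algebraMap (MvPolynomial (Option σ) A)[X] D[X][X]).comp (coact' σ A) = (coact D).comp (phi σ A D) :=
      coact_comp.symm
    rw [eval₂_map, h2, ← hom_eval₂, hqp, map_zero]
  have h3 := h1.coeff n
  rw [coeff_coact] at h3
  exact h3

end Graded

section Inj

variable {σ : Type}

theorem hom_injective {A : Type u} [CommRing A] [IsDomain A] : Function.Injective (hom σ A) := by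
  let P' := MvPolynomial (Option σ) A
  let F := FractionRing P'
  let ψ₀ : MvPolynomial σ A →+* F := MvPolynomial.eval₂Hom ((algebraMap P' F).comp MvPolynomial.C)
    (fun i => algebraMap P' F (MvPolynomial.X (some i)) / algebraMap P' F (MvPolynomial.X none))
  let ψ : (MvPolynomial σ A)[X] →+* F := eval₂RingHom ψ₀ (algebraMap P' F (MvPolynomial.X none))
  have hX : algebraMap P' F (MvPolynomial.X none) ≠ 0 := fun h =>
    MvPolynomial.X_ne_zero (R := A) none (IsFractionRing.injective P' F (h.trans (map_zero _).symm))
  have hcomp : ψ.comp (hom σ A : MvPolynomial (Option σ) A →+* (MvPolynomial σ A)[X]) = algebraMap P' F := by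
    apply MvPolynomial.ringHom_ext
    · intro a
      have h3 : (hom σ A : MvPolynomial (Option σ) A →+* (MvPolynomial σ A)[X]) (MvPolynomial.C a) =
        C (MvPolynomial.C a) := (hom σ A).commutes a
      rw [RingHom.comp_apply, h3]
      simp only [ψ, coe_eval₂RingHom, eval₂_C, ψ₀, MvPolynomial.coe_eval₂Hom, MvPolynomial.eval₂_C,
        RingHom.comp_apply]
    · rintro (_ | i)
      · have h3 : (hom σ A : MvPolynomial (Option σ) A →+* (MvPolynomial σ A)[X]) (MvPolynomial.X none) = X :=
          MvPolynomial.aeval_X _ _
        rw [RingHom.comp_apply, h3]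
        simp only [ψ, coe_eval₂RingHom, eval₂_X]
      · have h3 : (hom σ A : MvPolynomial (Option σ) A →+* (MvPolynomial σ A)[X]) (MvPolynomial.X (some i)) =
            monomial 1 (MvPolynomial.X i) := MvPolynomial.aeval_X _ _
        rw [RingHom.comp_apply, h3]
        simp only [ψ, coe_eval₂RingHom, eval₂_monomial, ψ₀, MvPolynomial.coe_eval₂Hom, MvPolynomial.eval₂_X, pow_one]
        exact div_mul_cancel₀ _ hX
  intro x y hxy
  apply IsFractionRing.injective P' F
  rw [← hcomp]
  exact congrArg ψ hxy

end Inj

section Main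

variable {R K D : Type u} [CommRing R] [IsDomain R] [ValuationRing R] [Field K] [IsAlgClosed K] [Algebra R K]
  [IsFractionRing R K] {σ : Type} [Finite σ] [CommRing D] [IsDomain D] [Algebra (MvPolynomial σ K) D]
  [Module.Finite (MvPolynomial σ K) D] [Algebra (MvPolynomial σ R) D]

/-- The map `R[T₀, Tᵢ] → K[Tᵢ][t]`. -/
noncomputable def theta (σ : Type) (R K : Type u) [CommRing R] [Field K] [Algebra R K] :
    MvPolynomial (Option σ) R →+* (MvPolynomial σ K)[X] :=
  (hom σ K : MvPolynomial (Option σ) K →+* (MvPolynomial σ K)[X]).comp (MvPolynomial.map (algebraMap R K))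

omit [IsDomain R] [ValuationRing R] [IsAlgClosed K] [IsFractionRing R K] [Finite σ] in
theorem theta_C (a : R) : theta σ R K (MvPolynomial.C a) = C (MvPolynomial.C (algebraMap R K a)) := by
  rw [theta, RingHom.comp_apply, MvPolynomial.map_C]
  exact (hom σ K).commutes _

omit [IsDomain R] [ValuationRing R] [IsAlgClosed K] [IsFractionRing R K] [Finite σ] in
theorem theta_none : theta σ R K (MvPolynomial.X none) = X := by
  rw [theta, RingHom.comp_apply, MvPolynomial.map_X]
  exact MvPolynomial.aeval_X _ _

omit [IsDomain R] [ValuationRing R] [IsAlgClosed K] [IsFractionRing R K] [Finite σ] in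
theorem theta_some (i : σ) : theta σ R K (MvPolynomial.X (some i)) = C (MvPolynomial.X i) * X := by
  rw [theta, RingHom.comp_apply, MvPolynomial.map_X, C_mul_X_eq_monomial]
  exact MvPolynomial.aeval_X _ _

omit [IsDomain R] [ValuationRing R] [IsAlgClosed K] [IsFractionRing R K] [Finite σ] [IsDomain D]
  [Module.Finite (MvPolynomial σ K) D] in
theorem phi_eq (h : Compat R K D σ) :
    phi σ R D = (mapRingHom (algebraMap (MvPolynomial σ K) D)).comp (theta σ R K) := by
  have hmap : ∀ p : MvPolynomial σ R, algebraMap (MvPolynomial σ R) D p =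
      algebraMap (MvPolynomial σ K) D (MvPolynomial.map (algebraMap R K) p) := fun p => by
    rw [h]; rfl
  apply MvPolynomial.ringHom_ext
  · intro a
    rw [RingHom.comp_apply, theta_C, phi, RingHom.comp_apply]
    have h3 : (hom σ R : MvPolynomial (Option σ) R →+* (MvPolynomial σ R)[X]) (MvPolynomial.C a) =
      C (MvPolynomial.C a) := (hom σ R).commutes a
    rw [h3, coe_mapRingHom, coe_mapRingHom, map_C, map_C, hmap, MvPolynomial.map_C]
  · rintro (_ | i)
    · have h3 : (hom σ R : MvPolynomial (Option σ) R →+* (MvPolynomial σ R)[X]) (MvPolynomial.X none) = X :=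
        MvPolynomial.aeval_X _ _
      rw [RingHom.comp_apply, theta_none, phi, RingHom.comp_apply, h3, coe_mapRingHom, coe_mapRingHom, map_X, map_X]
    · have h3 : (hom σ R : MvPolynomial (Option σ) R →+* (MvPolynomial σ R)[X]) (MvPolynomial.X (some i)) =
          monomial 1 (MvPolynomial.X i) := MvPolynomial.aeval_X _ _
      rw [RingHom.comp_apply, theta_some, phi, RingHom.comp_apply, h3, coe_mapRingHom, coe_mapRingHom, map_monomial,
        Polynomial.map_mul, map_C, map_X, C_mul_X_eq_monomial, hmap, MvPolynomial.map_X]

omit [IsAlgClosed K] [Finite σ] [ValuationRing R] in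
/-- Clearing denominators. -/
theorem exists_clear (G : (MvPolynomial σ K)[X]) : ∃ (d : MvPolynomial (Option σ) R) (H : MvPolynomial (Option σ) R),
    theta σ R K d ≠ 0 ∧ theta σ R K H = theta σ R K d * G := by
  have hadd : ∀ p q : (MvPolynomial σ K)[X],
      (∃ (d : MvPolynomial (Option σ) R) (H : MvPolynomial (Option σ) R),
        theta σ R K d ≠ 0 ∧ theta σ R K H = theta σ R K d * p) →
      (∃ (d : MvPolynomial (Option σ) R) (H : MvPolynomial (Option σ) R),
        theta σ R K d ≠ 0 ∧ theta σ R K H = theta σ R K d * q) →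
      ∃ (d : MvPolynomial (Option σ) R) (H : MvPolynomial (Option σ) R),
        theta σ R K d ≠ 0 ∧ theta σ R K H = theta σ R K d * (p + q) := by
    rintro p q ⟨d, H, hd, hH⟩ ⟨e, J, he, hJ⟩
    refine ⟨d * e, e * H + d * J, by rw [map_mul]; exact mul_ne_zero hd he, ?_⟩
    rw [map_add, map_mul, map_mul, map_mul, hH, hJ]
    ring
  have hmul : ∀ p q : (MvPolynomial σ K)[X],
      (∃ (d : MvPolynomial (Option σ) R) (H : MvPolynomial (Option σ) R),
        theta σ R K d ≠ 0 ∧ theta σ R K H = theta σ R K d * p) →
      (∃ (d : MvPolynomial (Option σ) R) (H : MvPolynomial (Option σ) R),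
        theta σ R K d ≠ 0 ∧ theta σ R K H = theta σ R K d * q) →
      ∃ (d : MvPolynomial (Option σ) R) (H : MvPolynomial (Option σ) R),
        theta σ R K d ≠ 0 ∧ theta σ R K H = theta σ R K d * (p * q) := by
    rintro p q ⟨d, H, hd, hH⟩ ⟨e, J, he, hJ⟩
    refine ⟨d * e, H * J, by rw [map_mul]; exact mul_ne_zero hd he, ?_⟩
    rw [map_mul, map_mul, hH, hJ]
    ring
  have hX : ∃ (d : MvPolynomial (Option σ) R) (H : MvPolynomial (Option σ) R),
        theta σ R K d ≠ 0 ∧ theta σ R K H = theta σ R K d * X :=
    ⟨1, MvPolynomial.X none, by rw [map_one]; exact one_ne_zero, by rw [theta_none, map_one, one_mul]⟩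
  have hC : ∀ c : MvPolynomial σ K, ∃ (d : MvPolynomial (Option σ) R) (H : MvPolynomial (Option σ) R),
        theta σ R K d ≠ 0 ∧ theta σ R K H = theta σ R K d * C c := by
    intro c
    induction c using MvPolynomial.induction_on with
    | C k =>
      obtain ⟨a, b, hb, rfl⟩ := IsFractionRing.div_surjective (A := R) k
      have hbK : algebraMap R K b ≠ 0 := fun h =>
        nonZeroDivisors.ne_zero hb (IsFractionRing.injective R K (h.trans (map_zero _).symm))
      refine ⟨MvPolynomial.C b, MvPolynomial.C a, ?_, ?_⟩
      · rw [theta_C, Ne, C_eq_zero, MvPolynomial.C_eq_zero]; exact hbK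
      · rw [theta_C, theta_C, ← C_mul, ← MvPolynomial.C_mul, mul_div_cancel₀ _ hbK]
    | add p q hp hq => rw [map_add]; exact hadd _ _ hp hq
    | mul_X p i hp =>
      rw [map_mul]
      refine hmul _ _ hp ⟨MvPolynomial.X none, MvPolynomial.X (some i), ?_, ?_⟩
      · rw [theta_none]; exact X_ne_zero
      · rw [theta_none, theta_some, mul_comm]
  induction G using Polynomial.induction_on' with
  | add p q hp hq => exact hadd _ _ hp hq
  | monomial n c =>
    rw [← C_mul_X_pow_eq_monomial]
    refine hmul _ _ (hC c) ?_
    induction n with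
    | zero =>
      refine ⟨1, 1, by rw [map_one]; exact one_ne_zero, by rw [map_one, pow_zero, mul_one]⟩
    | succ n ih => rw [pow_succ]; exact hmul _ _ ih hX

omit [IsAlgClosed K] [Finite σ] [ValuationRing R] [IsDomain D] in
/-- Rank bound. -/
theorem exists_rank_bound (h : Compat R K D σ) :
    ∃ n : ℕ, ∀ s : Finset D[X], @LinearIndependent s (MvPolynomial (Option σ) R) D[X] (fun i : s => (i : D[X])) _ _
      (phi σ R D).toModule → s.card ≤ n := by
  classical
  let _ : Algebra (MvPolynomial (Option σ) R) D[X] := (phi σ R D).toAlgebra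
  let _ : Algebra (MvPolynomial σ K)[X] D[X] := (mapRingHom (algebraMap (MvPolynomial σ K) D)).toAlgebra
  obtain ⟨S, hS⟩ := Module.Finite.fg_top (R := MvPolynomial σ K) (M := D)
  have hspan : Submodule.span (MvPolynomial σ K)[X] ((S.image (C : D → D[X]) : Finset D[X]) : Set D[X]) = ⊤ := by
    rw [eq_top_iff]
    rintro p -
    induction p using Polynomial.induction_on' with
    | add p q hp hq => exact add_mem hp hq
    | monomial n d =>
      have hd : d ∈ Submodule.span (MvPolynomial σ K) (S : Set D) := hS ▸ Submodule.mem_top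
      have h1 : (C d : D[X]) ∈ Submodule.span (MvPolynomial σ K)[X] ((S.image (C : D → D[X]) : Finset D[X]) : Set D[X]) := by
        induction hd using Submodule.span_induction with
        | mem d hd => exact Submodule.subset_span (Finset.mem_coe.2 (Finset.mem_image_of_mem _ hd))
        | zero => rw [map_zero]; exact zero_mem _
        | add d e _ _ hd he => rw [map_add]; exact add_mem hd he
        | smul p d _ hd =>
          have h2 : (C (p • d) : D[X]) = (C p : (MvPolynomial σ K)[X]) • (C d : D[X]) := by
            rw [Algebra.smul_def, Algebra.smul_def, map_mul]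
            congr 1
            exact (map_C _).symm
          rw [h2]
          exact Submodule.smul_mem _ _ hd
      have h3 : (monomial n d : D[X]) = (X ^ n : (MvPolynomial σ K)[X]) • (C d : D[X]) := by
        rw [Algebra.smul_def]
        have h4 : algebraMap (MvPolynomial σ K)[X] D[X] (X ^ n) = X ^ n := by
          change mapRingHom _ _ = _
          rw [coe_mapRingHom, Polynomial.map_pow, map_X]
        rw [h4, X_pow_mul_C, C_mul_X_pow_eq_monomial]
      rw [h3]
      exact Submodule.smul_mem _ _ h1
  refine ⟨(S.image (C : D → D[X])).card, fun s hs => ?_⟩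
  have hs' : LinearIndependent (MvPolynomial (Option σ) R) (fun i : s => (i : D[X])) := hs
  have hlin : LinearIndependent (MvPolynomial σ K)[X] (fun i : s => (i : D[X])) := by
    rw [Fintype.linearIndependent_iff] at hs' ⊢
    intro G hG i
    choose d H hd hH using fun i : s => exists_clear (R := R) (G i)
    let δ : MvPolynomial (Option σ) R := ∏ j, d j
    have hδ : theta σ R K δ ≠ 0 := by
      rw [map_prod]
      exact Finset.prod_ne_zero_iff.2 fun j _ => hd j
    let H' : s → MvPolynomial (Option σ) R := fun i => (∏ j ∈ Finset.univ.erase i, d j) * H i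
    have hH' : ∀ i, theta σ R K (H' i) = theta σ R K δ * G i := by
      intro i
      have h1 : d i * ∏ j ∈ Finset.univ.erase i, d j = δ := Finset.mul_prod_erase _ _ (Finset.mem_univ i)
      rw [map_mul, hH, ← h1, map_mul]
      ring
    have hsum : ∑ i : s, H' i • (i : D[X]) = 0 := by
      have h2 : ∀ i : s, H' i • (i : D[X]) = algebraMap (MvPolynomial σ K)[X] D[X] (theta σ R K δ) * (G i • (i : D[X])) := by
        intro i
        rw [Algebra.smul_def, Algebra.smul_def, ← mul_assoc, ← map_mul, ← hH']
        congr 1
        change phi σ R D (H' i) = _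
        rw [phi_eq h]
        rfl
      rw [Finset.sum_congr rfl fun i _ => h2 i, ← Finset.mul_sum, hG, mul_zero]
    have h3 := hs' H' hsum i
    have h4 := hH' i
    rw [h3, map_zero] at h4
    rcases mul_eq_zero.1 h4.symm with h5 | h5
    · exact absurd h5 hδ
    · exact h5
  have h6 := linearIndependent_le_span_finset _ hlin _ hspan
  rw [Cardinal.mk_coe_finset] at h6
  exact_mod_cast h6

omit [IsDomain R] [ValuationRing R] [Finite σ] [IsDomain D] [IsAlgClosed K] [IsFractionRing R K] [Field K] [Algebra R K]
  [Algebra (MvPolynomial σ K) D] [Module.Finite (MvPolynomial σ K) D] in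
/-- Integral elements have bounded degree. -/
theorem exists_bd {f : D} (hf : IsIntegral (MvPolynomial σ R) f) : ∃ N, Bd σ R N f := by
  obtain ⟨p, hp, hpf⟩ := hf
  refine ⟨(Finset.range (p.natDegree + 1)).sup fun i => (p.coeff i).totalDegree, p, hp, hpf, fun i hi => ?_⟩
  rcases hi.eq_or_lt with rfl | hi
  · rw [hp.coeff_natDegree, MvPolynomial.totalDegree_one]; exact Nat.zero_le _
  · have h1 : (p.coeff i).totalDegree ≤ (Finset.range (p.natDegree + 1)).sup fun i => (p.coeff i).totalDegree :=
      Finset.le_sup (f := fun i => (p.coeff i).totalDegree) (Finset.mem_range.2 (by omega))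
    refine h1.trans ?_
    exact Nat.le_mul_of_pos_left _ (Nat.sub_pos_of_lt hi)

/-- **Key lemma.** Let `R` be a valuation ring with algebraically closed fraction field `K` and `D` a domain, finite
over `K[T₁, …, Tₙ]` with `K[T] → D` injective. The integral closure of `R[T]` in `D` is a finite `R[T]`-module. -/
theorem finite_integralClosure (h : Compat R K D σ) (hinj : Function.Injective (algebraMap (MvPolynomial σ K) D)) :
    Module.Finite (MvPolynomial σ R) (integralClosure (MvPolynomial σ R) D) := by
  classical
  have hRK : Function.Injective (algebraMap R K) := IsFractionRing.injective R K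
  let _ : Algebra K D := ((algebraMap (MvPolynomial σ K) D).comp MvPolynomial.C).toAlgebra
  let _ : Algebra R D := ((algebraMap (MvPolynomial σ R) D).comp MvPolynomial.C).toAlgebra
  have t1 : IsScalarTower R (MvPolynomial σ R) D := IsScalarTower.of_algebraMap_eq fun _ => rfl
  have t2 : IsScalarTower R K D := IsScalarTower.of_algebraMap_eq fun r => by
    change algebraMap (MvPolynomial σ R) D (MvPolynomial.C r) = algebraMap (MvPolynomial σ K) D (MvPolynomial.C _)
    rw [h, RingHom.comp_apply, MvPolynomial.map_C]
  let _ : Algebra (MvPolynomial (Option σ) R) D[X] := (phi σ R D).toAlgebra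
  have t3 : IsScalarTower R (MvPolynomial (Option σ) R) D[X] := IsScalarTower.of_algebraMap_eq fun r => by
    change C (algebraMap R D r) = phi σ R D (MvPolynomial.C r)
    rw [phi_eq h, RingHom.comp_apply, theta_C, coe_mapRingHom, map_C]
    congr 1
    rw [IsScalarTower.algebraMap_apply R K D]
    rfl
  have t4 : IsScalarTower R K D[X] := inferInstance
  have hinj' : Function.Injective (algebraMap (MvPolynomial (Option σ) R) D[X]) := by
    change Function.Injective (phi σ R D)
    rw [phi_eq h, RingHom.coe_comp, theta, RingHom.coe_comp]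
    refine (map_injective _ hinj).comp ((hom_injective (A := K)).comp (MvPolynomial.map_injective _ hRK))
  obtain ⟨n, hn⟩ := exists_rank_bound h
  obtain ⟨s, hs, hs'⟩ := RFQuot.exists_finset (R := R) (K := K) (τ := Option σ) (E := D[X]) hinj' n hn
  -- the finite set of coefficients
  let T : Finset D := s.biUnion fun b => b.support.image fun i => b.coeff i
  let Z : Submodule (MvPolynomial σ R) D := Submodule.span (MvPolynomial σ R) (T : Set D)
  have hT : ∀ b ∈ s, ∀ i, b.coeff i ∈ Z := by
    intro b hb i
    by_cases h0 : b.coeff i = 0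
    · rw [h0]; exact zero_mem _
    · refine Submodule.subset_span (Finset.mem_coe.2 (Finset.mem_biUnion.2 ⟨b, hb, Finset.mem_image.2 ⟨i, ?_, rfl⟩⟩))
      exact mem_support_iff.2 h0
  have hZ : ∀ z ∈ Submodule.span (MvPolynomial (Option σ) R) (s : Set D[X]), ∀ i, z.coeff i ∈ Z := by
    intro z hz
    induction hz using Submodule.span_induction with
    | mem z hz => exact hT z hz
    | zero => intro i; rw [coeff_zero]; exact zero_mem _
    | add x y _ _ hx hy => intro i; rw [coeff_add]; exact add_mem (hx i) (hy i)
    | smul q z _ hz =>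
      intro i
      have h1 : q • z = phi σ R D q * z := rfl
      rw [h1, coeff_mul]
      refine Submodule.sum_mem _ fun x _ => ?_
      rw [phi_apply, ← Algebra.smul_def]
      exact Submodule.smul_mem _ _ (hz _)
  have hball : ∀ N, ball R D σ N ≤ Z.restrictScalars R := by
    intro N
    refine Submodule.le_of_le_smul_of_le_jacobson_bot (I := maximalIdeal R) (ball_fg h hinj N)
      (maximalIdeal_le_jacobson _) ?_
    intro f hf
    have h1 : IsIntegral (MvPolynomial (Option σ) R) (monomial N f : D[X]) := isIntegralElem_of_bd hf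
    obtain ⟨z, hz, a, ha, b, hb, hfz⟩ := hs' _ h1
    have h2 := congrArg (fun w => coeff w N) hfz
    simp only [coeff_monomial, if_true, coeff_add, coeff_smul] at h2
    rw [h2]
    refine Submodule.add_mem_sup (hZ z hz N) (Submodule.smul_mem_smul ha ?_)
    exact bd_of_isIntegralElem (isIntegralElem_monomial hb N)
  have hTint : ∀ t ∈ T, IsIntegral (MvPolynomial σ R) t := by
    intro t ht
    obtain ⟨b, hb, ht⟩ := Finset.mem_biUnion.1 ht
    obtain ⟨i, -, rfl⟩ := Finset.mem_image.1 ht
    obtain ⟨p, hp, hpf, -⟩ := bd_of_isIntegralElem (isIntegralElem_monomial (hs b hb) i)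
    exact ⟨p, hp, hpf⟩
  have hfin : (Subalgebra.toSubmodule (integralClosure (MvPolynomial σ R) D)).FG := by
    refine ⟨T, le_antisymm ?_ ?_⟩
    · rw [Submodule.span_le]
      exact hTint
    · intro f hf
      obtain ⟨N, hN⟩ := exists_bd (σ := σ) (R := R) (D := D) (f := f) hf
      exact hball N hN
  exact Module.Finite.iff_fg.2 hfin

end Main

end K263.RFKey
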