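import Groth.Agent.FlatMor.K263.RFKey
import Groth.Agent.FlatMor.K263.RFNagata
import Mathlib.RingTheory.ZariskisMainTheorem
import Mathlib.RingTheory.NoetherNormalization
import Mathlib.RingTheory.MvPolynomial.Localization

/-!
# Local finiteness of the integral closure over the closed fibre
-/

set_option autoImplicit false
universe u v w

open Polynomial IsLocalRing TensorProduct
open scoped nonZeroDivisors

namespace K263.RFLoc

section Noether

variable (R : Type u) [CommRing R] [IsDomain R] [ValuationRing R] (A : Type u) [CommRing A] [IsDomain A] [Algebra R A]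

/-- Lifting a Noether normalisation of the closed fibre. -/
theorem exists_noether [Algebra.FiniteType R A] (hinj : Function.Injective (algebraMap R A))
    (hne : (maximalIdeal R).map (algebraMap R A) ≠ ⊤) :
    ∃ (n : ℕ) (x : Fin n → A), Function.Injective (MvPolynomial.aeval x : MvPolynomial (Fin n) R →ₐ[R] A) ∧
      ∀ a : A, ∃ F : (MvPolynomial (Fin n) R)[X], F.Monic ∧
        F.eval₂ (MvPolynomial.aeval x : MvPolynomial (Fin n) R →ₐ[R] A).toRingHom a ∈
          (maximalIdeal R).map (algebraMap R A) := by
  classical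
  set I := (maximalIdeal R).map (algebraMap R A) with hI
  let qm : ResidueField R →+* A ⧸ I := Ideal.quotientMap I (algebraMap R A) Ideal.le_comap_map
  have hqm : qm.comp (residue R) = (Ideal.Quotient.mk I).comp (algebraMap R A) :=
    Ideal.quotientMap_comp_mk (H := Ideal.le_comap_map)
  let _ : Algebra (ResidueField R) (A ⧸ I) := qm.toAlgebra
  have t1 : IsScalarTower R (ResidueField R) (A ⧸ I) := IsScalarTower.of_algebraMap_eq' (by
    change _ = qm.comp (residue R)
    rw [hqm]; rfl)
  have ft : Algebra.FiniteType (ResidueField R) (A ⧸ I) := Algebra.FiniteType.of_restrictScalars_finiteType R _ _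
  have : Nontrivial (A ⧸ I) := Ideal.Quotient.nontrivial_iff.2 hne
  obtain ⟨n, g, ginj, gint⟩ := exists_integral_inj_algHom_of_fg (ResidueField R) (A ⧸ I)
  choose x hx using fun i => Ideal.Quotient.mk_surjective (I := I) (g (MvPolynomial.X i))
  have hcomm : (g : MvPolynomial (Fin n) (ResidueField R) →+* A ⧸ I).comp (MvPolynomial.map (residue R)) =
      (Ideal.Quotient.mk I).comp (MvPolynomial.aeval x : MvPolynomial (Fin n) R →ₐ[R] A).toRingHom := by
    apply MvPolynomial.ringHom_ext
    · intro r
      rw [RingHom.comp_apply, MvPolynomial.map_C, RingHom.comp_apply]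
      have h1 : (g : MvPolynomial (Fin n) (ResidueField R) →+* A ⧸ I) (MvPolynomial.C (residue R r)) = qm (residue R r) :=
        g.commutes _
      have h2 : (MvPolynomial.aeval x : MvPolynomial (Fin n) R →ₐ[R] A).toRingHom (MvPolynomial.C r) = algebraMap R A r :=
        (MvPolynomial.aeval x : MvPolynomial (Fin n) R →ₐ[R] A).commutes r
      rw [h1, h2]
      exact RingHom.congr_fun hqm r
    · intro i
      rw [RingHom.comp_apply, MvPolynomial.map_X, RingHom.comp_apply]
      have h2 : (MvPolynomial.aeval x : MvPolynomial (Fin n) R →ₐ[R] A).toRingHom (MvPolynomial.X i) = x i :=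
        MvPolynomial.aeval_X x i
      rw [h2, hx]
      rfl
  refine ⟨n, x, ?_, ?_⟩
  · rw [injective_iff_map_eq_zero]
    intro f hf
    by_contra hne
    obtain ⟨a, G, s, ha, rfl, hs, -⟩ := RFGauss.exists_content f hne
    rw [map_mul] at hf
    have h2 : (MvPolynomial.aeval x : MvPolynomial (Fin n) R →ₐ[R] A) (MvPolynomial.C a) = algebraMap R A a :=
      (MvPolynomial.aeval x : MvPolynomial (Fin n) R →ₐ[R] A).commutes a
    rw [h2] at hf
    rcases mul_eq_zero.1 hf with h | h
    · exact ha (hinj (by rw [h, map_zero]))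
    · have h3 : g (MvPolynomial.map (residue R) G) = 0 := by
        have h4 := RingHom.congr_fun hcomm G
        have h5 : ((Ideal.Quotient.mk I).comp (MvPolynomial.aeval x : MvPolynomial (Fin n) R →ₐ[R] A).toRingHom) G = 0 := by
          rw [RingHom.comp_apply]
          have h6 : (MvPolynomial.aeval x : MvPolynomial (Fin n) R →ₐ[R] A).toRingHom G = 0 := h
          rw [h6, map_zero]
        rw [h5] at h4
        exact h4
      have h4 : MvPolynomial.map (residue R) G = 0 := ginj (by rw [h3, map_zero])
      have h5 := congrArg (MvPolynomial.coeff s) h4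
      rw [MvPolynomial.coeff_map, hs, map_one, MvPolynomial.coeff_zero] at h5
      exact one_ne_zero h5
  · intro a
    obtain ⟨p, hp, hpa⟩ := gint (Ideal.Quotient.mk I a)
    have hsurj : Function.Surjective (MvPolynomial.map (σ := Fin n) (residue R)) :=
      MvPolynomial.map_surjective _ (residue_surjective)
    have hl : p ∈ lifts (MvPolynomial.map (σ := Fin n) (residue R)) := by
      rw [lifts_iff_coeff_lifts]
      exact fun i => hsurj _
    obtain ⟨F, hF, -, hFm⟩ := lifts_and_natDegree_eq_and_monic hl hp
    refine ⟨F, hFm, ?_⟩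
    rw [← Ideal.Quotient.eq_zero_iff_mem, hom_eval₂, ← hcomm, ← eval₂_map, hF]
    exact hpa

end Noether

/-- Quasi-finiteness from integrality modulo an ideal. -/
theorem quasiFiniteAt (P A : Type u) [CommRing P] [CommRing A] [Algebra P A] [Algebra.FiniteType P A] (J : Ideal P)
    (hJ : ∀ a : A, ∃ F : P[X], F.Monic ∧ aeval a F ∈ J.map (algebraMap P A))
    (q : Ideal A) [hq : q.IsPrime] (hJq : J.map (algebraMap P A) ≤ q) : Algebra.QuasiFiniteAt P q := by
  let p : PrimeSpectrum P := PrimeSpectrum.comap (algebraMap P A) ⟨q, hq⟩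
  have hJp : J ≤ p.asIdeal := Ideal.map_le_iff_le_comap.1 hJq
  have hzero : ∀ y ∈ J.map (algebraMap P A), (1 : p.asIdeal.ResidueField) ⊗ₜ[P] y = 0 := by
    intro y hy
    rw [Ideal.map] at hy
    induction hy using Submodule.span_induction with
    | mem y hy =>
      obtain ⟨j, hj, rfl⟩ := hy
      rw [Algebra.algebraMap_eq_smul_one, ← TensorProduct.smul_tmul, ← Algebra.algebraMap_eq_smul_one]
      have h1 : algebraMap P p.asIdeal.ResidueField j = 0 := by
        rw [Ideal.algebraMap_residueField_eq_zero]
        exact hJp hj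
      rw [h1, TensorProduct.zero_tmul]
    | zero => rw [TensorProduct.tmul_zero]
    | add y z _ _ hy hz => rw [TensorProduct.tmul_add, hy, hz, add_zero]
    | smul a y _ hy =>
      have h1 : (1 : p.asIdeal.ResidueField) ⊗ₜ[P] (a • y) =
          ((1 : p.asIdeal.ResidueField) ⊗ₜ[P] a) * ((1 : p.asIdeal.ResidueField) ⊗ₜ[P] y) := by
        rw [Algebra.TensorProduct.tmul_mul_tmul, one_mul, smul_eq_mul]
      rw [h1, hy, mul_zero]
  have hint : Algebra.IsIntegral p.asIdeal.ResidueField (p.asIdeal.Fiber A) := by
    refine ⟨fun z => ?_⟩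
    induction z using TensorProduct.induction_on with
    | zero => exact isIntegral_zero
    | add y z hy hz => exact hy.add hz
    | tmul r a =>
      have h1 : r ⊗ₜ[P] a = algebraMap p.asIdeal.ResidueField (p.asIdeal.Fiber A) r *
          ((1 : p.asIdeal.ResidueField) ⊗ₜ[P] a) := by
        rw [Algebra.TensorProduct.algebraMap_apply, Algebra.TensorProduct.tmul_mul_tmul, one_mul, mul_one,
          Algebra.algebraMap_self, RingHom.id_apply]
      rw [h1]
      refine isIntegral_algebraMap.mul ?_
      obtain ⟨F, hF, hFa⟩ := hJ a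
      refine ⟨F.map (algebraMap P p.asIdeal.ResidueField), hF.map _, ?_⟩
      rw [eval₂_map, ← IsScalarTower.algebraMap_eq, ← aeval_def]
      have h2 : (1 : p.asIdeal.ResidueField) ⊗ₜ[P] a =
        (Algebra.TensorProduct.includeRight : A →ₐ[P] p.asIdeal.ResidueField ⊗[P] A) a := rfl
      rw [h2, aeval_algHom_apply]
      exact hzero _ hFa
  have hfin : Module.Finite p.asIdeal.ResidueField (p.asIdeal.Fiber A) := Algebra.IsIntegral.finite
  let e := PrimeSpectrum.preimageHomeomorphFiber P A p
  have hqf : Algebra.QuasiFinite p.asIdeal.ResidueField (p.asIdeal.Fiber A) := inferInstance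
  have hqf2 : Algebra.QuasiFiniteAt p.asIdeal.ResidueField (e ⟨⟨q, hq⟩, rfl⟩).asIdeal := inferInstance
  have : q.LiesOver p.asIdeal := ⟨rfl⟩
  exact Algebra.QuasiFiniteAt.of_quasiFiniteAt_residueField p.asIdeal q (e ⟨⟨q, hq⟩, rfl⟩).asIdeal
    congr($(e.symm_apply_apply ⟨⟨q, hq⟩, rfl⟩).1.asIdeal)

section Finset

open RFBall

variable (R : Type u) [CommRing R] [IsDomain R] [ValuationRing R] (K : Type u) [Field K] [IsAlgClosed K] [Algebra R K]
  [IsFractionRing R K] (B : Type u) [CommRing B] [IsDomain B] (σ : Type) [Finite σ] [Algebra (MvPolynomial σ K) B]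
  [Algebra (MvPolynomial σ R) B]

/-- The integral closure of `R[T]` in a domain `B` of bounded rank over `K[T]` is generated by a finite set. -/
theorem exists_finset (hc : Compat R K B σ) (hinj : Function.Injective (algebraMap (MvPolynomial σ K) B)) (N : ℕ)
    (hN : ∀ s : Finset B, LinearIndependent (MvPolynomial σ K) (fun i : s => (i : B)) → s.card ≤ N) :
    ∃ T : Finset B, (∀ t ∈ T, IsIntegral (MvPolynomial σ R) t) ∧
      ∀ b : B, IsIntegral (MvPolynomial σ R) b → b ∈ Submodule.span (MvPolynomial σ R) (T : Set B) := by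
  classical
  let D := integralClosure (MvPolynomial σ K) B
  have hDinj : Function.Injective (algebraMap (MvPolynomial σ K) D) := by
    intro a b h
    exact hinj (congrArg Subtype.val h)
  have : Module.IsTorsionFree (MvPolynomial σ K) D := by
    have := (faithfulSMul_iff_algebraMap_injective (MvPolynomial σ K) D).2 hDinj
    infer_instance
  have hfin : Module.Finite (MvPolynomial σ K) D := by
    refine RFNagata.finite_of_rank (RFNagata.isNagata_mvPolynomial K σ) N ?_
    intro s hs
    let φ : D →ₗ[MvPolynomial σ K] B := D.val.toLinearMap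
    have hφ : Function.Injective φ := Subtype.val_injective
    have h1 : LinearIndependent (MvPolynomial σ K) (fun i : s => φ (i : D)) :=
      hs.map' φ (LinearMap.ker_eq_bot.2 hφ)
    have h2 := hN (s.image φ) ?_
    · rwa [Finset.card_image_of_injective _ hφ] at h2
    · have h3 : Function.Injective (fun i : s.image φ => (i : B)) := Subtype.val_injective
      let e : s ≃ s.image φ := Equiv.ofBijective (fun i => ⟨φ i, Finset.mem_image_of_mem _ i.2⟩) ⟨fun i j h => by
        have := congrArg Subtype.val h
        exact Subtype.ext (hφ this), fun j => by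
          obtain ⟨i, hi, hij⟩ := Finset.mem_image.1 j.2
          exact ⟨⟨i, hi⟩, Subtype.ext hij⟩⟩
      exact (linearIndependent_equiv e).1 h1
  let _ : Algebra (MvPolynomial σ R) D :=
    ((algebraMap (MvPolynomial σ K) D).comp (MvPolynomial.map (algebraMap R K))).toAlgebra
  have hcD : Compat R K D σ := rfl
  have t1 : IsScalarTower (MvPolynomial σ R) D B := IsScalarTower.of_algebraMap_eq' hc
  have hkey := RFKey.finite_integralClosure hcD hDinj
  obtain ⟨G, hG⟩ := hkey.fg_top
  refine ⟨G.image (fun g : integralClosure (MvPolynomial σ R) D => ((g : D) : B)), ?_, ?_⟩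
  · intro t ht
    obtain ⟨g, -, rfl⟩ := Finset.mem_image.1 ht
    exact (g.2 : IsIntegral (MvPolynomial σ R) (g : D)).map (IsScalarTower.toAlgHom (MvPolynomial σ R) D B)
  · intro b hb
    have hb1 : IsIntegral (MvPolynomial σ K) b := by
      obtain ⟨F, hF, hFb⟩ := hb
      refine ⟨F.map (MvPolynomial.map (algebraMap R K)), hF.map _, ?_⟩
      rw [eval₂_map, ← hc]
      exact hFb
    have hb2 : IsIntegral (MvPolynomial σ R) (⟨b, hb1⟩ : D) := by
      refine (isIntegral_algHom_iff (IsScalarTower.toAlgHom (MvPolynomial σ R) D B) Subtype.val_injective).1 ?_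
      exact hb
    have hmem : (⟨⟨b, hb1⟩, hb2⟩ : integralClosure (MvPolynomial σ R) D) ∈ Submodule.span (MvPolynomial σ R) (G : Set _) := by
      rw [hG]; trivial
    let ψ : integralClosure (MvPolynomial σ R) D →ₗ[MvPolynomial σ R] B :=
      ((IsScalarTower.toAlgHom (MvPolynomial σ R) D B).comp (integralClosure (MvPolynomial σ R) D).val).toLinearMap
    have h4 := Submodule.mem_map_of_mem (f := ψ) hmem
    rw [Submodule.map_span] at h4
    rw [Finset.coe_image]
    exact h4

end Finset

section Main

open RFBall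

variable (R : Type u) [CommRing R] [IsDomain R] [ValuationRing R] (K : Type u) [Field K] [IsAlgClosed K] [Algebra R K]
  [IsFractionRing R K] (A : Type u) [CommRing A] [IsDomain A] [Algebra R A] [Algebra.FiniteType R A]
  (B : Type u) [CommRing B] [Algebra A B] [IsLocalization (Algebra.algebraMapSubmonoid A R⁰) B]

include K in
/-- Local finiteness near the points of the closed fibre. -/
theorem exists_locFin (hinj : Function.Injective (algebraMap R A)) (q : Ideal A) [hq : q.IsPrime]
    (hmq : (maximalIdeal R).map (algebraMap R A) ≤ q) :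
    ∃ f ∉ q, ∃ M : Submodule A (integralClosure A B), M.FG ∧ ∀ x : integralClosure A B, ∃ n : ℕ, f ^ n • x ∈ M := by
  classical
  obtain ⟨n, x, hxinj, hx⟩ := exists_noether R A hinj (fun h => hq.ne_top (top_le_iff.1 (h ▸ hmq)))
  let _ : Algebra (MvPolynomial (Fin n) R) A := (MvPolynomial.aeval x : MvPolynomial (Fin n) R →ₐ[R] A).toRingHom.toAlgebra
  have t0 : IsScalarTower R (MvPolynomial (Fin n) R) A := IsScalarTower.of_algebraMap_eq fun r =>
    ((MvPolynomial.aeval x : MvPolynomial (Fin n) R →ₐ[R] A).commutes r).symm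
  have ft : Algebra.FiniteType (MvPolynomial (Fin n) R) A := Algebra.FiniteType.of_restrictScalars_finiteType R _ _
  have hmap : ((maximalIdeal R).map (algebraMap R (MvPolynomial (Fin n) R))).map (algebraMap (MvPolynomial (Fin n) R) A) =
      (maximalIdeal R).map (algebraMap R A) := by
    rw [Ideal.map_map, ← IsScalarTower.algebraMap_eq]
  have hqf : Algebra.QuasiFiniteAt (MvPolynomial (Fin n) R) q := by
    refine quasiFiniteAt (MvPolynomial (Fin n) R) A ((maximalIdeal R).map (algebraMap R (MvPolynomial (Fin n) R))) ?_ q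
      (by rw [hmap]; exact hmq)
    rw [hmap]
    exact hx
  obtain ⟨S', hS', r, hrq, hbij⟩ := Algebra.QuasiFiniteAt.exists_fg_and_exists_notMem_and_awayMap_bijective
    (R := MvPolynomial (Fin n) R) q
  have hr : ∀ a : A, ∃ b : S', ∃ m : ℕ, (b : A) = (r : A) ^ m * a := by
    have := Localization.awayMap_surjective_iff.1 hbij.2
    exact this
  have hr0 : (r : A) ≠ 0 := fun h => hrq (h ▸ q.zero_mem)
  -- `B` is a domain, and a `K`-algebra
  have hle : Algebra.algebraMapSubmonoid A R⁰ ≤ A⁰ := by
    rintro _ ⟨c, hc, rfl⟩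
    exact mem_nonZeroDivisors_of_ne_zero fun h => nonZeroDivisors.ne_zero hc (hinj (by rw [h, map_zero]))
  have hBd : IsDomain B := IsLocalization.isDomain_of_le_nonZeroDivisors (M := Algebra.algebraMapSubmonoid A R⁰) B hle
  have hABinj : Function.Injective (algebraMap A B) :=
    IsLocalization.injective (M := Algebra.algebraMapSubmonoid A R⁰) B hle
  let _ : Algebra R B := ((algebraMap A B).comp (algebraMap R A)).toAlgebra
  have t1 : IsScalarTower R A B := IsScalarTower.of_algebraMap_eq' rfl
  have hunit : ∀ y : R⁰, IsUnit (algebraMap R B y) := fun y =>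
    IsLocalization.map_units B (⟨_, y, y.2, rfl⟩ : Algebra.algebraMapSubmonoid A R⁰)
  let κ : K →+* B := IsLocalization.lift hunit
  let _ : Algebra K B := κ.toAlgebra
  have t2 : IsScalarTower R K B := IsScalarTower.of_algebraMap_eq' (IsLocalization.lift_comp hunit).symm
  let _ : Algebra (MvPolynomial (Fin n) K) B :=
    (MvPolynomial.aeval (fun i => algebraMap A B (x i)) : MvPolynomial (Fin n) K →ₐ[K] B).toRingHom.toAlgebra
  let _ : Algebra (MvPolynomial (Fin n) R) B :=
    ((algebraMap A B).comp (algebraMap (MvPolynomial (Fin n) R) A)).toAlgebra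
  have t3 : IsScalarTower (MvPolynomial (Fin n) R) A B := IsScalarTower.of_algebraMap_eq' rfl
  have hc : Compat R K B (Fin n) := by
    apply MvPolynomial.ringHom_ext
    · intro r
      rw [RingHom.comp_apply, MvPolynomial.map_C]
      have h1 : algebraMap (MvPolynomial (Fin n) K) B (MvPolynomial.C (algebraMap R K r)) = algebraMap K B (algebraMap R K r) :=
        (MvPolynomial.aeval (fun i => algebraMap A B (x i)) : MvPolynomial (Fin n) K →ₐ[K] B).commutes _
      rw [h1, ← IsScalarTower.algebraMap_apply, IsScalarTower.algebraMap_apply (MvPolynomial (Fin n) R) A B,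
        IsScalarTower.algebraMap_apply R A B]
      congr 1
      exact (MvPolynomial.aeval x : MvPolynomial (Fin n) R →ₐ[R] A).commutes r
    · intro i
      rw [RingHom.comp_apply, MvPolynomial.map_X]
      have h1 : algebraMap (MvPolynomial (Fin n) K) B (MvPolynomial.X i) = algebraMap A B (x i) :=
        MvPolynomial.aeval_X _ i
      rw [h1, IsScalarTower.algebraMap_apply (MvPolynomial (Fin n) R) A B]
      congr 1
      exact MvPolynomial.aeval_X x i
  have hPB : Function.Injective (algebraMap (MvPolynomial (Fin n) R) B) := by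
    rw [IsScalarTower.algebraMap_eq (MvPolynomial (Fin n) R) A B]
    exact hABinj.comp hxinj
  have hRK : Function.Injective (algebraMap R K) := IsFractionRing.injective R K
  have hKB : Function.Injective (algebraMap (MvPolynomial (Fin n) K) B) := by
    rw [injective_iff_map_eq_zero]
    intro f hf
    let _ : Algebra (MvPolynomial (Fin n) R) (MvPolynomial (Fin n) K) := MvPolynomial.algebraMvPolynomial
    obtain ⟨⟨F, ⟨_, c, hc', rfl⟩⟩, h⟩ := IsLocalization.surj (R⁰.map (MvPolynomial.C (σ := Fin n))) f
    simp only at h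
    have hc0 : MvPolynomial.map (σ := Fin n) (algebraMap R K) (MvPolynomial.C c) ≠ 0 := by
      rw [MvPolynomial.map_C, Ne, MvPolynomial.C_eq_zero]
      exact fun h => nonZeroDivisors.ne_zero hc' (hRK (by rw [h, map_zero]))
    have h1 : algebraMap (MvPolynomial (Fin n) R) B F = 0 := by
      rw [hc, RingHom.comp_apply]
      have h2 : MvPolynomial.map (algebraMap R K) F = f * MvPolynomial.map (algebraMap R K) (MvPolynomial.C c) := h.symm
      rw [h2, map_mul, hf, zero_mul]
    have h2 : F = 0 := hPB (by rw [h1, map_zero])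
    have h3 : f * MvPolynomial.map (algebraMap R K) (MvPolynomial.C c) = 0 := by
      have h4 : f * MvPolynomial.map (algebraMap R K) (MvPolynomial.C c) = MvPolynomial.map (algebraMap R K) F := h
      rw [h4, h2, map_zero]
    exact (mul_eq_zero.1 h3).resolve_right hc0
  -- the bound on the rank
  obtain ⟨G, hG⟩ := hS'
  have hbound : ∀ s : Finset B, LinearIndependent (MvPolynomial (Fin n) K) (fun i : s => (i : B)) → s.card ≤ G.card := by
    intro s hs
    have hden : ∀ b : B, ∃ c : A, c ≠ 0 ∧ c ∈ S' ∧ ∃ y : A, y ∈ S' ∧ algebraMap A B c * b = algebraMap A B y := by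
      intro b
      obtain ⟨⟨a, ⟨c, hc'⟩⟩, h⟩ := IsLocalization.surj (Algebra.algebraMapSubmonoid A R⁰) b
      obtain ⟨y, m, hy⟩ := hr a
      simp only at h
      have hcS : c ∈ S' := by
        obtain ⟨c, -, rfl⟩ := hc'
        have h2 : algebraMap R A c = algebraMap (MvPolynomial (Fin n) R) A (algebraMap R _ c) :=
          IsScalarTower.algebraMap_apply R (MvPolynomial (Fin n) R) A c
        rw [h2]
        exact S'.algebraMap_mem _
      refine ⟨(r : A) ^ m * c, mul_ne_zero (pow_ne_zero _ hr0) (nonZeroDivisors.ne_zero (hle hc')),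
        S'.mul_mem (S'.pow_mem r.2 _) hcS, y, y.2, ?_⟩
      rw [hy, map_mul, map_mul, mul_assoc, mul_comm _ b, h]
    -- common denominators
    have hcom : ∃ c : A, c ≠ 0 ∧ c ∈ S' ∧ ∀ b ∈ s, ∃ y : A, y ∈ S' ∧ algebraMap A B c * b = algebraMap A B y := by
      clear hs
      induction s using Finset.induction_on with
      | empty => exact ⟨1, one_ne_zero, S'.one_mem, fun b hb => absurd hb (Finset.notMem_empty b)⟩
      | insert b₀ s _ ih =>
        obtain ⟨c, hc0, hcS, h⟩ := ih
        obtain ⟨c', hc0', hcS', y', hy', h'⟩ := hden b₀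
        refine ⟨c * c', mul_ne_zero hc0 hc0', S'.mul_mem hcS hcS', fun b hb => ?_⟩
        rcases Finset.mem_insert.1 hb with rfl | hb
        · exact ⟨c * y', S'.mul_mem hcS hy', by rw [map_mul, mul_assoc, h', map_mul]⟩
        · obtain ⟨y, hy, h2⟩ := h b hb
          exact ⟨c' * y, S'.mul_mem hcS' hy, by rw [mul_comm c c', map_mul, mul_assoc, h2, map_mul]⟩
    obtain ⟨c, hc0, -, hcs⟩ := hcom
    choose! y hyS hy using hcs
    have hlin : LinearIndependent (MvPolynomial (Fin n) R) (fun i : s => y (i : B)) := by
      rw [Fintype.linearIndependent_iff]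
      intro g hg
      rw [Fintype.linearIndependent_iff] at hs
      have h5 := hs (fun i => MvPolynomial.map (algebraMap R K) (g i)) ?_
      · intro i
        exact MvPolynomial.map_injective _ hRK (by rw [h5 i, map_zero])
      · have h6 : algebraMap A B c ≠ 0 := fun h => hc0 (hABinj (by rw [h, map_zero]))
        refine (mul_eq_zero.1 (?_ : algebraMap A B c * _ = 0)).resolve_left h6
        rw [Finset.mul_sum]
        have h7 := congrArg (algebraMap A B) hg
        rw [map_zero, map_sum] at h7
        rw [← h7]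
        refine Finset.sum_congr rfl fun i _ => ?_
        rw [Algebra.smul_def, Algebra.smul_def, map_mul, ← hy i i.2, ← IsScalarTower.algebraMap_apply, hc,
          RingHom.comp_apply]
        ring
    have h8 := linearIndependent_le_span' (fun i : s => y (i : B)) hlin (G : Set A) (by
      rw [hG]
      rintro _ ⟨i, rfl⟩
      exact hyS i i.2)
    rw [Cardinal.mk_fintype, Fintype.card_coe] at h8
    have h9 : s.card ≤ Fintype.card (G : Set A) := by exact_mod_cast h8
    have h10 : Fintype.card (G : Set A) = G.card := Fintype.card_coe G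
    rwa [h10] at h9
  obtain ⟨T, hT, hTspan⟩ := exists_finset R K B (Fin n) hc hKB G.card hbound
  have hTA : ∀ t ∈ T, IsIntegral A t := fun t ht => (hT t ht).tower_top
  let T' : Set (integralClosure A B) := {z | (z : B) ∈ T}
  have hT'fin : T'.Finite := by
    have : T' = Subtype.val ⁻¹' (T : Set B) := rfl
    rw [this]
    exact Set.Finite.preimage (Subtype.val_injective.injOn) T.finite_toSet
  refine ⟨r, hrq, Submodule.span A T', ⟨hT'fin.toFinset, by rw [Set.Finite.coe_toFinset]⟩, ?_⟩
  -- powers of `r` make things integral over `P`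
  have hS'int : ∀ y : A, y ∈ S' → IsIntegral (MvPolynomial (Fin n) R) y := by
    intro y hy
    have : Module.Finite (MvPolynomial (Fin n) R) S' := ⟨(Submodule.fg_top _).mpr ⟨G, hG⟩⟩
    have h1 : IsIntegral (MvPolynomial (Fin n) R) (⟨y, hy⟩ : S') := Algebra.IsIntegral.isIntegral _
    exact h1.map S'.val
  have hpow : ∀ b : B, IsIntegral A b → ∃ m : ℕ, IsIntegral (MvPolynomial (Fin n) R) (algebraMap A B r ^ m * b) := by
    rintro b ⟨F, hF, hFb⟩
    have hex : ∃ m : ℕ, 0 < m ∧ ∀ i ∈ F.support, (r : A) ^ m * F.coeff i ∈ S' := by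
      generalize F.support = s
      induction s using Finset.induction_on with
      | empty => exact ⟨1, one_pos, fun b hb => absurd hb (Finset.notMem_empty b)⟩
      | insert i₀ s _ ih =>
        obtain ⟨m, hm0, hm⟩ := ih
        obtain ⟨y, m', hy⟩ := hr (F.coeff i₀)
        refine ⟨m + m', by omega, fun i hi => ?_⟩
        rcases Finset.mem_insert.1 hi with rfl | hi
        · rw [pow_add, mul_assoc, ← hy]
          exact S'.mul_mem (S'.pow_mem r.2 _) y.2
        · rw [add_comm m m', pow_add, mul_assoc]
          exact S'.mul_mem (S'.pow_mem r.2 _) (hm i hi)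
    obtain ⟨m, hm0, hm⟩ := hex
    refine ⟨m, ?_⟩
    have h1 : ∀ i, (scaleRoots F ((r : A) ^ m)).coeff i ∈ S' := by
      intro i
      rw [coeff_scaleRoots]
      by_cases hi : i ∈ F.support
      · have hle' := le_natDegree_of_mem_supp _ hi
        rcases Nat.eq_or_lt_of_le hle' with h | h
        · rw [h, Nat.sub_self, pow_zero, mul_one]
          have : F.coeff F.natDegree = 1 := hF
          rw [this]
          exact S'.one_mem
        · obtain ⟨k, hk⟩ := Nat.exists_eq_add_of_lt h
          have h2 : F.natDegree - i = k + 1 := by omega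
          have h3 : F.coeff i * ((r : A) ^ m) ^ (F.natDegree - i) = ((r : A) ^ m) ^ k * ((r : A) ^ m * F.coeff i) := by
            rw [h2]; ring
          rw [h3]
          exact S'.mul_mem (S'.pow_mem (S'.pow_mem r.2 _) _) (hm i hi)
      · rw [notMem_support_iff.1 hi, zero_mul]
        exact S'.zero_mem
    have h2 : scaleRoots F ((r : A) ^ m) ∈ lifts (algebraMap S' A) := by
      rw [lifts_iff_coeff_lifts]
      exact fun i => ⟨⟨_, h1 i⟩, rfl⟩
    obtain ⟨F', hF', -, hFm'⟩ := lifts_and_natDegree_eq_and_monic h2 ((monic_scaleRoots_iff _).2 hF)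
    have t4 : IsScalarTower S' A B := inferInstance
    have t5 : IsScalarTower (MvPolynomial (Fin n) R) S' B := IsScalarTower.of_algebraMap_eq' rfl
    have : Module.Finite (MvPolynomial (Fin n) R) S' := ⟨(Submodule.fg_top _).mpr ⟨G, hG⟩⟩
    have h3 : IsIntegral S' (algebraMap A B r ^ m * b) := by
      refine ⟨F', hFm', ?_⟩
      rw [IsScalarTower.algebraMap_eq S' A B, ← eval₂_map, hF']
      have h4 := scaleRoots_eval₂_eq_zero (s := (r : A) ^ m) (algebraMap A B) hFb
      rwa [map_pow] at h4
    exact isIntegral_trans _ h3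
  rintro ⟨b, hb⟩
  obtain ⟨m, hm⟩ := hpow b hb
  refine ⟨m, ?_⟩
  have h10 := hTspan _ hm
  have h11 : algebraMap A B r ^ m * b ∈ Submodule.span A (T : Set B) :=
    Submodule.span_le_restrictScalars (MvPolynomial (Fin n) R) A (T : Set B) h10
  let ψ : integralClosure A B →ₗ[A] B := (integralClosure A B).val.toLinearMap
  have h12 : (Submodule.span A T').map ψ = Submodule.span A (T : Set B) := by
    rw [Submodule.map_span]
    congr 1
    ext t
    constructor
    · rintro ⟨z, hz, rfl⟩
      exact hz
    · intro ht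
      exact ⟨⟨t, hTA t ht⟩, ht, rfl⟩
  rw [← h12] at h11
  obtain ⟨z, hz, hzb⟩ := h11
  have h13 : (r : A) ^ m • (⟨b, hb⟩ : integralClosure A B) = z := by
    apply Subtype.ext
    have h14 : (((r : A) ^ m • (⟨b, hb⟩ : integralClosure A B) : integralClosure A B) : B) = (r : A) ^ m • b := rfl
    rw [h14, Algebra.smul_def, map_pow]
    exact hzb.symm
  rw [h13]
  exact hz

end Main

end K263.RFLoc
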