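import Groth.Agent.FlatMor.K263.RFGauss
import Mathlib.FieldTheory.IsAlgClosed.Basic
import Mathlib.FieldTheory.Minpoly.IsIntegrallyClosed
import Mathlib.RingTheory.Ideal.GoingUp
import Mathlib.Combinatorics.Nullstellensatz
import Mathlib.LinearAlgebra.Matrix.Charpoly.LinearMap

/-!
# Evaluating elements of a finite algebra over a polynomial ring at points
-/

set_option autoImplicit false
universe u v w

open Polynomial IsLocalRing

namespace K263.RFPoints

/-- Extending a surjection onto an algebraically closed field along an integral extension. -/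
theorem exists_hom {A D K : Type*} [CommRing A] [CommRing D] [IsDomain D] [Algebra A D] [Algebra.IsIntegral A D]
    [Field K] [IsAlgClosed K] (κ : A →+* K) (hκ : Function.Surjective κ)
    (hker : RingHom.ker (algebraMap A D) ≤ RingHom.ker κ) :
    ∃ x : D →+* K, ∀ a, x (algebraMap A D a) = κ a := by
  have hp : (RingHom.ker κ).IsPrime := RingHom.ker_isPrime κ
  obtain ⟨Q, hQ, hQc⟩ := Ideal.exists_ideal_over_prime_of_isIntegral_of_isDomain (S := D) (RingHom.ker κ) hker
  let f : A →+* D ⧸ Q := (Ideal.Quotient.mk Q).comp (algebraMap A D)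
  have hf : RingHom.ker κ ≤ RingHom.ker f := by
    intro a ha
    rw [RingHom.mem_ker, RingHom.comp_apply, Ideal.Quotient.eq_zero_iff_mem]
    rw [← hQc] at ha
    exact ha
  let g : K →+* D ⧸ Q := RingHom.liftOfSurjective κ hκ ⟨f, hf⟩
  have hg : ∀ a, g (κ a) = f a := fun a => RingHom.liftOfRightInverse_comp_apply κ _ _ ⟨f, hf⟩ a
  let _ : Algebra K (D ⧸ Q) := g.toAlgebra
  have hdom : IsDomain (D ⧸ Q) := Ideal.Quotient.isDomain Q
  have hint : Algebra.IsIntegral K (D ⧸ Q) := by
    refine ⟨fun y => ?_⟩
    obtain ⟨d, rfl⟩ := Ideal.Quotient.mk_surjective y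
    obtain ⟨q, hq, hqd⟩ := Algebra.IsIntegral.isIntegral (R := A) d
    refine ⟨q.map κ, hq.map κ, ?_⟩
    rw [eval₂_map]
    have h1 : (algebraMap K (D ⧸ Q)).comp κ = f := RingHom.ext hg
    rw [h1, ← hom_eval₂, hqd, map_zero]
  have hbij : Function.Bijective (algebraMap K (D ⧸ Q)) := IsAlgClosed.algebraMap_bijective_of_isIntegral
  let e : K ≃+* D ⧸ Q := RingEquiv.ofBijective (algebraMap K (D ⧸ Q)) hbij
  refine ⟨(e.symm : D ⧸ Q →+* K).comp (Ideal.Quotient.mk Q), fun a => ?_⟩
  rw [RingHom.comp_apply, RingHom.coe_coe, RingEquiv.symm_apply_eq]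
  exact (hg a).symm

section Points

variable {σ : Type} [Finite σ] {K D : Type u} [Field K] [CommRing D] [IsDomain D] [Algebra (MvPolynomial σ K) D]
  [Module.Finite (MvPolynomial σ K) D]

/-- The points of `D` over a point of affine space. -/
def Pts (σ : Type) (K D : Type u) [Field K] [CommRing D] [Algebra (MvPolynomial σ K) D] (a : σ → K) : Type u :=
  {x : D →+* K // ∀ p : MvPolynomial σ K, x (algebraMap (MvPolynomial σ K) D p) = MvPolynomial.eval a p}

omit [Finite σ] [IsDomain D] in
theorem finite_pts (a : σ → K) : Finite (Pts σ K D a) := by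
  classical
  obtain ⟨S, hS⟩ := Module.Finite.fg_top (R := MvPolynomial σ K) (M := D)
  let r : S → Finset K := fun s => ((minpoly (MvPolynomial σ K) (s : D)).map (MvPolynomial.eval a)).roots.toFinset
  have hint : Algebra.IsIntegral (MvPolynomial σ K) D := inferInstance
  have hmem : ∀ (x : Pts σ K D a) (s : S), x.1 s ∈ r s := by
    rintro ⟨x, hx⟩ s
    rw [Multiset.mem_toFinset, mem_roots (Polynomial.Monic.ne_zero
      ((minpoly.monic (Algebra.IsIntegral.isIntegral (s : D))).map _)), IsRoot, eval_map]
    have h1 : x.comp (algebraMap (MvPolynomial σ K) D) = MvPolynomial.eval a := RingHom.ext hx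
    have h2 : eval₂ (algebraMap (MvPolynomial σ K) D) (s : D) (minpoly (MvPolynomial σ K) (s : D)) = 0 :=
      minpoly.aeval _ _
    change eval₂ (MvPolynomial.eval a) (x s) _ = 0
    rw [← h1, ← hom_eval₂, h2, map_zero]
  let f : Pts σ K D a → (∀ s : S, r s) := fun x s => ⟨x.1 s, hmem x s⟩
  refine Finite.of_injective f fun x y hxy => ?_
  apply Subtype.ext
  apply RingHom.ext
  intro d
  have hd : d ∈ Submodule.span (MvPolynomial σ K) (S : Set D) := hS ▸ Submodule.mem_top
  induction hd using Submodule.span_induction with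
  | mem d hd => exact congrArg Subtype.val (congrFun hxy ⟨d, hd⟩)
  | zero => rw [map_zero, map_zero]
  | add d e _ _ hd he => rw [map_add, map_add, hd, he]
  | smul p d _ hd => rw [Algebra.smul_def, map_mul, map_mul, x.2, y.2, hd]

/-- Roots of the specialised minimal polynomial come from points. -/
theorem exists_pt [IsAlgClosed K] (hinj : Function.Injective (algebraMap (MvPolynomial σ K) D)) (a : σ → K) (f : D) {y : K}
    (hy : eval₂ (MvPolynomial.eval a) y (minpoly (MvPolynomial σ K) f) = 0) : ∃ x : Pts σ K D a, x.1 f = y := by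
  have hint : Algebra.IsIntegral (MvPolynomial σ K) D := inferInstance
  have hcl := RFGauss.isIntegrallyClosed_mvPolynomial K σ
  have hfaith : FaithfulSMul (MvPolynomial σ K) D := (faithfulSMul_iff_algebraMap_injective _ _).2 hinj
  have hfint : IsIntegral (MvPolynomial σ K) f := Algebra.IsIntegral.isIntegral f
  let _ : Algebra (MvPolynomial σ K)[X] D := (aeval f : (MvPolynomial σ K)[X] →ₐ[MvPolynomial σ K] D).toRingHom.toAlgebra
  have hst : IsScalarTower (MvPolynomial σ K) (MvPolynomial σ K)[X] D := IsScalarTower.of_algebraMap_eq fun p => by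
    change _ = aeval f (C p)
    rw [aeval_C]
  have hint' : Algebra.IsIntegral (MvPolynomial σ K)[X] D := ⟨fun d => (hint.isIntegral d).tower_top⟩
  let κ : (MvPolynomial σ K)[X] →+* K := eval₂RingHom (MvPolynomial.eval a) y
  have hκ : Function.Surjective κ := fun c => ⟨C (MvPolynomial.C c), by simp [κ]⟩
  have hker : RingHom.ker (algebraMap (MvPolynomial σ K)[X] D) ≤ RingHom.ker κ := by
    intro p hp
    have h1 : aeval f p = 0 := hp
    obtain ⟨q, rfl⟩ := minpoly.isIntegrallyClosed_dvd hfint h1
    rw [RingHom.mem_ker, map_mul]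
    have h2 : κ (minpoly (MvPolynomial σ K) f) = 0 := hy
    rw [h2, zero_mul]
  obtain ⟨x, hx⟩ := exists_hom κ hκ hker
  refine ⟨⟨x, fun p => ?_⟩, ?_⟩
  · rw [IsScalarTower.algebraMap_apply (MvPolynomial σ K) (MvPolynomial σ K)[X] D, hx]
    change eval₂ _ _ (C p) = _
    rw [eval₂_C]
  · have h1 := hx X
    have h2 : algebraMap (MvPolynomial σ K)[X] D X = f := aeval_X f
    have h3 : κ X = y := eval₂_X _ _
    rwa [h2, h3] at h1

omit [Finite σ] in
/-- Uniform bound for the degree of minimal polynomials. -/
theorem exists_bound (σ : Type) (K D : Type u) [Field K] [CommRing D] [IsDomain D] [Algebra (MvPolynomial σ K) D]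
    [Module.Finite (MvPolynomial σ K) D] :
    ∃ d : ℕ, ∀ f : D, (minpoly (MvPolynomial σ K) f).natDegree ≤ d := by
  refine ⟨(⊤ : Submodule (MvPolynomial σ K) D).spanFinrank, fun f => ?_⟩
  obtain ⟨p, hp, hpd, hpf⟩ := LinearMap.exists_monic_and_natDegree_eq_and_aeval_eq_zero (MvPolynomial σ K)
    (Algebra.lmul (MvPolynomial σ K) D f)
  have h1 : aeval f p = 0 := by
    have h2 : aeval (Algebra.lmul (MvPolynomial σ K) D f) p = Algebra.lmul (MvPolynomial σ K) D (aeval f p) :=
      aeval_algHom_apply _ _ _
    rw [h2] at hpf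
    have := congrArg (fun z => z 1) hpf
    simpa using this
  have h3 := minpoly.min (MvPolynomial σ K) f hp h1
  rw [← hpd]
  exact natDegree_le_natDegree h3

end Points

section Grid

variable {R K : Type u} [CommRing R] [IsDomain R] [ValuationRing R] [Field K] [Algebra R K]
  [IsFractionRing R K] {σ : Type} [Finite σ]

/-- A polynomial of small degree with values in `R` on a grid has coefficients in `R`. -/
theorem exists_map_eq (G : Finset R) (hG : Set.InjOn (residue R) (G : Set R)) (c : MvPolynomial σ K)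
    (hdeg : ∀ i, c.degreeOf i < G.card)
    (hval : ∀ a : σ → R, (∀ i, a i ∈ G) → ∃ r, algebraMap R K r = MvPolynomial.eval (fun i => algebraMap R K (a i)) c) :
    ∃ c' : MvPolynomial σ R, MvPolynomial.map (algebraMap R K) c' = c := by
  classical
  by_cases hc : c = 0
  · exact ⟨0, by rw [hc, map_zero]⟩
  -- clear denominators
  obtain ⟨l, hl⟩ := IsLocalization.exist_integer_multiples_of_finset (nonZeroDivisors R) (c.support.image fun s => c.coeff s)
  have hl0 : (l : R) ≠ 0 := nonZeroDivisors.ne_zero l.2
  have hlK : algebraMap R K l ≠ 0 := fun h => hl0 (IsFractionRing.injective R K (h.trans (map_zero _).symm))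
  have h1 : ∃ c₁ : MvPolynomial σ R, MvPolynomial.map (algebraMap R K) c₁ = MvPolynomial.C (algebraMap R K l) * c := by
    refine MvPolynomial.mem_range_map_iff_coeffs_subset.2 ?_
    intro z hz
    rw [Finset.mem_coe, MvPolynomial.mem_coeffs_iff] at hz
    obtain ⟨s, hs, rfl⟩ := hz
    rw [MvPolynomial.coeff_C_mul]
    by_cases hcs : c.coeff s = 0
    · rw [hcs, mul_zero]; exact ⟨0, map_zero _⟩
    · obtain ⟨r, hr⟩ := hl (c.coeff s) (Finset.mem_image.2 ⟨s, MvPolynomial.mem_support_iff.2 hcs, rfl⟩)
      refine ⟨r, ?_⟩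
      rw [hr, Algebra.smul_def]
  obtain ⟨c₁, hc₁⟩ := h1
  have hc₁0 : c₁ ≠ 0 := by
    rintro rfl
    rw [map_zero] at hc₁
    rcases mul_eq_zero.1 hc₁.symm with h | h
    · rw [MvPolynomial.C_eq_zero] at h; exact hlK h
    · exact hc h
  obtain ⟨b, c₂, s, hb, hc₂, hs, -⟩ := RFGauss.exists_content c₁ hc₁0
  have hbK : algebraMap R K b ≠ 0 := fun h => hb (IsFractionRing.injective R K (h.trans (map_zero _).symm))
  have hkey : MvPolynomial.C (algebraMap R K l) * c = MvPolynomial.C (algebraMap R K b) *
      MvPolynomial.map (algebraMap R K) c₂ := by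
    rw [← hc₁, hc₂, map_mul, MvPolynomial.map_C]
  rcases ValuationRing.dvd_total (l : R) b with ⟨e, he⟩ | ⟨e, he⟩
  · refine ⟨MvPolynomial.C e * c₂, ?_⟩
    apply mul_left_cancel₀ (a := MvPolynomial.C (algebraMap R K l))
      (by rw [Ne, MvPolynomial.C_eq_zero]; exact hlK)
    rw [hkey, map_mul, MvPolynomial.map_C, ← mul_assoc, ← MvPolynomial.C_mul, ← map_mul, ← he]
  · -- `l = b e`
    by_cases heu : IsUnit e
    · obtain ⟨e', he'⟩ := heu.exists_right_inv
      refine ⟨MvPolynomial.C e' * c₂, ?_⟩
      apply mul_left_cancel₀ (a := MvPolynomial.C (algebraMap R K l))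
        (by rw [Ne, MvPolynomial.C_eq_zero]; exact hlK)
      rw [hkey, map_mul, MvPolynomial.map_C, ← mul_assoc, ← MvPolynomial.C_mul, ← map_mul, he, mul_assoc, he', mul_one]
    exfalso
    have hkey2 : MvPolynomial.C (algebraMap R K e) * c = MvPolynomial.map (algebraMap R K) c₂ := by
      apply mul_left_cancel₀ (a := MvPolynomial.C (algebraMap R K b))
        (by rw [Ne, MvPolynomial.C_eq_zero]; exact hbK)
      rw [← hkey, he, map_mul, MvPolynomial.C_mul, mul_assoc]
    have heK : algebraMap R K e ≠ 0 := by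
      intro h
      rw [he, map_mul, h, mul_zero] at hlK
      exact hlK rfl
    have hz : MvPolynomial.map (residue R) c₂ = 0 := by
      refine MvPolynomial.eq_zero_of_eval_zero_at_prod_finset _ (fun _ => G.image (residue R)) (fun i => ?_) ?_
      · rw [Finset.card_image_of_injOn hG]
        refine lt_of_le_of_lt ?_ (hdeg i)
        have h2 : (MvPolynomial.map (residue R) c₂).degreeOf i ≤ c₂.degreeOf i := by
          rw [MvPolynomial.degreeOf_eq_sup, MvPolynomial.degreeOf_eq_sup]
          exact Finset.sup_mono (MvPolynomial.support_map_subset _ _)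
        refine h2.trans ?_
        rw [MvPolynomial.degreeOf_eq_sup, MvPolynomial.degreeOf_eq_sup]
        refine Finset.sup_mono fun t ht => ?_
        rw [MvPolynomial.mem_support_iff] at ht ⊢
        intro h3
        apply ht
        have h4 := congrArg (MvPolynomial.coeff t) hkey2
        rw [MvPolynomial.coeff_C_mul, h3, mul_zero, MvPolynomial.coeff_map] at h4
        exact IsFractionRing.injective R K (h4.symm.trans (map_zero _).symm)
      · intro x hx
        choose a ha hax using fun i => Finset.mem_image.1 (hx i)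
        obtain ⟨r, hr⟩ := hval a ha
        have h5 := congrArg (MvPolynomial.eval (fun i => algebraMap R K (a i))) hkey2
        rw [map_mul, MvPolynomial.eval_C, ← hr, ← map_mul] at h5
        have h6 : MvPolynomial.eval (fun i => algebraMap R K (a i)) (MvPolynomial.map (algebraMap R K) c₂) =
            algebraMap R K (MvPolynomial.eval a c₂) := (MvPolynomial.map_eval (algebraMap R K) a c₂).symm
        rw [h6] at h5
        have h7 : MvPolynomial.eval a c₂ = e * r := (IsFractionRing.injective R K h5).symm
        have h8 : x = residue R ∘ a := funext fun i => (hax i).symm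
        rw [h8, ← MvPolynomial.map_eval (residue R) a c₂, h7, map_mul]
        have h9 : residue R e = 0 := (residue_eq_zero_iff e).2 ((mem_maximalIdeal e).2 heu)
        rw [h9, zero_mul]
    have h7 := RFGauss.map_residue_ne_zero_iff.2 ⟨s, hs ▸ isUnit_one⟩
    exact h7 hz

end Grid

end K263.RFPoints
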