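import Mathlib.FieldTheory.PurelyInseparable.Basic
import Mathlib.RingTheory.Valuation.ValuationRing
import Mathlib.RingTheory.Flat.TorsionFree
import Mathlib.RingTheory.Flat.FaithfullyFlat.Algebra
import Mathlib.RingTheory.IntegralClosure.IntegrallyClosed
import Mathlib.RingTheory.Localization.Integral
import Groth.Agent.FlatMor.K263.RFGauss

/-!
# Descent of finiteness of the integral closure to a separably closed fraction field
-/

set_option autoImplicit false
universe u v w

open scoped TensorProduct
open IsLocalRing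

namespace K263.RFSep

/-- Abstract descent. -/
theorem finite_descend {A A' V V' : Type*} [CommRing A] [CommRing A'] [CommRing V] [CommRing V']
    [Algebra A A'] [Algebra A V] [Algebra A V'] [Algebra A' V'] [Algebra V V']
    [IsScalarTower A A' V'] [IsScalarTower A V V'] (S : Submonoid A)
    (hV' : ∀ v : V', ∃ a : A', ∃ c ∈ S, algebraMap A V' c * v = algebraMap A' V' a)
    (hS : ∀ c ∈ S, IsUnit (algebraMap A V c))
    (h1 : ∀ a' : A', ∀ c ∈ S, ∃ a : A, ∃ b' : A', a' = algebraMap A A' a + algebraMap A A' c * b')
    (h2 : Algebra.IsIntegral A A')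
    (h3 : ∀ v : V, ∀ a' : A', algebraMap V V' v = algebraMap A' V' a' → ∃ a, algebraMap A V a = v)
    (h4 : Function.Injective (algebraMap V V'))
    (hfin : Module.Finite A' (integralClosure A' V')) : Module.Finite A (integralClosure A V) := by
  classical
  -- elements of `V` which are integral over `A'`
  have hint : ∀ v : V, IsIntegral A' (algebraMap V V' v) → IsIntegral A v := by
    intro v hv
    have h5 : IsIntegral A (algebraMap V V' v) := isIntegral_trans (A := A') _ hv
    exact (isIntegral_algebraMap_iff h4).1 h5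
  have hint' : ∀ v : V, IsIntegral A v → IsIntegral A' (algebraMap V V' v) := by
    intro v hv
    exact (hv.algebraMap (B := V')).tower_top
  obtain ⟨G, hG⟩ := hfin.fg_top
  -- common denominator
  have hc : ∃ c ∈ S, ∀ g ∈ G, ∃ a : A', algebraMap A V' c * (g : V') = algebraMap A' V' a := by
    clear hG
    induction G using Finset.induction_on with
    | empty => exact ⟨1, S.one_mem, fun g hg => absurd hg (Finset.notMem_empty g)⟩
    | insert g₀ G _ ih =>
      obtain ⟨c, hc, h⟩ := ih
      obtain ⟨a, d, hd, h'⟩ := hV' (g₀ : V')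
      refine ⟨c * d, S.mul_mem hc hd, fun g hg => ?_⟩
      rcases Finset.mem_insert.1 hg with rfl | hg
      · refine ⟨algebraMap A A' c * a, ?_⟩
        rw [map_mul, mul_assoc, h', map_mul, ← IsScalarTower.algebraMap_apply]
      · obtain ⟨b, hb⟩ := h g hg
        refine ⟨algebraMap A A' d * b, ?_⟩
        rw [mul_comm c d, map_mul, mul_assoc, hb, map_mul, ← IsScalarTower.algebraMap_apply]
  obtain ⟨c, hc, hcG⟩ := hc
  obtain ⟨u, hu⟩ := hS c hc
  have hcu : algebraMap V V' (↑u⁻¹ : V) * algebraMap A V' c = 1 := by
    rw [IsScalarTower.algebraMap_apply A V V', ← map_mul, ← hu, Units.inv_mul, map_one]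
  -- approximations of the generators
  have hex : ∀ g ∈ G, ∃ e : V, ∃ b' : A', (g : V') = algebraMap V V' e + algebraMap A' V' b' := by
    intro g hg
    obtain ⟨a', ha'⟩ := hcG g hg
    obtain ⟨a, b', hab⟩ := h1 a' c hc
    refine ⟨↑u⁻¹ * algebraMap A V a, b', ?_⟩
    have h5 : (g : V') = algebraMap V V' (↑u⁻¹ : V) * algebraMap A' V' a' := by
      rw [← ha', ← mul_assoc, hcu, one_mul]
    rw [h5, hab, map_add, mul_add, map_mul, map_mul, ← IsScalarTower.algebraMap_apply A A' V',
      ← IsScalarTower.algebraMap_apply A V V', ← IsScalarTower.algebraMap_apply A A' V', ← mul_assoc _ _ (algebraMap A' V' b'), hcu,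
      one_mul]
  choose! e b' heb using hex
  have heint : ∀ g ∈ G, IsIntegral A (e g) := by
    intro g hg
    refine hint _ ?_
    have h5 : algebraMap V V' (e g) = (g : V') - algebraMap A' V' (b' g) := by rw [heb g hg]; ring
    rw [h5]
    exact IsIntegral.sub g.2 isIntegral_algebraMap
  -- elements of `c • A'°`
  have hcA : ∀ x : V', IsIntegral A' x → ∃ a : A', algebraMap A V' c * x = algebraMap A' V' a := by
    intro x hx
    have hx' : (⟨x, hx⟩ : integralClosure A' V') ∈ Submodule.span A' (G : Set (integralClosure A' V')) := by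
      rw [hG]; trivial
    have h6 : ∀ y ∈ Submodule.span A' (G : Set (integralClosure A' V')),
        ∃ a : A', algebraMap A V' c * (y : V') = algebraMap A' V' a := by
      intro y hy
      induction hy using Submodule.span_induction with
      | mem g hg => exact hcG g hg
      | zero => exact ⟨0, by rw [map_zero]; exact mul_zero _⟩
      | add y z _ _ hy hz =>
        obtain ⟨a, ha⟩ := hy
        obtain ⟨b, hb⟩ := hz
        exact ⟨a + b, by rw [map_add, ← ha, ← hb, ← mul_add]; rfl⟩
      | smul r y _ hy =>
        obtain ⟨a, ha⟩ := hy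
        refine ⟨r * a, ?_⟩
        have h7 : ((r • y : integralClosure A' V') : V') = algebraMap A' V' r * (y : V') := by
          rw [← Algebra.smul_def]; rfl
        rw [h7, map_mul, ← ha]; ring
    exact h6 _ hx'
  -- the generators
  let E : integralClosure A' V' → integralClosure A V := fun g => if hg : g ∈ G then ⟨e g, heint g hg⟩ else 0
  have hE : ∀ g ∈ G, ((E g : integralClosure A V) : V) = e g := by
    intro g hg
    simp only [E, dif_pos hg]
  refine ⟨⟨insert 1 (G.image E), ?_⟩⟩
  rw [eq_top_iff]
  rintro ⟨f, hf⟩ -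
  have hf' : (⟨algebraMap V V' f, hint' f hf⟩ : integralClosure A' V') ∈
      Submodule.span A' (G : Set (integralClosure A' V')) := by
    rw [hG]; trivial
  obtain ⟨x, hx⟩ := (Submodule.mem_span_finset.1 hf')
  have hx1 : (algebraMap V V' f) = ∑ g ∈ G, algebraMap A' V' (x g) * (g : V') := by
    have h7 := congrArg (fun z : integralClosure A' V' => (z : V')) hx.2
    simp only at h7
    rw [← h7]
    rw [AddSubmonoidClass.coe_finsetSum]
    refine Finset.sum_congr rfl fun g _ => ?_
    rw [← Algebra.smul_def]; rfl
  have hx2 : ∀ g, ∃ y : A, ∃ z : A', x g = algebraMap A A' y + algebraMap A A' c * z := fun g => h1 (x g) c hc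
  choose y z hyz using hx2
  -- the remainder is in `A`
  have hrem : ∃ a : A, algebraMap A V a = f - ∑ g ∈ G, algebraMap A V (y g) * e g := by
    have h8 : ∀ g ∈ G, ∃ a : A', algebraMap A V' c * algebraMap V V' (e g) = algebraMap A' V' a :=
      fun g hg => hcA _ (hint' _ (heint g hg))
    choose! w hw using h8
    refine h3 _ (∑ g ∈ G, (x g * b' g + z g * w g)) ?_
    rw [map_sub, hx1, map_sum, map_sum, ← Finset.sum_sub_distrib]
    refine Finset.sum_congr rfl fun g hg => ?_
    rw [map_mul, map_add, map_mul, map_mul, ← hw g hg]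
    nth_rewrite 1 [heb g hg]
    rw [mul_add]
    nth_rewrite 1 [hyz g]
    rw [map_add, map_mul, ← IsScalarTower.algebraMap_apply A A' V', ← IsScalarTower.algebraMap_apply A A' V',
      ← IsScalarTower.algebraMap_apply A V V']
    ring
  obtain ⟨a, ha⟩ := hrem
  have hfin : (⟨f, hf⟩ : integralClosure A V) = a • (1 : integralClosure A V) + ∑ g ∈ G, y g • E g := by
    apply Subtype.ext
    have h9 : ((a • (1 : integralClosure A V) + ∑ g ∈ G, y g • E g : integralClosure A V) : V) =
        algebraMap A V a + ∑ g ∈ G, algebraMap A V (y g) * e g := by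
      rw [AddMemClass.coe_add, AddSubmonoidClass.coe_finsetSum]
      congr 1
      · rw [← mul_one (algebraMap A V a), ← Algebra.smul_def]; rfl
      · refine Finset.sum_congr rfl fun g hg => ?_
        rw [← hE g hg, ← Algebra.smul_def]; rfl
    rw [h9, ha]; ring
  rw [hfin]
  refine Submodule.add_mem _ (Submodule.smul_mem _ _ (Submodule.subset_span ?_))
    (Submodule.sum_mem _ fun g hg => Submodule.smul_mem _ _ (Submodule.subset_span ?_))
  · simp
  · rw [Finset.coe_insert, Finset.coe_image]
    exact Set.mem_insert_of_mem _ ⟨g, hg, rfl⟩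

section Concrete

variable (R K L : Type u) [CommRing R] [IsDomain R] [Field K] [Algebra R K] [IsFractionRing R K]
  [Field L] [Algebra K L] [Algebra R L] [IsScalarTower R K L] [Algebra.IsAlgebraic K L]

include K in
theorem isAlgebraic : Algebra.IsAlgebraic R L := (IsFractionRing.comap_isAlgebraic_iff (A := R) (K := K)).mpr ‹_›

include K in
theorem injective : Function.Injective (algebraMap R L) := by
  rw [IsScalarTower.algebraMap_eq R K L]
  exact (algebraMap K L).injective.comp (IsFractionRing.injective R K)

include K in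
theorem isFractionRing : IsFractionRing (integralClosure R L) L := by
  have := isAlgebraic R K L
  exact integralClosure.isFractionRing_of_algebraic (A := R) (L := L)
    (fun x hx => injective R K L (by rw [hx, map_zero]))

variable [ValuationRing R] [IsSepClosed K]

include K in
theorem exists_pow (q : ℕ) [ExpChar K q] (x : integralClosure R L) :
    ∃ n : ℕ, ∃ a : R, (x : L) ^ q ^ n = algebraMap R L a := by
  have : IsPurelyInseparable K L := inferInstance
  obtain ⟨n, y, hy⟩ := IsPurelyInseparable.pow_mem K q (x : L)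
  have hy2 : IsIntegral R y := by
    rw [← isIntegral_algebraMap_iff (algebraMap K L).injective]
    have h3 : (algebraMap K L) y = (x : L) ^ q ^ n := hy
    rw [h3]
    exact x.2.pow _
  have := RFGauss.isIntegrallyClosed_of_valuationRing R
  obtain ⟨a, ha⟩ := IsIntegrallyClosed.isIntegral_iff.1 hy2
  refine ⟨n, a, ?_⟩
  rw [IsScalarTower.algebraMap_apply R K L, ha]
  exact hy.symm

include K in
/-- density of `R` in its integral closure -/
theorem exists_approx (x : integralClosure R L) (c : R) (hc : c ≠ 0) :
    ∃ a : R, ∃ b : integralClosure R L,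
      x = algebraMap R (integralClosure R L) a + algebraMap R (integralClosure R L) c * b := by
  obtain ⟨q, hq⟩ := ExpChar.exists K
  obtain ⟨n, a, ha⟩ := exists_pow R K L q x
  have triv : ∀ a : R, (x : L) = algebraMap R L a → ∃ a : R, ∃ b : integralClosure R L,
      x = algebraMap R (integralClosure R L) a + algebraMap R (integralClosure R L) c * b := by
    intro a h
    refine ⟨a, 0, ?_⟩
    rw [mul_zero, add_zero]
    exact Subtype.ext h
  rcases hq with _ | hp
  · exact triv a (by rw [← ha, one_pow, pow_one])
  rcases Nat.eq_zero_or_pos n with rfl | hn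
  · exact triv a (by rw [← ha, pow_zero, pow_one])
  have hq2 : 2 ≤ q ^ n := le_trans hp.two_le (Nat.le_self_pow hn.ne' q)
  have hqd : q ∣ q ^ n := dvd_pow_self q hn.ne'
  have hc' : algebraMap R K c ^ q ^ n ≠ 0 := pow_ne_zero _ (fun h => hc ((IsFractionRing.injective R K) (by rw [h, map_zero])))
  obtain ⟨y, hy⟩ := IsSepClosed.exists_root_C_mul_X_pow_add_C_mul_X_add_C' q (q ^ n) (1 : K)
    (algebraMap R K c ^ q ^ n) (- algebraMap R K a) hqd hq2 hc'
  have := RFGauss.isIntegrallyClosed_of_valuationRing R
  have hyint : IsIntegral R y := by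
    refine ⟨Polynomial.X ^ q ^ n + (Polynomial.C (c ^ q ^ n) * Polynomial.X + Polynomial.C (-a)), ?_, ?_⟩
    · refine Polynomial.monic_X_pow_add ?_
      refine lt_of_le_of_lt (Polynomial.degree_linear_le) ?_
      exact_mod_cast hq2
    · simp only [Polynomial.eval₂_add, Polynomial.eval₂_mul, Polynomial.eval₂_pow, Polynomial.eval₂_X,
        Polynomial.eval₂_C, map_pow, map_neg, Polynomial.eval₂_neg]
      rw [← hy]; ring
  obtain ⟨y, rfl⟩ := IsIntegrallyClosed.isIntegral_iff.1 hyint
  have hcL : algebraMap R L c ≠ 0 := fun h => hc (injective R K L (by rw [h, map_zero]))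
  have hy' : algebraMap R L y ^ q ^ n + algebraMap R L c ^ q ^ n * algebraMap R L y - algebraMap R L a = 0 := by
    have := congrArg (algebraMap K L) hy
    simp only [map_add, map_mul, map_pow, map_neg, map_one, map_zero, ← IsScalarTower.algebraMap_apply] at this
    rw [← this]; ring
  have : CharP L q := charP_of_injective_algebraMap (algebraMap K L).injective q
  have : Fact q.Prime := ⟨hp⟩
  have hb : (((x : L) - algebraMap R L y) / algebraMap R L c) ^ q ^ n = algebraMap R L y := by
    rw [div_pow, sub_pow_char_pow, ha, div_eq_iff (pow_ne_zero _ hcL)]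
    linear_combination (-1 : L) * hy'
  refine ⟨y, ⟨((x : L) - algebraMap R L y) / algebraMap R L c, ?_⟩, ?_⟩
  · exact IsIntegral.of_pow (n := q ^ n) (by omega) (by rw [hb]; exact isIntegral_algebraMap)
  · apply Subtype.ext
    have h5 : ∀ r : R, ((algebraMap R (integralClosure R L) r : integralClosure R L) : L) = algebraMap R L r :=
      fun r => rfl
    rw [AddMemClass.coe_add, MulMemClass.coe_mul, h5, h5, mul_div_cancel₀ _ hcL]
    ring

include K in
theorem valuationRing : ValuationRing (integralClosure R L) := by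
  have := isFractionRing R K L
  rw [ValuationRing.iff_isInteger_or_isInteger (integralClosure R L) L]
  intro x
  obtain ⟨q, hq⟩ := ExpChar.exists K
  have : IsPurelyInseparable K L := inferInstance
  obtain ⟨n, y, hy⟩ := IsPurelyInseparable.pow_mem K q x
  have hqn : 0 < q ^ n := Nat.pos_of_ne_zero (pow_ne_zero _ (expChar_pos K q).ne')
  have key : ∀ x : L, ∀ y : K, algebraMap K L y = x ^ q ^ n → IsLocalization.IsInteger R y →
      IsLocalization.IsInteger (integralClosure R L) x := by
    rintro x y hy ⟨z, rfl⟩
    refine ⟨⟨x, IsIntegral.of_pow hqn ?_⟩, rfl⟩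
    rw [← hy]
    exact isIntegral_algebraMap.map (IsScalarTower.toAlgHom R K L)
  rcases (ValuationRing.iff_isInteger_or_isInteger R K).1 ‹_› y with h | h
  · exact Or.inl (key x y hy h)
  · refine Or.inr (key x⁻¹ y⁻¹ ?_ h)
    rw [map_inv₀, inv_pow]
    exact congrArg _ hy

include K in
theorem comap_injective : Function.Injective (PrimeSpectrum.comap (algebraMap R (integralClosure R L))) := by
  obtain ⟨q, hq⟩ := ExpChar.exists K
  have hle : ∀ P Q : PrimeSpectrum (integralClosure R L),
      PrimeSpectrum.comap (algebraMap R (integralClosure R L)) P =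
        PrimeSpectrum.comap (algebraMap R (integralClosure R L)) Q → P.asIdeal ≤ Q.asIdeal := by
    intro P Q h x hx
    obtain ⟨n, a, ha⟩ := exists_pow R K L q x
    have hqn : 0 < q ^ n := Nat.pos_of_ne_zero (pow_ne_zero _ (expChar_pos K q).ne')
    have ha' : x ^ q ^ n = algebraMap R (integralClosure R L) a := Subtype.ext (by
      rw [SubmonoidClass.coe_pow, ha]; rfl)
    have h1 : a ∈ (PrimeSpectrum.comap (algebraMap R (integralClosure R L)) P).asIdeal := by
      rw [PrimeSpectrum.comap_asIdeal, Ideal.mem_comap, ← ha']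
      exact Ideal.pow_mem_of_mem _ hx _ hqn
    rw [h, PrimeSpectrum.comap_asIdeal, Ideal.mem_comap, ← ha'] at h1
    exact Q.2.mem_of_pow_mem _ h1
  intro P Q h
  exact PrimeSpectrum.ext (le_antisymm (hle P Q h) (hle Q P h.symm))

include K in
theorem finite_primeSpectrum [Finite (PrimeSpectrum R)] : Finite (PrimeSpectrum (integralClosure R L)) :=
  Finite.of_injective _ (comap_injective R K L)

include K in
theorem faithfullyFlat : Module.FaithfullyFlat R (integralClosure R L) := by
  have hinj : Function.Injective (algebraMap R (integralClosure R L)) := by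
    intro a b h
    exact injective R K L (congrArg Subtype.val h)
  have : Module.Flat R (integralClosure R L) := by
    rw [Module.Flat.flat_iff_torsion_eq_bot_of_isBezout, eq_bot_iff]
    rintro x ⟨r, hr⟩
    rw [Submodule.mem_bot]
    have h2 : algebraMap R (integralClosure R L) (r : R) * x = 0 := by
      rw [← Algebra.smul_def]; exact hr
    rcases mul_eq_zero.1 h2 with h3 | h3
    · exact absurd (hinj (by rw [h3, map_zero])) (nonZeroDivisors.ne_zero r.2)
    · exact h3
  refine Module.FaithfullyFlat.of_comap_surjective ?_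
  have : Algebra.IsIntegral R (integralClosure R L) := inferInstance
  have : FaithfulSMul R (integralClosure R L) := (faithfulSMul_iff_algebraMap_injective _ _).2 hinj
  exact Algebra.IsIntegral.comap_surjective _ _

end Concrete

section Main

variable (R K L : Type u) [CommRing R] [IsDomain R] [Field K] [Algebra R K] [IsFractionRing R K]
  [Field L] [Algebra K L] [Algebra R L] [IsScalarTower R K L] [Algebra.IsAlgebraic K L]
  [ValuationRing R] [IsSepClosed K]

open scoped nonZeroDivisors

theorem smul_eq_zero_of_flat (R' A' : Type*) [CommRing R'] [CommRing A'] [Algebra R' A']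
    [Module.Flat R' A'] (r : R') (hr : r ∈ R'⁰) (x : A') (h : algebraMap R' A' r * x = 0) : x = 0 := by
  have h1 := Module.Flat.isSMulRegular_of_nonZeroDivisors (M := A') hr
  refine h1 (?_ : r • x = r • 0)
  rw [smul_zero, Algebra.smul_def, h]

theorem exists_of_tmul_eq (R R' A : Type u) [CommRing R] [CommRing R'] [Algebra R R'] [CommRing A] [Algebra R A]
    [Module.FaithfullyFlat R R'] (c : R) (a : A) (x : R' ⊗[R] A)
    (h : (1 : R') ⊗ₜ[R] a = c • x) : ∃ b, a = c • b := by
  let I : Submodule R A := LinearMap.range (LinearMap.lsmul R A c)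
  have h1 : (1 : R') ⊗ₜ[R] (I.mkQ a) = 0 := by
    have h2 := congrArg (LinearMap.lTensor R' I.mkQ) h
    rw [LinearMap.lTensor_tmul] at h2
    rw [h2, map_smul]
    generalize LinearMap.lTensor R' I.mkQ x = y
    induction y using TensorProduct.induction_on with
    | zero => rw [smul_zero]
    | add y z hy hz => rw [smul_add, hy, hz, add_zero]
    | tmul r m =>
      obtain ⟨m, rfl⟩ := I.mkQ_surjective m
      rw [← TensorProduct.tmul_smul, ← map_smul]
      have h3 : I.mkQ (c • m) = 0 := by
        rw [Submodule.mkQ_apply, Submodule.Quotient.mk_eq_zero]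
        exact ⟨m, rfl⟩
      rw [h3, TensorProduct.tmul_zero]
  rw [Module.FaithfullyFlat.one_tmul_eq_zero_iff, Submodule.mkQ_apply, Submodule.Quotient.mk_eq_zero] at h1
  obtain ⟨b, hb⟩ := h1
  exact ⟨b, hb.symm⟩

include K in
theorem finite_of_finite (A V V' : Type u) [CommRing A] [Algebra R A] [Module.Flat R A] [CommRing V] [Algebra A V]
    [IsLocalization (Algebra.algebraMapSubmonoid A R⁰) V]
    [CommRing V'] [Algebra ((integralClosure R L) ⊗[R] A) V']
    [IsLocalization (Algebra.algebraMapSubmonoid ((integralClosure R L) ⊗[R] A) (integralClosure R L)⁰) V']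
    (hfin : Module.Finite ((integralClosure R L) ⊗[R] A)
      (integralClosure ((integralClosure R L) ⊗[R] A) V')) :
    Module.Finite A (integralClosure A V) := by
  have hff := faithfullyFlat R K L
  have hLinj := injective R K L
  have hRinj : Function.Injective (algebraMap R (integralClosure R L)) := by
    intro a b h
    exact hLinj (congrArg Subtype.val h)
  have hR0 : ∀ c : R, c ∈ R⁰ → algebraMap R (integralClosure R L) c ∈ (integralClosure R L)⁰ := by
    intro c hc
    refine mem_nonZeroDivisors_of_ne_zero fun h => nonZeroDivisors.ne_zero hc (hRinj (by rw [h, map_zero]))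
  -- algebra structures
  let i : A →ₐ[R] (integralClosure R L) ⊗[R] A := Algebra.TensorProduct.includeRight
  algebraize_only [i.toRingHom]
  have hi : ∀ a, algebraMap A ((integralClosure R L) ⊗[R] A) a = (1 : (integralClosure R L)) ⊗ₜ[R] a := fun a => rfl
  let j : A →+* V' := (algebraMap ((integralClosure R L) ⊗[R] A) V').comp (algebraMap A ((integralClosure R L) ⊗[R] A))
  have hiR : ∀ c : R, algebraMap A ((integralClosure R L) ⊗[R] A) (algebraMap R A c) = algebraMap (integralClosure R L) ((integralClosure R L) ⊗[R] A) (algebraMap R (integralClosure R L) c) := by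
    intro c
    rw [hi, Algebra.TensorProduct.algebraMap_apply]
    rw [Algebra.algebraMap_eq_smul_one, Algebra.algebraMap_eq_smul_one (A := (integralClosure R L)), TensorProduct.tmul_smul,
      TensorProduct.smul_tmul', algebraMap_smul]
  have hunit : ∀ y : Algebra.algebraMapSubmonoid A R⁰, IsUnit (j y) := by
    rintro ⟨_, c, hc, rfl⟩
    have h1 : j (algebraMap R A c) = algebraMap ((integralClosure R L) ⊗[R] A) V' (algebraMap (integralClosure R L) ((integralClosure R L) ⊗[R] A) (algebraMap R (integralClosure R L) c)) := by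
      rw [← hiR]; rfl
    simp only
    rw [h1]
    exact IsLocalization.map_units V' (⟨_, _, hR0 c hc, rfl⟩ :
      Algebra.algebraMapSubmonoid ((integralClosure R L) ⊗[R] A) (integralClosure R L)⁰)
  let l : V →+* V' := IsLocalization.lift hunit
  algebraize_only [j, l]
  have t1 : IsScalarTower A ((integralClosure R L) ⊗[R] A) V' := IsScalarTower.of_algebraMap_eq' rfl
  have t2 : IsScalarTower A V V' := IsScalarTower.of_algebraMap_eq' (IsLocalization.lift_comp hunit).symm
  -- injectivity of A' → V'
  have hA' : ∀ x : (integralClosure R L) ⊗[R] A, algebraMap ((integralClosure R L) ⊗[R] A) V' x = 0 → x = 0 := by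
    intro x hx
    obtain ⟨⟨_, r, hr, rfl⟩, h⟩ := (IsLocalization.map_eq_zero_iff (Algebra.algebraMapSubmonoid ((integralClosure R L) ⊗[R] A) (integralClosure R L)⁰) V' x).1 hx
    exact smul_eq_zero_of_flat (integralClosure R L) ((integralClosure R L) ⊗[R] A) r hr x h
  have hAA' : ∀ a : A, algebraMap A ((integralClosure R L) ⊗[R] A) a = 0 → a = 0 := by
    intro a ha
    rw [hi] at ha
    exact (Module.FaithfullyFlat.one_tmul_eq_zero_iff R A a).1 ha
  have hfrac : ∀ v : V, ∃ a : A, ∃ c : R, c ∈ R⁰ ∧ algebraMap A V (algebraMap R A c) * v = algebraMap A V a := by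
    intro v
    obtain ⟨⟨a, ⟨_, c, hc, rfl⟩⟩, h⟩ := IsLocalization.surj (Algebra.algebraMapSubmonoid A R⁰) v
    exact ⟨a, c, hc, by rw [mul_comm]; exact h⟩
  refine finite_descend (A' := (integralClosure R L) ⊗[R] A) (V' := V') (Algebra.algebraMapSubmonoid A R⁰) ?_ ?_ ?_ ?_ ?_ ?_ hfin
  · intro v
    obtain ⟨⟨a, ⟨_, r, hr, rfl⟩⟩, h⟩ := IsLocalization.surj (Algebra.algebraMapSubmonoid ((integralClosure R L) ⊗[R] A) (integralClosure R L)⁰) v
    simp only at h
    obtain ⟨q, hq⟩ := ExpChar.exists K
    obtain ⟨n, c, hc⟩ := exists_pow R K L q r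
    have hqn : 0 < q ^ n := Nat.pos_of_ne_zero (pow_ne_zero _ (expChar_pos K q).ne')
    have hc' : algebraMap R (integralClosure R L) c = r ^ q ^ n := Subtype.ext (by rw [SubmonoidClass.coe_pow, hc]; rfl)
    have hc0 : c ∈ R⁰ := by
      refine mem_nonZeroDivisors_of_ne_zero fun h0 => ?_
      rw [h0, map_zero] at hc'
      exact nonZeroDivisors.ne_zero hr (pow_eq_zero_iff hqn.ne' |>.1 hc'.symm)
    refine ⟨algebraMap (integralClosure R L) _ (r ^ (q ^ n - 1)) * a, algebraMap R A c, ⟨c, hc0, rfl⟩, ?_⟩
    rw [IsScalarTower.algebraMap_apply A ((integralClosure R L) ⊗[R] A) V', hiR, hc', map_mul, ← h,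
      ← Nat.succ_pred_eq_of_pos hqn, pow_succ, map_mul, map_mul, Nat.succ_pred_eq_of_pos hqn, Nat.pred_eq_sub_one]
    ring
  · rintro _ ⟨c, hc, rfl⟩
    exact IsLocalization.map_units V (⟨_, c, hc, rfl⟩ : Algebra.algebraMapSubmonoid A R⁰)
  · rintro x _ ⟨c, hc, rfl⟩
    induction x using TensorProduct.induction_on with
    | zero => exact ⟨0, 0, by rw [map_zero, mul_zero, add_zero]⟩
    | add x y hx hy =>
      obtain ⟨a, b, rfl⟩ := hx
      obtain ⟨a', b', rfl⟩ := hy
      exact ⟨a + a', b + b', by rw [map_add]; ring⟩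
    | tmul r a =>
      obtain ⟨s, t, hst⟩ := exists_approx R K L r c (nonZeroDivisors.ne_zero hc)
      refine ⟨s • a, t ⊗ₜ a, ?_⟩
      have e1 : (algebraMap R (integralClosure R L) s) ⊗ₜ[R] a = (1 : (integralClosure R L)) ⊗ₜ[R] (s • a) := by
        rw [Algebra.algebraMap_eq_smul_one, TensorProduct.smul_tmul]
      rw [hiR, Algebra.TensorProduct.algebraMap_apply, Algebra.TensorProduct.tmul_mul_tmul, one_mul, hi, ← e1, hst,
        TensorProduct.add_tmul]
      rfl
  · refine ⟨fun x => ?_⟩
    induction x using TensorProduct.induction_on with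
    | zero => exact isIntegral_zero
    | add x y hx hy => exact hx.add hy
    | tmul r a =>
      have h1 : r ⊗ₜ[R] a = (r ⊗ₜ[R] (1 : A)) * algebraMap A ((integralClosure R L) ⊗[R] A) a := by
        rw [hi, Algebra.TensorProduct.tmul_mul_tmul, one_mul, mul_one]
      rw [h1]
      refine IsIntegral.mul ?_ isIntegral_algebraMap
      have h2 : IsIntegral R r := Algebra.IsIntegral.isIntegral r
      have t3 : IsScalarTower R A ((integralClosure R L) ⊗[R] A) := IsScalarTower.of_algebraMap_eq fun c => by
        rw [hiR]; rfl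
      have h3 : IsIntegral R (r ⊗ₜ[R] (1 : A)) := h2.map (Algebra.TensorProduct.includeLeft : (integralClosure R L) →ₐ[R] (integralClosure R L) ⊗[R] A)
      exact h3.tower_top
  · intro v x hvx
    obtain ⟨a, c, hc, hv⟩ := hfrac v
    have h1 : algebraMap ((integralClosure R L) ⊗[R] A) V' (algebraMap A _ a - algebraMap A _ (algebraMap R A c) * x) = 0 := by
      rw [map_sub, map_mul, ← hvx, ← IsScalarTower.algebraMap_apply, ← IsScalarTower.algebraMap_apply,
        IsScalarTower.algebraMap_apply A V V', IsScalarTower.algebraMap_apply A V V', ← map_mul, ← map_sub, hv,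
        sub_self, map_zero]
    have h2 := sub_eq_zero.1 (hA' _ h1)
    rw [hi] at h2
    obtain ⟨b, hb⟩ := exists_of_tmul_eq R (integralClosure R L) A c a x (by
      rw [h2, hiR, ← Algebra.smul_def, ← algebraMap_smul (integralClosure R L) c x])
    refine ⟨b, ?_⟩
    have hu := IsLocalization.map_units V (⟨_, c, hc, rfl⟩ : Algebra.algebraMapSubmonoid A R⁰)
    refine hu.mul_left_cancel ?_
    simp only
    rw [hv, hb, Algebra.smul_def, map_mul]
  · rw [injective_iff_map_eq_zero]
    intro v hv
    obtain ⟨a, c, hc, h⟩ := hfrac v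
    have h1 : algebraMap ((integralClosure R L) ⊗[R] A) V' (algebraMap A _ a) = 0 := by
      rw [← IsScalarTower.algebraMap_apply, IsScalarTower.algebraMap_apply A V V', ← h, map_mul, hv, mul_zero]
    have h2 := hAA' _ (hA' _ h1)
    have hu := IsLocalization.map_units V (⟨_, c, hc, rfl⟩ : Algebra.algebraMapSubmonoid A R⁰)
    refine hu.mul_left_cancel ?_
    simp only
    rw [h, h2, map_zero, mul_zero]

end Main

end K263.RFSep
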