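import Groth.Agent.FlatMor.K263.RFDom
import Groth.Agent.FlatMor.K263.RFSep
import Groth.Agent.FlatMor.K442.Vals
import Groth.Agent.FlatMor.K667.Short
import Groth.Agent.FlatMor.K365.FinRed

/-!
# The reduced fibre theorem over valuation rings with separably closed fraction field
-/

set_option autoImplicit false
universe u
open TensorProduct
open scoped nonZeroDivisors

namespace K263.RFTop

theorem finite (R : Type u) [CommRing R] [IsDomain R] [ValuationRing R] [Finite (PrimeSpectrum R)]
    [IsSepClosed (FractionRing R)]
    (A : Type u) [CommRing A] [Algebra R A] [Module.Flat R A] [Algebra.FiniteType R A]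
    (hred : ∀ (E : Type u) [Field E] [Algebra R E], Function.Injective (algebraMap R E) →
      IsReduced (E ⊗[R] A))
    (V : Type u) [CommRing V] [Algebra A V] [IsLocalization (Algebra.algebraMapSubmonoid A (nonZeroDivisors R)) V] :
    Module.Finite A (integralClosure A V) := by
  let K := FractionRing R
  let L := AlgebraicClosure K
  have t1 : IsScalarTower R K L := inferInstance
  let R' := integralClosure R L
  have i1 : ValuationRing R' := RFSep.valuationRing R K L
  have i2 : Finite (PrimeSpectrum R') := RFSep.finite_primeSpectrum R K L
  have i3 : IsFractionRing R' L := RFSep.isFractionRing R K L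
  have i4 : IsAlgClosed (FractionRing R') :=
    IsAlgClosed.of_ringEquiv L (FractionRing R') (IsLocalization.algEquiv (nonZeroDivisors R') L (FractionRing R')).toRingEquiv
  have hinjR : Function.Injective (algebraMap R R') := by
    intro a b h
    exact RFSep.injective R K L (congrArg Subtype.val h)
  let A' := R' ⊗[R] A
  let V' := Localization (Algebra.algebraMapSubmonoid A' (nonZeroDivisors R'))
  have h1 : Module.Finite A' (integralClosure A' V') := by
    have hV' : IsReduced V' := by
      have t2 : IsScalarTower R R' (FractionRing R') := inferInstance
      have h2 : IsReduced (FractionRing R' ⊗[R] A) := hred (FractionRing R') (by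
        rw [IsScalarTower.algebraMap_eq R R' (FractionRing R')]
        exact (IsFractionRing.injective R' (FractionRing R')).comp hinjR)
      let e : FractionRing R' ⊗[R'] (R' ⊗[R] A) ≃ₐ[FractionRing R'] FractionRing R' ⊗[R] A :=
        Algebra.TensorProduct.cancelBaseChange R R' (FractionRing R') (FractionRing R') A
      have h3 : IsReduced (FractionRing R' ⊗[R'] (R' ⊗[R] A)) := isReduced_of_injective e.toRingEquiv.toRingHom e.injective
      have h4 : IsReduced (A' ⊗[R'] FractionRing R') :=
        isReduced_of_injective (Algebra.TensorProduct.comm R' A' (FractionRing R')).toRingEquiv.toRingHom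
          (Algebra.TensorProduct.comm R' A' (FractionRing R')).injective
      let e2 : V' ≃ₐ[A'] A' ⊗[R'] FractionRing R' :=
        IsLocalization.algEquiv (Algebra.algebraMapSubmonoid A' (nonZeroDivisors R')) V' (A' ⊗[R'] FractionRing R')
      exact isReduced_of_injective e2.toRingEquiv.toRingHom e2.injective
    refine K365.FinRed.finite_of_forall_isDomain R' ?_ A' V'
    intro A _ _ _ _ hinj B _ _ _
    exact RFDom.finite_of_isDomain R' A hinj B
  exact RFSep.finite_of_finite R K L A V V' h1

theorem main (R : Type u) [CommRing R] [IsDomain R] [ValuationRing R] [Finite (PrimeSpectrum R)]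
    [IsSepClosed (FractionRing R)]
    (A : Type u) [CommRing A] [Algebra R A] [Module.Flat R A] [Algebra.FiniteType R A]
    (hred : ∀ (E : Type u) [Field E] [Algebra R E], Function.Injective (algebraMap R E) →
      IsReduced (E ⊗[R] A)) :
    Module.Finite A ↥(integralClosure A (A ⊗[R] FractionRing R)) ∧
    Algebra.FiniteType R ↥(integralClosure A (A ⊗[R] FractionRing R)) ∧
      IsReduced ((R ⧸ IsLocalRing.maximalIdeal R) ⊗[R]
        ↥(integralClosure A (A ⊗[R] FractionRing R))) := by
  have h1 : Module.Finite A (integralClosure A (A ⊗[R] FractionRing R)) :=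
    finite R A hred (A ⊗[R] FractionRing R)
  refine ⟨h1, ?_, ?_⟩
  · have h2 : Algebra.FiniteType A (integralClosure A (A ⊗[R] FractionRing R)) := inferInstance
    exact Algebra.FiniteType.trans (S := A) inferInstance h2
  · refine K667.Short.isReduced_closedFibre R (fun c hc => K442.Vals.exists_associated_pow two_ne_zero hc) A
      (FractionRing R) ?_
    have h2 := hred (FractionRing R) (IsFractionRing.injective R (FractionRing R))
    let e := Algebra.TensorProduct.comm R (FractionRing R) A
    exact isReduced_of_injective e.symm.toRingEquiv.toRingHom e.symm.injective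

end K263.RFTop
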