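import Mathlib.RingTheory.Valuation.ValuationSubring
import Mathlib.Order.Filter.Ultrafilter.Basic
import Mathlib.Order.Filter.AtTopBot.Basic

/-!
# Quasi-compactness of the Zariski-Riemann space (sets of finitely many inclusions)
-/

set_option autoImplicit false

open Filter

namespace K263.RZCpt

variable {Ω : Type*} [Field Ω]

/-- the limit of a family of valuation rings along an ultrafilter -/
def lim {ι : Type*} (𝒰 : Ultrafilter ι) (W : ι → ValuationSubring Ω) : ValuationSubring Ω where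
  carrier := {x | ∀ᶠ i in 𝒰, x ∈ W i}
  mul_mem' := by
    intro a b ha hb
    filter_upwards [ha, hb] with i h1 h2
    exact mul_mem h1 h2
  one_mem' := Eventually.of_forall fun i => one_mem (W i)
  add_mem' := by
    intro a b ha hb
    filter_upwards [ha, hb] with i h1 h2
    exact add_mem h1 h2
  zero_mem' := Eventually.of_forall fun i => zero_mem (W i)
  neg_mem' := by
    intro a ha
    filter_upwards [ha] with i h1
    exact neg_mem h1
  mem_or_inv_mem' := by
    intro x
    have h : ∀ᶠ i in 𝒰, x ∈ W i ∨ x⁻¹ ∈ W i := Eventually.of_forall fun i => (W i).mem_or_inv_mem x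
    exact Ultrafilter.eventually_or.1 h

theorem mem_lim {ι : Type*} (𝒰 : Ultrafilter ι) (W : ι → ValuationSubring Ω) (x : Ω) :
    x ∈ lim 𝒰 W ↔ ∀ᶠ i in 𝒰, x ∈ W i := Iff.rfl

/-- **Quasi-compactness.** If for every valuation ring `V` containing `A` a finite subset `T V` of `V` is given, then
finitely many `V` suffice: every valuation ring containing `A` contains one of these finite subsets. -/
theorem exists_finset (A : Set Ω) (T : {V : ValuationSubring Ω // A ⊆ V} → Finset Ω)
    (hT : ∀ V, (T V : Set Ω) ⊆ V.1) :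
    ∃ F : Finset {V : ValuationSubring Ω // A ⊆ V}, ∀ W : ValuationSubring Ω, A ⊆ W → ∃ V ∈ F, (T V : Set Ω) ⊆ W := by
  classical
  by_contra hcon
  push Not at hcon
  choose W hAW hW using hcon
  let 𝒰 : Ultrafilter (Finset {V : ValuationSubring Ω // A ⊆ V}) := Ultrafilter.of atTop
  have hle : (𝒰 : Filter (Finset {V : ValuationSubring Ω // A ⊆ V})) ≤ atTop := Ultrafilter.of_le atTop
  have hA : A ⊆ lim 𝒰 W := fun x hx => Eventually.of_forall fun F => hAW F hx
  have h1 : ∀ᶠ F in (𝒰 : Filter (Finset {V : ValuationSubring Ω // A ⊆ V})), (T ⟨lim 𝒰 W, hA⟩ : Set Ω) ⊆ W F := by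
    have : ∀ᶠ F in (𝒰 : Filter _), ∀ x ∈ T ⟨lim 𝒰 W, hA⟩, x ∈ W F := by
      rw [Filter.eventually_all_finset]
      intro x hx
      exact hT ⟨lim 𝒰 W, hA⟩ hx
    exact this
  have h2' : ∀ᶠ F : Finset {V : ValuationSubring Ω // A ⊆ V} in atTop,
      (⟨lim 𝒰 W, hA⟩ : {V : ValuationSubring Ω // A ⊆ V}) ∈ F :=
    mem_atTop_sets.2 ⟨{⟨lim 𝒰 W, hA⟩}, fun F hF => hF (Finset.mem_singleton_self _)⟩
  have h2 : ∀ᶠ F in (𝒰 : Filter (Finset {V : ValuationSubring Ω // A ⊆ V})),
      (⟨lim 𝒰 W, hA⟩ : {V : ValuationSubring Ω // A ⊆ V}) ∈ F := hle h2'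
  obtain ⟨F, hF1, hF2⟩ := (h1.and h2).exists
  exact hW F _ hF2 hF1

end K263.RZCpt
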