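import Mathlib.AlgebraicGeometry.ValuativeCriterion
import Mathlib.AlgebraicGeometry.FunctionField
import Mathlib.RingTheory.Valuation.LocalSubring
import Groth.Agent.S0384
import Groth.Agent.CycB.ImageInt
import Groth.Agent.FlatMor.K263.RZCpt

/-!
# The Zariski-Riemann argument

`S` integral, quasi-compact and quasi-separated, `ω : Spec Ω ⟶ S` dominant, `Ω` a field.  Let `P` be a property of
integral `S`-schemes stable under dominant base change.  If every valuation ring `V` of `Ω` with a centre on `S` has a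
centre on some integral `S`-scheme `T` of finite type through which `ω` factors dominantly, with `P T`, then there is an
integral proper `S`-scheme `S'` through which `ω` factors dominantly, covered by opens having `P`.
-/

set_option autoImplicit false
universe u

open CategoryTheory AlgebraicGeometry Limits TopologicalSpace

namespace K263.RZ

variable {S : Scheme.{u}} {Ω : Type u} [Field Ω]

/-- the generic point of a valuation ring -/
noncomputable abbrev gen (V : ValuationSubring Ω) : Spec (CommRingCat.of Ω) ⟶ Spec (CommRingCat.of V) :=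
  Spec.map (CommRingCat.ofHom V.subtype)

instance (V : ValuationSubring Ω) : IsDominant (gen V) := by
  rw [isDominant_iff]
  have h : Function.Injective (V.subtype : V →+* Ω) := Subtype.val_injective
  exact (PrimeSpectrum.denseRange_comap_iff_ker_le_nilRadical V.subtype).2
    (by rw [(RingHom.injective_iff_ker_eq_bot _).1 h]; exact bot_le)

/-- a homomorphism to the field with values in the valuation ring -/
theorem exists_lift {B : CommRingCat.{u}} (β : B ⟶ CommRingCat.of Ω) (V : ValuationSubring Ω)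
    (h : ∀ b, β.hom b ∈ V) : ∃ δ : B ⟶ CommRingCat.of V, δ ≫ CommRingCat.ofHom V.subtype = β := by
  refine ⟨CommRingCat.ofHom (β.hom.codRestrict V.toSubring h), ?_⟩
  ext b
  rfl

/-- the range of a homomorphism of finite type is determined by finitely many elements -/
theorem range_subset {A B : CommRingCat.{u}} (a : A ⟶ B) (ha : a.hom.FiniteType) (β : B ⟶ CommRingCat.of Ω) :
    ∃ T : Finset Ω, (∀ x ∈ T, ∃ b, β.hom b = x) ∧ ∀ V : ValuationSubring Ω, (∀ x : A, (a ≫ β).hom x ∈ V) →
      (T : Set Ω) ⊆ V → ∀ b, β.hom b ∈ V := by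
  classical
  let _ := a.hom.toAlgebra
  obtain ⟨G, hG⟩ := (show Algebra.FiniteType A B from ha).out
  refine ⟨G.image β.hom, ?_, ?_⟩
  · intro x hx
    obtain ⟨b, -, hb⟩ := Finset.mem_image.1 hx
    exact ⟨b, hb⟩
  · intro V hV hT b
    have hb : b ∈ Algebra.adjoin A (G : Set B) := by rw [hG]; trivial
    induction hb using Algebra.adjoin_induction with
    | mem x hx => exact hT (by simpa using ⟨x, hx, rfl⟩)
    | algebraMap r => exact hV r
    | add x y _ _ hx hy => rw [map_add]; exact add_mem hx hy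
    | mul x y _ _ hx hy => rw [map_mul]; exact mul_mem hx hy

variable (ω : Spec (CommRingCat.of Ω) ⟶ S) (P : ∀ (T : Scheme.{u}) [IsIntegral T], (T ⟶ S) → Prop)

/-- a model: an integral affine scheme of finite type over `S` through which `ω` factors dominantly -/
structure Chart where
  B : CommRingCat.{u}
  int : IsIntegral (Spec B)
  t : Spec B ⟶ S
  ft : LocallyOfFiniteType t
  β : B ⟶ CommRingCat.of Ω
  dom : IsDominant (Spec.map β)
  w : Spec.map β ≫ t = ω
  prop : P (Spec B) t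

/-- the valuation ring has a centre on the chart, compatible with its centre on `S` -/
def Chart.Centred {ω : Spec (CommRingCat.of Ω) ⟶ S} {P : ∀ (T : Scheme.{u}) [IsIntegral T], (T ⟶ S) → Prop}
    (χ : Chart ω P) (V : ValuationSubring Ω) (c : Spec (CommRingCat.of V) ⟶ S) : Prop :=
  ∃ δ : χ.B ⟶ CommRingCat.of V, δ ≫ CommRingCat.ofHom V.subtype = χ.β ∧ Spec.map δ ≫ χ.t = c

/-- a morphism into an affine open is determined generically -/
theorem hom_ext_affine (V : ValuationSubring Ω) {A : CommRingCat.{u}} (a b : Spec (CommRingCat.of V) ⟶ Spec A)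
    (h : gen V ≫ a = gen V ≫ b) : a = b := by
  obtain ⟨a, rfl⟩ := Spec.map_surjective a
  obtain ⟨b, rfl⟩ := Spec.map_surjective b
  rw [← Spec.map_comp, ← Spec.map_comp] at h
  have h2 := Spec.map_injective h
  congr 1
  ext x
  exact congrArg (fun f => f.hom x) h2

section Local

variable {ω P}

/-- the local step: a model with a centre contains a chart over a given affine open containing the centre on `S` -/
theorem exists_chart (hP : ∀ {T T' : Scheme.{u}} [IsIntegral T] [IsIntegral T'] (h : T' ⟶ T) [IsDominant h] (t : T ⟶ S),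
      P T t → P T' (h ≫ t)) {U : S.Opens} (hU : IsAffineOpen U) (α : Γ(S, U) ⟶ CommRingCat.of Ω)
    (hα : Spec.map α ≫ hU.fromSpec = ω) (V : ValuationSubring Ω)
    (hV : ∀ a, α.hom a ∈ V)
    (hloc : ∀ (c : Spec (CommRingCat.of V) ⟶ S), gen V ≫ c = ω →
      ∃ (T : Scheme.{u}) (_ : IsIntegral T) (t : T ⟶ S) (o : Spec (CommRingCat.of Ω) ⟶ T)
        (d : Spec (CommRingCat.of V) ⟶ T), LocallyOfFiniteType t ∧ IsDominant o ∧ gen V ≫ d = o ∧ d ≫ t = c ∧ P T t) :
    ∃ (χ : Chart ω P) (F : Finset Ω), (F : Set Ω) ⊆ V ∧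
      ∀ W : ValuationSubring Ω, (F : Set Ω) ⊆ W → (∀ a, α.hom a ∈ W) → ∀ (γ : Γ(S, U) ⟶ CommRingCat.of W),
        γ ≫ CommRingCat.ofHom W.subtype = α → χ.Centred W (Spec.map γ ≫ hU.fromSpec) := by
  obtain ⟨γ₀, hγ₀⟩ := exists_lift α V hV
  have hc : gen V ≫ Spec.map γ₀ ≫ hU.fromSpec = ω := by
    rw [gen, ← Category.assoc, ← Spec.map_comp, hγ₀, hα]
  obtain ⟨T, _, t, o, d, h1, h2, h3, h4, h5⟩ := hloc _ hc
  -- a small affine open around the centre
  let x : T := d (IsLocalRing.closedPoint V)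
  have hx : x ∈ t ⁻¹ᵁ U := by
    have : t x ∈ U := by
      have e : t x = (d ≫ t) (IsLocalRing.closedPoint V) := rfl
      rw [e, h4]
      have := (hU.range_fromSpec).le ⟨Spec.map γ₀ (IsLocalRing.closedPoint V), rfl⟩
      exact this
    exact this
  obtain ⟨_, ⟨W₀, hW₀, rfl⟩, hxW, hWU⟩ := T.isBasis_affineOpens.exists_subset_of_mem_open hx (t ⁻¹ᵁ U).2
  have hWU' : W₀ ≤ t ⁻¹ᵁ U := hWU
  have hne : Nonempty (Spec Γ(T, W₀)) := by
    have : Nonempty W₀ := ⟨⟨x, hxW⟩⟩
    exact ⟨hW₀.isoSpec.hom ⟨x, hxW⟩⟩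
  have hint : IsIntegral (Spec Γ(T, W₀)) := isIntegral_of_isOpenImmersion hW₀.fromSpec
  have hdr : Set.range d ⊆ Set.range hW₀.fromSpec := by
    rw [hW₀.range_fromSpec]
    rintro _ ⟨y, rfl⟩
    have hs : d y ⤳ x := (IsLocalRing.specializes_closedPoint y).map d.continuous
    exact hs.mem_open W₀.2 hxW
  let d' : Spec (CommRingCat.of V) ⟶ Spec Γ(T, W₀) := IsOpenImmersion.lift hW₀.fromSpec d hdr
  have hd' : d' ≫ hW₀.fromSpec = d := IsOpenImmersion.lift_fac _ _ _
  obtain ⟨δ, hδ⟩ := Spec.map_surjective d'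
  let β : Γ(T, W₀) ⟶ CommRingCat.of Ω := δ ≫ CommRingCat.ofHom V.subtype
  have hβ : Spec.map β ≫ hW₀.fromSpec = o := by
    rw [Spec.map_comp, hδ, Category.assoc, hd', h3]
  have hdomβ : IsDominant (Spec.map β) := by
    have hd : IsDominant (Spec.map β ≫ hW₀.fromSpec) := by rw [hβ]; exact h2
    constructor
    have hd' := hd.denseRange
    have he : Topology.IsOpenEmbedding hW₀.fromSpec := hW₀.fromSpec.isOpenEmbedding
    intro y
    rw [mem_closure_iff]
    intro O hO hy
    obtain ⟨z, hz1, w, hw⟩ := mem_closure_iff.1 (hd' (hW₀.fromSpec y)) (hW₀.fromSpec '' O)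
      (he.isOpenMap _ hO) ⟨y, hy, rfl⟩
    obtain ⟨y', hy', rfl⟩ := hz1
    have : Spec.map β w = y' := he.injective (by rw [← hw]; rfl)
    exact ⟨y', hy', w, this⟩
  have hdomW : IsDominant hW₀.fromSpec := by
    have : IsDominant (Spec.map β ≫ hW₀.fromSpec) := by rw [hβ]; exact h2
    exact IsDominant.of_comp (Spec.map β) hW₀.fromSpec
  -- the compatibility of the rings
  have hcomp : t.appLE U W₀ hWU' ≫ β = α := by
    apply Spec.map_injective
    rw [← cancel_mono hU.fromSpec, Spec.map_comp, Category.assoc, hα,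
      IsAffineOpen.SpecMap_appLE_fromSpec t hU hW₀ hWU', ← Category.assoc, hβ, ← h3, Category.assoc, h4, hc]
  have hft : (t.appLE U W₀ hWU').hom.FiniteType := LocallyOfFiniteType.finiteType_appLE t hU hW₀ hWU'
  obtain ⟨F, hF1, hF2⟩ := range_subset (t.appLE U W₀ hWU') hft β
  refine ⟨⟨Γ(T, W₀), hint, hW₀.fromSpec ≫ t, inferInstance, β, hdomβ, ?_, hP hW₀.fromSpec t h5⟩, F, ?_, ?_⟩
  · rw [← Category.assoc, hβ, ← h3, Category.assoc, h4, hc]
  · intro x hx
    obtain ⟨b, rfl⟩ := hF1 x hx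
    exact (δ.hom b).2
  · intro W hFW hW γ hγ
    obtain ⟨ε, hε⟩ := exists_lift β W (hF2 W (by rw [hcomp]; exact hW) hFW)
    refine ⟨ε, hε, ?_⟩
    have e1 : Spec.map ε ≫ hW₀.fromSpec ≫ t = (Spec.map ε ≫ Spec.map (t.appLE U W₀ hWU')) ≫ hU.fromSpec := by
      rw [Category.assoc, IsAffineOpen.SpecMap_appLE_fromSpec t hU hW₀ hWU']
    change Spec.map ε ≫ hW₀.fromSpec ≫ t = _
    rw [e1]
    congr 1
    apply hom_ext_affine
    rw [gen, ← Spec.map_comp, ← Spec.map_comp, ← Spec.map_comp, hγ, Category.assoc, hε, hcomp]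

end Local

variable {ω P}

/-- the point of `Spec Ω` lies over every non-empty open -/
theorem mem_of_isDominant {T : Scheme.{u}} (o : Spec (CommRingCat.of Ω) ⟶ T) [IsDominant o] {U : T.Opens} {x : T}
    (hx : x ∈ U) (y : Spec (CommRingCat.of Ω)) : o y ∈ U := by
  obtain ⟨z, hz1, w, rfl⟩ := mem_closure_iff.1 (o.denseRange x) U U.2 hx
  rwa [Subsingleton.elim y w]

/-- **Finitely many charts suffice.** -/
theorem exists_charts [CompactSpace S] [IsDominant ω]
    (hP : ∀ {T T' : Scheme.{u}} [IsIntegral T] [IsIntegral T'] (h : T' ⟶ T) [IsDominant h] (t : T ⟶ S),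
      P T t → P T' (h ≫ t))
    (hloc : ∀ (V : ValuationSubring Ω) (c : Spec (CommRingCat.of V) ⟶ S), gen V ≫ c = ω →
      ∃ (T : Scheme.{u}) (_ : IsIntegral T) (t : T ⟶ S) (o : Spec (CommRingCat.of Ω) ⟶ T)
        (d : Spec (CommRingCat.of V) ⟶ T), LocallyOfFiniteType t ∧ IsDominant o ∧ gen V ≫ d = o ∧ d ≫ t = c ∧ P T t) :
    ∃ (ι : Type u) (_ : Finite ι) (χ : ι → Chart ω P), ∀ (V : ValuationSubring Ω) (c : Spec (CommRingCat.of V) ⟶ S),
      gen V ≫ c = ω → ∃ i, (χ i).Centred V c := by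
  classical
  -- a finite affine cover
  have h1 : ∀ x : S, ∃ U : S.Opens, IsAffineOpen U ∧ x ∈ U := by
    intro x
    obtain ⟨_, ⟨U, hU, rfl⟩, hxU, -⟩ := S.isBasis_affineOpens.exists_subset_of_mem_open (Set.mem_univ x) isOpen_univ
    exact ⟨U, hU, hxU⟩
  choose U hU hxU using h1
  obtain ⟨t, ht⟩ := isCompact_univ.elim_nhds_subcover (fun x => (U x : Set S)) (fun x _ => (U x).2.mem_nhds (hxU x))
  -- the ring homomorphisms to `Ω`
  have h2 : ∀ x : S, ∃ α : Γ(S, U x) ⟶ CommRingCat.of Ω, Spec.map α ≫ (hU x).fromSpec = ω := by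
    intro x
    have hr : Set.range ω ⊆ Set.range (hU x).fromSpec := by
      rw [(hU x).range_fromSpec]
      rintro _ ⟨y, rfl⟩
      exact mem_of_isDominant ω (hxU x) y
    obtain ⟨α, hα⟩ := Spec.map_surjective (IsOpenImmersion.lift (hU x).fromSpec ω hr)
    exact ⟨α, by rw [hα, IsOpenImmersion.lift_fac]⟩
  choose α hα using h2
  have h3 : ∀ (x : S) (V : {V : ValuationSubring Ω // Set.range (α x).hom ⊆ V}),
      ∃ (χ : Chart ω P) (F : Finset Ω), (F : Set Ω) ⊆ V.1 ∧
      ∀ W : ValuationSubring Ω, (F : Set Ω) ⊆ W → (∀ a, (α x).hom a ∈ W) → ∀ (γ : Γ(S, U x) ⟶ CommRingCat.of W),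
        γ ≫ CommRingCat.ofHom W.subtype = α x → χ.Centred W (Spec.map γ ≫ (hU x).fromSpec) := fun x V =>
    exists_chart hP (hU x) (α x) (hα x) V.1 (fun a => V.2 ⟨a, rfl⟩) (hloc V.1)
  choose χ F hF1 hF2 using h3
  have h4 : ∀ x : S, ∃ G : Finset {V : ValuationSubring Ω // Set.range (α x).hom ⊆ V},
      ∀ W : ValuationSubring Ω, Set.range (α x).hom ⊆ W → ∃ V ∈ G, (F x V : Set Ω) ⊆ W := fun x =>
    RZCpt.exists_finset (Set.range (α x).hom) (F x) (hF1 x)
  choose G hG using h4
  refine ⟨Σ x : {x : S // x ∈ t}, {V // V ∈ G x.1}, inferInstance, fun i => χ i.1.1 i.2.1, ?_⟩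
  intro V c hc
  obtain ⟨x, hxt, hx⟩ : ∃ x ∈ t, c (IsLocalRing.closedPoint V) ∈ U x := by
    have := ht.2 (Set.mem_univ (c (IsLocalRing.closedPoint V)))
    simpa using this
  have hcr : Set.range c ⊆ Set.range (hU x).fromSpec := by
    rw [(hU x).range_fromSpec]
    rintro _ ⟨y, rfl⟩
    have hs : c y ⤳ c (IsLocalRing.closedPoint V) := (IsLocalRing.specializes_closedPoint y).map c.continuous
    exact hs.mem_open (U x).2 hx
  obtain ⟨γ, hγ⟩ := Spec.map_surjective (IsOpenImmersion.lift (hU x).fromSpec c hcr)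
  have hγc : Spec.map γ ≫ (hU x).fromSpec = c := by rw [hγ, IsOpenImmersion.lift_fac]
  have hγα : γ ≫ CommRingCat.ofHom V.subtype = α x := by
    apply Spec.map_injective
    rw [← cancel_mono (hU x).fromSpec, Spec.map_comp, Category.assoc, hγc, hα, ← hc]
  have hmem : ∀ a, (α x).hom a ∈ V := by
    intro a
    rw [← hγα]
    exact (γ.hom a).2
  obtain ⟨V', hV', hFV⟩ := hG x V (by rintro _ ⟨a, rfl⟩; exact hmem a)
  refine ⟨⟨⟨x, hxt⟩, ⟨V', hV'⟩⟩, ?_⟩
  rw [← hγc]
  exact hF2 x V' V hFV hmem γ hγα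

/-- valuation rings centred at a given point -/
theorem exists_centre {T : Scheme.{u}} (o : Spec (CommRingCat.of Ω) ⟶ T) [IsIntegral T] [IsDominant o] (x : T) :
    ∃ (V : ValuationSubring Ω) (d : Spec (CommRingCat.of V) ⟶ T), gen V ≫ d = o ∧ d (IsLocalRing.closedPoint V) = x := by
  -- the point of `Spec Ω` factors through the local ring
  obtain ⟨f, hf⟩ : ∃ f : T.presheaf.stalk x ⟶ CommRingCat.of Ω, Spec.map f ≫ T.fromSpecStalk x = o := by
    let y : Spec (CommRingCat.of Ω) := IsLocalRing.closedPoint Ω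
    have hs : o y ⤳ x := by
      rw [specializes_iff_forall_open]
      intro O hO hx
      exact mem_of_isDominant o (U := ⟨O, hO⟩) hx y
    refine ⟨T.presheaf.stalkSpecializes hs ≫ Scheme.stalkClosedPointTo o, ?_⟩
    rw [Spec.map_comp, Category.assoc, Scheme.SpecMap_stalkSpecializes_fromSpecStalk]
    exact Scheme.Spec_stalkClosedPointTo_fromSpecStalk o
  obtain ⟨V, hV, hloc⟩ := IsLocalRing.exists_factor_valuationRing f.hom
  let φ : T.presheaf.stalk x →+* V := f.hom.codRestrict V.toSubring hV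
  have hφ : IsLocalHom φ := hloc
  refine ⟨V, Spec.map (CommRingCat.ofHom φ) ≫ T.fromSpecStalk x, ?_, ?_⟩
  · rw [gen, ← Category.assoc, ← Spec.map_comp, ← hf]
    congr 1
  · rw [Scheme.Hom.comp_apply]
    have : Spec.map (CommRingCat.ofHom φ) (IsLocalRing.closedPoint V) =
        IsLocalRing.closedPoint (T.presheaf.stalk x) :=
      IsLocalRing.comap_closedPoint φ
    rw [this, Scheme.fromSpecStalk_closedPoint]

/-- an integral proper scheme dominating finitely many given ones -/
theorem exists_dominating [IsIntegral S] [QuasiSeparatedSpace S] [IsDominant ω] {ι : Type u} (Y : ι → Scheme.{u})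
    (q : ∀ i, Y i ⟶ S) [∀ i, IsProper (q i)] (o : ∀ i, Spec (CommRingCat.of Ω) ⟶ Y i) (ho : ∀ i, o i ≫ q i = ω)
    (s : Finset ι) :
    ∃ (S' : Scheme.{u}) (_ : IsIntegral S') (g : S' ⟶ S) (o' : Spec (CommRingCat.of Ω) ⟶ S')
      (h : ∀ i, i ∈ s → (S' ⟶ Y i)), IsProper g ∧ IsDominant o' ∧ o' ≫ g = ω ∧
        (∀ i hi, h i hi ≫ q i = g) ∧ ∀ i hi, o' ≫ h i hi = o i := by
  classical
  induction s using Finset.induction_on with
  | empty =>
    exact ⟨S, inferInstance, 𝟙 S, ω, fun i hi => absurd hi (Finset.notMem_empty i), inferInstance, inferInstance,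
      Category.comp_id _, fun i hi => absurd hi (Finset.notMem_empty i),
      fun i hi => absurd hi (Finset.notMem_empty i)⟩
  | insert j s hj ih =>
    obtain ⟨S₁, _, g, o', h, h1, h2, h3, h4, h5⟩ := ih
    let r : Spec (CommRingCat.of Ω) ⟶ pullback g (q j) := pullback.lift o' (o j) (by rw [h3, ho])
    have hqs : QuasiSeparatedSpace ↥(pullback g (q j)) :=
      quasiSeparatedSpace_of_quasiSeparated (pullback.fst g (q j) ≫ g)
    have hrint : IsIntegral r.image := Groth.Agent.CycB.ImageInt.isIntegral_image r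
    have e1 : r.toImage ≫ r.imageι = r := r.toImage_imageι
    have hmem : ∀ i, i ∈ insert j s → i ≠ j → i ∈ s := fun i hi hne => (Finset.mem_insert.1 hi).resolve_left hne
    refine ⟨r.image, hrint, r.imageι ≫ pullback.fst g (q j) ≫ g, r.toImage, fun i hi =>
      if hij : i = j then r.imageι ≫ pullback.snd g (q j) ≫ eqToHom (by rw [hij]) else
        r.imageι ≫ pullback.fst g (q j) ≫ h i (hmem i hi hij), ?_, ?_, ?_, ?_, ?_⟩
    · infer_instance
    · infer_instance
    · rw [← Category.assoc, e1, ← Category.assoc, pullback.lift_fst, h3]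
    · intro i hi
      by_cases hij : i = j
      · subst hij
        simp only [dif_pos, eqToHom_refl, Category.comp_id, Category.assoc]
        rw [← pullback.condition]
      · simp only [hij, dif_neg, not_false_iff, Category.assoc]
        rw [h4]
    · intro i hi
      by_cases hij : i = j
      · subst hij
        simp only [dif_pos, eqToHom_refl, Category.comp_id]
        rw [← Category.assoc, e1, pullback.lift_snd]
      · simp only [hij, dif_neg, not_false_iff]
        rw [← Category.assoc, e1, ← Category.assoc, pullback.lift_fst, h5]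

/-- **The Zariski-Riemann argument.** -/
theorem exists_proper [IsIntegral S] [CompactSpace S] [QuasiSeparatedSpace S] [IsDominant ω]
    (hP : ∀ {T T' : Scheme.{u}} [IsIntegral T] [IsIntegral T'] (h : T' ⟶ T) [IsDominant h] (t : T ⟶ S),
      P T t → P T' (h ≫ t))
    (hloc : ∀ (V : ValuationSubring Ω) (c : Spec (CommRingCat.of V) ⟶ S), gen V ≫ c = ω →
      ∃ (T : Scheme.{u}) (_ : IsIntegral T) (t : T ⟶ S) (o : Spec (CommRingCat.of Ω) ⟶ T)
        (d : Spec (CommRingCat.of V) ⟶ T), LocallyOfFiniteType t ∧ IsDominant o ∧ gen V ≫ d = o ∧ d ≫ t = c ∧ P T t) :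
    ∃ (S' : Scheme.{u}) (_ : IsIntegral S') (g : S' ⟶ S) (o' : Spec (CommRingCat.of Ω) ⟶ S'),
      IsProper g ∧ IsDominant o' ∧ o' ≫ g = ω ∧
        ∀ x : S', ∃ (U : S'.Opens) (_ : x ∈ U) (_ : IsIntegral U), P U (U.ι ≫ g) := by
  classical
  obtain ⟨ι, hι, χ, hχ⟩ := exists_charts hP hloc
  have hft : ∀ i, LocallyOfFiniteType (χ i).t := fun i => (χ i).ft
  have hint : ∀ i, IsIntegral (Spec (χ i).B) := fun i => (χ i).int
  have hdom : ∀ i, IsDominant (Spec.map (χ i).β) := fun i => (χ i).dom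
  have hsep : ∀ i, IsSeparated (χ i).t := fun i => by
    have : IsSeparated ((χ i).t ≫ S.toSpecΓ) := inferInstance
    exact IsSeparated.of_comp (χ i).t S.toSpecΓ
  have hcpt := fun i => Groth.Agent.S0384.result (χ i).t
  choose Y j q hj hjq hq hjw using hcpt
  cases nonempty_fintype ι
  obtain ⟨S', hS', g, o', h, h1, h2, h3, h4, h5⟩ := exists_dominating (ω := ω) Y q
    (fun i => Spec.map (χ i).β ≫ j i) (fun i => by rw [Category.assoc, hjw, (χ i).w]) Finset.univ
  refine ⟨S', hS', g, o', h1, h2, h3, ?_⟩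
  intro x
  obtain ⟨V, d, hd1, hd2⟩ := exists_centre o' x
  obtain ⟨i, δ, hδ1, hδ2⟩ := hχ V (d ≫ g) (by rw [← Category.assoc, hd1, h3])
  have hi : i ∈ Finset.univ := Finset.mem_univ i
  have hjo := hj i
  -- the two centres on the compactification agree
  have hagree : d ≫ h i hi = Spec.map δ ≫ j i := by
    refine ext_of_isDominant_of_isSeparated (q i) ?_ (gen V) ?_
    · rw [Category.assoc, h4, Category.assoc, hjw, hδ2]
    · rw [← Category.assoc, hd1, h5, ← Category.assoc, gen, ← Spec.map_comp, hδ1]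
  let U : S'.Opens := (h i hi) ⁻¹ᵁ (j i).opensRange
  have hxU : x ∈ U := by
    change h i hi x ∈ (j i).opensRange
    rw [← hd2, ← Scheme.Hom.comp_apply, hagree]
    exact ⟨Spec.map δ (IsLocalRing.closedPoint V), rfl⟩
  have hUne : Nonempty U := ⟨⟨x, hxU⟩⟩
  have hUint : IsIntegral U := isIntegral_of_isOpenImmersion U.ι
  refine ⟨U, hxU, hUint, ?_⟩
  have hr : Set.range (U.ι ≫ h i hi) ⊆ Set.range (j i) := by
    rintro _ ⟨y, rfl⟩
    exact y.2
  let l : (U : Scheme) ⟶ Spec (χ i).B := IsOpenImmersion.lift (j i) (U.ι ≫ h i hi) hr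
  have hl : l ≫ j i = U.ι ≫ h i hi := IsOpenImmersion.lift_fac _ _ _
  -- `l` is dominant
  have hor : Set.range o' ⊆ Set.range U.ι := by
    rw [Scheme.Opens.range_ι]
    rintro _ ⟨y, rfl⟩
    exact mem_of_isDominant o' hxU y
  have hldom : IsDominant l := by
    let oU : Spec (CommRingCat.of Ω) ⟶ U := IsOpenImmersion.lift U.ι o' hor
    have hoU : oU ≫ U.ι = o' := IsOpenImmersion.lift_fac _ _ _
    have e : oU ≫ l = Spec.map (χ i).β := by
      rw [← cancel_mono (j i), Category.assoc, hl, ← Category.assoc, hoU, h5]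
    have : IsDominant (oU ≫ l) := by rw [e]; infer_instance
    exact IsDominant.of_comp oU l
  have hlt : l ≫ (χ i).t = U.ι ≫ g := by
    rw [← hjw, ← Category.assoc, hl, Category.assoc, h4]
  rw [← hlt]
  exact hP l (χ i).t (χ i).prop

end K263.RZ
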