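import Groth.Agent.CurvesC.NormNagata
import Groth.Agent.S2351
import Groth.Agent.FlatMor.K263.RZ
import Groth.Agent.FlatMor.K263.AltGen

/-!
# The Zariski-Riemann argument: normal generically étale alterations of schemes of finite type over a Nagata ring
-/

set_option autoImplicit false
universe u

open CategoryTheory AlgebraicGeometry Limits TopologicalSpace

namespace K263.RZAlt

open K263.RZ

/-- the geometric generic point -/
noncomputable abbrev omega (S : Scheme.{u}) [IsIntegral S] (Ω : Type u) [Field Ω] [Algebra S.functionField Ω] :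
    Spec (CommRingCat.of Ω) ⟶ S :=
  Spec.map (CommRingCat.ofHom (algebraMap S.functionField Ω)) ≫ S.fromSpecStalk (genericPoint S)

instance isDominant_omega (S : Scheme.{u}) [IsIntegral S] (Ω : Type u) [Field Ω] [Algebra S.functionField Ω] :
    IsDominant (omega S Ω) := by
  have h1 : IsDominant (S.fromSpecStalk (genericPoint S)) := by
    constructor
    intro x
    have h2 : (genericPoint S) ∈ Set.range (S.fromSpecStalk (genericPoint S)) :=
      ⟨IsLocalRing.closedPoint _, Scheme.fromSpecStalk_closedPoint⟩
    exact closure_mono (Set.singleton_subset_iff.2 h2) (by rw [(genericPoint_spec S).def]; trivial)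
  have h3 : Surjective (Spec.map (CommRingCat.ofHom (algebraMap S.functionField Ω))) := inferInstance
  infer_instance

/-- a dominant morphism from the spectrum of a field factors through the local ring at the generic point -/
theorem exists_factor {T : Scheme.{u}} [IsIntegral T] {Ω : Type u} [Field Ω] (o : Spec (CommRingCat.of Ω) ⟶ T)
    [IsDominant o] : ∃ f : T.presheaf.stalk (genericPoint T) ⟶ CommRingCat.of Ω,
      Spec.map f ≫ T.fromSpecStalk (genericPoint T) = o := by
  let y : Spec (CommRingCat.of Ω) := IsLocalRing.closedPoint Ω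
  have hs : o y ⤳ genericPoint T := by
    rw [specializes_iff_forall_open]
    intro O hO hx
    exact mem_of_isDominant o (U := ⟨O, hO⟩) hx y
  refine ⟨T.presheaf.stalkSpecializes hs ≫ Scheme.stalkClosedPointTo o, ?_⟩
  rw [Spec.map_comp, Category.assoc, Scheme.SpecMap_stalkSpecializes_fromSpecStalk]
  exact Scheme.Spec_stalkClosedPointTo_fromSpecStalk o

/-- the normalization of an integral scheme of finite type over a Nagata ring, with a lift of the geometric generic
point -/
theorem exists_normalization (R : Type u) [CommRing R] (hR : CAlg.IsNagata R) (T : Scheme.{u}) [IsIntegral T]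
    (f : T ⟶ Spec (CommRingCat.of R)) [LocallyOfFiniteType f] {Ω : Type u} [Field Ω]
    (o : Spec (CommRingCat.of Ω) ⟶ T) [IsDominant o] :
    ∃ (W : Scheme.{u}) (_ : IsIntegral W) (ν : W ⟶ T) (o' : Spec (CommRingCat.of Ω) ⟶ W), IsFinite ν ∧ Surjective ν ∧
      Pi1.IsNormalScheme W ∧ IsDominant o' ∧ o' ≫ ν = o := by
  have hfield : IsNoetherianRing (T.presheaf.stalk (genericPoint T)) :=
    inferInstanceAs (IsNoetherianRing T.functionField)
  have hqc : QuasiCompact (T.fromSpecStalk (genericPoint T)) := by
    have : NoetherianSpace (Spec (T.presheaf.stalk (genericPoint T))) :=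
      inferInstanceAs (NoetherianSpace (PrimeSpectrum _))
    infer_instance
  have hqs : QuasiSeparated (T.fromSpecStalk (genericPoint T)) := by
    have : QuasiSeparated (T.fromSpecStalk (genericPoint T) ≫ f) := inferInstance
    exact QuasiSeparated.of_comp _ f
  obtain ⟨hint, hnorm, hsurj, hgen, hbij⟩ := Groth.Agent.S2351.result T
  have hfin := Groth.Agent.CurvesC.NormNagata.isFinite_normalizationι R hR T f
  obtain ⟨φ, hφ⟩ := exists_factor o
  let τ : Spec (T.presheaf.stalk (genericPoint T)) ⟶ Curv2.normalization T :=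
    (T.fromSpecStalk (genericPoint T)).toNormalization
  have hτ : τ ≫ Curv2.normalizationι T = T.fromSpecStalk (genericPoint T) :=
    (T.fromSpecStalk (genericPoint T)).toNormalization_fromNormalization
  refine ⟨Curv2.normalization T, hint, Curv2.normalizationι T, Spec.map φ ≫ τ, hfin, hsurj, hnorm, ?_, ?_⟩
  · have hsub : Subsingleton ↥(Spec (T.presheaf.stalk (genericPoint T))) :=
      inferInstanceAs (Subsingleton (PrimeSpectrum T.functionField))
    have h1 : Surjective (Spec.map φ) := ⟨fun x => ⟨IsLocalRing.closedPoint Ω, Subsingleton.elim _ _⟩⟩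
    have h2 : IsDominant τ := inferInstanceAs (IsDominant (T.fromSpecStalk (genericPoint T)).toNormalization)
    infer_instance
  · rw [Category.assoc, hτ, hφ]

/-- **The Zariski-Riemann argument over a Nagata ring**: a property `P` of integral `S`-schemes, stable under dominant
base change, which holds near the centre of every valuation ring of the separable closure of the function field (on
some model), holds locally on a normal generically étale alteration of `S`. -/
theorem exists_alteration (R : Type u) [CommRing R] (hR : CAlg.IsNagata R) {S : Scheme.{u}} [IsIntegral S]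
    [CompactSpace S] [QuasiSeparatedSpace S] (p : S ⟶ Spec (CommRingCat.of R)) [LocallyOfFiniteType p]
    (Ω : Type u) [Field Ω] [Algebra S.functionField Ω] [Algebra.IsSeparable S.functionField Ω]
    (P : ∀ (T : Scheme.{u}) [IsIntegral T], (T ⟶ S) → Prop)
    (hP : ∀ {T T' : Scheme.{u}} [IsIntegral T] [IsIntegral T'] (h : T' ⟶ T) [IsDominant h] (t : T ⟶ S),
      P T t → P T' (h ≫ t))
    (hloc : ∀ (V : ValuationSubring Ω) (c : Spec (CommRingCat.of V) ⟶ S), gen V ≫ c = omega S Ω →
      ∃ (T : Scheme.{u}) (_ : IsIntegral T) (t : T ⟶ S) (o : Spec (CommRingCat.of Ω) ⟶ T)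
        (d : Spec (CommRingCat.of V) ⟶ T), LocallyOfFiniteType t ∧ IsDominant o ∧ gen V ≫ d = o ∧ d ≫ t = c ∧ P T t) :
    ∃ (S' : Scheme.{u}) (_ : IsIntegral S') (g : S' ⟶ S) (V : S.Opens), Pi1.IsNormalScheme S' ∧
      Curv2.IsAlteration g ∧ (V : Set S).Nonempty ∧ Etale (g ∣_ V) ∧
        ∀ x : S', ∃ (U : S'.Opens) (_ : x ∈ U) (_ : IsIntegral U), P U (U.ι ≫ g) := by
  have hnoe : IsLocallyNoetherian S := by
    have : IsNoetherianRing R := hR.1
    exact LocallyOfFiniteType.isLocallyNoetherian p
  obtain ⟨T, hT, g, o, h1, h2, h3, h4⟩ := exists_proper hP hloc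
  obtain ⟨W, hW, ν, o', k1, k2, k3, k4, k5⟩ := exists_normalization R hR T (g ≫ p) o
  have e : o' ≫ ν ≫ g = omega S Ω := by rw [← Category.assoc, k5, h3]
  obtain ⟨V, m1, m2, m3⟩ := AltGen.exists_alteration (ν ≫ g) o' e
  refine ⟨W, hW, ν ≫ g, V, k3, m1, m2, m3, fun x => ?_⟩
  obtain ⟨U, hxU, hUint, hPU⟩ := h4 (ν x)
  let W' : W.Opens := ν ⁻¹ᵁ U
  have hne : Nonempty W' := ⟨⟨x, hxU⟩⟩
  have hint : IsIntegral W' := isIntegral_of_isOpenImmersion W'.ι
  refine ⟨W', hxU, hint, ?_⟩
  have hdom : IsDominant (ν ∣_ U) := by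
    have : Surjective (ν ∣_ U) := IsZariskiLocalAtTarget.restrict k2 U
    infer_instance
  have e2 : W'.ι ≫ ν ≫ g = (ν ∣_ U) ≫ U.ι ≫ g := by
    rw [← Category.assoc, ← Category.assoc, morphismRestrict_ι]
  rw [e2]
  exact hP (ν ∣_ U) (U.ι ≫ g) hPU

end K263.RZAlt
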