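import Groth.Agent.FlatMor.K263.RFTop
import Groth.Agent.FlatMor.K263.RFFib
import Groth.Agent.FlatMor.K263.EtaRed
import Groth.Agent.S13104
import Groth.Agent.S0437

/-!
# The reduced fibre theorem over a valuation ring of finite height with separably closed fraction field
-/

set_option autoImplicit false
universe u
open CategoryTheory AlgebraicGeometry Limits TensorProduct
open scoped nonZeroDivisors

namespace K263.ValEta

/-- flat algebras of finite type over a valuation ring are of finite presentation -/
theorem finitePresentation_of_flat (R C : Type u) [CommRing R] [IsDomain R] [ValuationRing R] [CommRing C] [Algebra R C]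
    [Algebra.FiniteType R C] [Module.Flat R C] : Algebra.FinitePresentation R C := by
  obtain ⟨n, f, hf⟩ := Algebra.FiniteType.iff_quotient_mvPolynomial''.1 ‹Algebra.FiniteType R C›
  let _ : Algebra (MvPolynomial (Fin n) R) C := f.toRingHom.toAlgebra
  have hT : IsScalarTower R (MvPolynomial (Fin n) R) C := IsScalarTower.of_algebraMap_eq fun r => (f.commutes r).symm
  have hfin : Module.Finite (MvPolynomial (Fin n) R) C := Module.Finite.of_surjective
    (Algebra.linearMap (MvPolynomial (Fin n) R) C) hf
  have hfp : Module.FinitePresentation (MvPolynomial (Fin n) R) C := Groth.Agent.S0437.result (A := R)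
  have hker := Module.FinitePresentation.fg_ker (Algebra.linearMap (MvPolynomial (Fin n) R) C) hf
  exact Algebra.FinitePresentation.of_surjective (f := f) hf hker

section

variable (R : Type u) [CommRing R] [IsDomain R] [ValuationRing R] (K : Type u) [Field K] [Algebra R K] [IsFractionRing R K]

/-- torsion-free modules over a valuation ring are flat -/
theorem flat_of_torsionFree (M : Type u) [AddCommGroup M] [Module R M]
    (h : ∀ (r : R) (m : M), r ≠ 0 → r • m = 0 → m = 0) : Module.Flat R M := by
  rw [Module.Flat.flat_iff_torsion_eq_bot_of_isBezout, eq_bot_iff]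
  rintro x ⟨⟨r, hr⟩, hx⟩
  exact h r x (nonZeroDivisors.ne_zero hr) hx

omit [IsDomain R] [ValuationRing R] in
theorem isUnit_algebraMap (A : Type u) [CommRing A] [Algebra R A] (r : R) (hr : r ≠ 0) :
    IsUnit (algebraMap R (A ⊗[R] K) r) := by
  have h1 : algebraMap R (A ⊗[R] K) r =
      (Algebra.TensorProduct.includeRight : K →ₐ[R] A ⊗[R] K) (algebraMap R K r) := by
    rw [AlgHom.commutes]
  rw [h1]
  exact (IsUnit.mk0 _ (fun h0 => hr ((map_eq_zero_iff _ (IsFractionRing.injective R K)).1 h0))).map _

omit [IsDomain R] [ValuationRing R] in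
/-- a nonzero element acts injectively on any module over the fraction field -/
theorem eq_zero_of_smul (A : Type u) [CommRing A] [Algebra R A] (r : R) (hr : r ≠ 0) (z : A ⊗[R] K)
    (h : algebraMap R (A ⊗[R] K) r * z = 0) : z = 0 := by
  exact ((isUnit_algebraMap R K A r hr).mul_right_eq_zero).1 h

/-- subalgebras of the generic fibre have reduced generic geometric fibres -/
theorem isReduced_tensor_sub (A C E : Type u) [CommRing A] [Algebra R A] [CommRing C] [Algebra R C] [Field E]
    [Algebra R E] (hE : Function.Injective (algebraMap R E)) (hred : IsReduced (E ⊗[R] A)) (f : C →ₐ[R] A ⊗[R] K)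
    (hf : Function.Injective f) : IsReduced (E ⊗[R] C) := by
  have hflat : Module.Flat R E := flat_of_torsionFree R E fun r m hr h => by
    rw [Algebra.smul_def] at h
    exact (mul_eq_zero.1 h).resolve_left fun h0 => hr ((map_eq_zero_iff _ hE).1 h0)
  have h1 : IsReduced ((E ⊗[R] A) ⊗[R] K) :=
    isReduced_localizationPreserves (Algebra.algebraMapSubmonoid (E ⊗[R] A) (nonZeroDivisors R))
      ((E ⊗[R] A) ⊗[R] K) hred
  have e := Algebra.TensorProduct.assoc R R R E A K
  have h2 : IsReduced (E ⊗[R] (A ⊗[R] K)) := isReduced_of_injective e.symm.toRingEquiv.toRingHom e.symm.injective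
  let g : E ⊗[R] C →ₐ[R] E ⊗[R] (A ⊗[R] K) := Algebra.TensorProduct.map (AlgHom.id R E) f
  have hg : Function.Injective g := by
    have := Module.Flat.lTensor_preserves_injective_linearMap (M := E) f.toLinearMap hf
    exact this
  exact isReduced_of_injective g.toRingHom hg

end

/-- the algebra of the finite modification -/
theorem exists_algebra (R : Type u) [CommRing R] [IsDomain R] [ValuationRing R] [Finite (PrimeSpectrum R)]
    [IsSepClosed (FractionRing R)] (A : Type u) [CommRing A] [Algebra R A] [Algebra.FiniteType R A]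
    (hred : ∀ (E : Type u) [Field E] [Algebra R E], Function.Injective (algebraMap R E) → IsReduced (E ⊗[R] A))
    (K : Type u) [Field K] [Algebra R K] [IsFractionRing R K] :
    ∃ (C : Type u) (_ : CommRing C) (_ : Algebra R C) (θ : A →ₐ[R] C) (ι : C →ₐ[R] A ⊗[R] K),
      θ.toRingHom.Finite ∧ Function.Injective ι ∧ (∀ a, ι (θ a) = a ⊗ₜ 1) ∧ Module.Flat R C ∧
      Algebra.FinitePresentation R C ∧ ∀ (E : Type u) [Field E] [Algebra R E], IsReduced (E ⊗[R] C) := by
  let V := A ⊗[R] K
  let j : A →ₐ[R] V := Algebra.TensorProduct.includeLeft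
  let A₁ := A ⧸ RingHom.ker j
  let j₁ : A₁ →ₐ[R] V := Ideal.kerLiftAlg j
  have hj₁ : Function.Injective j₁ := Ideal.kerLiftAlg_injective j
  let _ : Algebra A₁ V := j₁.toRingHom.toAlgebra
  have hT : IsScalarTower R A₁ V := IsScalarTower.of_algebraMap_eq fun r => (j₁.commutes r).symm
  have hflat : Module.Flat R A₁ := flat_of_torsionFree R A₁ fun r a hr h => by
    apply hj₁
    rw [map_zero]
    apply eq_zero_of_smul R K A r hr
    have h1 := congrArg j₁ h
    rw [map_smul, map_zero] at h1
    exact (Algebra.smul_def r (j₁ a)).symm.trans h1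
  have hft : Algebra.FiniteType R A₁ := Algebra.FiniteType.of_surjective (Ideal.Quotient.mkₐ R (RingHom.ker j))
    (Ideal.Quotient.mkₐ_surjective R _)
  have hred₁ : ∀ (E : Type u) [Field E] [Algebra R E], Function.Injective (algebraMap R E) → IsReduced (E ⊗[R] A₁) :=
    fun E _ _ hE => isReduced_tensor_sub R K A A₁ E hE (hred E hE) j₁ hj₁
  have hloc : IsLocalization (Algebra.algebraMapSubmonoid A₁ (nonZeroDivisors R)) V := by
    refine ⟨?_, ?_, ?_⟩
    · rintro ⟨_, r, hr, rfl⟩
      change IsUnit (algebraMap A₁ V (algebraMap R A₁ r))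
      rw [← IsScalarTower.algebraMap_apply]
      exact isUnit_algebraMap R K A r (nonZeroDivisors.ne_zero hr)
    · intro z
      obtain ⟨⟨a, ⟨_, r, hr, rfl⟩⟩, hz⟩ := IsLocalization.surj (Algebra.algebraMapSubmonoid A (nonZeroDivisors R)) z
      refine ⟨⟨Ideal.Quotient.mk _ a, ⟨_, r, hr, rfl⟩⟩, ?_⟩
      exact hz
    · intro x y hxy
      exact ⟨1, by rw [hj₁ hxy]⟩
  let C := integralClosure A₁ V
  have hfin : Module.Finite A₁ C := RFTop.finite R A₁ hred₁ V
  let θ : A →ₐ[R] C := (IsScalarTower.toAlgHom R A₁ C).comp (Ideal.Quotient.mkₐ R (RingHom.ker j))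
  let ι : C →ₐ[R] V := C.val.restrictScalars R
  have hι : Function.Injective ι := Subtype.val_injective
  have hflatC : Module.Flat R C := flat_of_torsionFree R C fun r a hr h => by
    apply hι
    rw [map_zero]
    apply eq_zero_of_smul R K A r hr
    have h1 := congrArg ι h
    rw [map_smul, map_zero] at h1
    exact (Algebra.smul_def r (ι a)).symm.trans h1
  have hftC : Algebra.FiniteType R C := by
    have h2 : Algebra.FiniteType A₁ C := inferInstance
    exact Algebra.FiniteType.trans (S := A₁) inferInstance h2
  have hVred : IsReduced V := by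
    have h1 := hred K (IsFractionRing.injective R K)
    have e := Algebra.TensorProduct.comm R K A
    exact isReduced_of_injective e.symm.toRingEquiv.toRingHom e.symm.injective
  refine ⟨C, inferInstance, inferInstance, θ, ι, ?_, hι, ?_, hflatC, finitePresentation_of_flat R C, ?_⟩
  · exact RingHom.Finite.comp (RingHom.finite_algebraMap.2 hfin)
      (RingHom.Finite.of_surjective (Ideal.Quotient.mk (RingHom.ker j)) Ideal.Quotient.mk_surjective)
  · intro a
    rfl
  · refine RFFib.isReduced_tensor R C ?_ ?_
    · intro q hq
      refine RFFib.isReduced_quotient R (fun c hc => K442.Vals.exists_associated_pow two_ne_zero hc) q C V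
        Subtype.val_injective ?_ ?_
      · intro r hr
        exact isUnit_algebraMap R K A r hr
      · rintro z ⟨c, hc⟩
        refine ⟨⟨z, ?_⟩, rfl⟩
        have h1 : IsIntegral A₁ (z ^ 2) := by
          rw [← hc]
          exact c.2
        exact IsIntegral.of_pow two_pos h1
    · intro E _ _ hE
      exact isReduced_tensor_sub R K A C E hE (hred E hE) ι hι

open K263.EtaRed in
/-- **The reduced fibre theorem over a valuation ring**, affine case. -/
theorem etaRed_SpecMap (R : Type u) [CommRing R] [IsDomain R] [ValuationRing R] [Finite (PrimeSpectrum R)]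
    [IsSepClosed (FractionRing R)] (A : Type u) [CommRing A] [Algebra R A] [Algebra.FiniteType R A]
    (hred : ∀ (E : Type u) [Field E] [Algebra R E], Function.Injective (algebraMap R E) → IsReduced (E ⊗[R] A)) :
    EtaRed (Spec.map (CommRingCat.ofHom (algebraMap R A))) := by
  let S := Spec (CommRingCat.of R)
  have hdomR : IsDomain (CommRingCat.of R) := inferInstanceAs (IsDomain R)
  let K : Type u := S.functionField
  let _ : Field K := inferInstanceAs (Field S.functionField)
  let _ : Algebra R K := (StructureSheaf.toStalk (CommRingCat.of R) (genericPoint S)).hom.toAlgebra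
  have hK : IsFractionRing R K := functionField_isFractionRing_of_affine (CommRingCat.of R)
  obtain ⟨C, _, _, θ, ι, h1, h2, h3, h4, h5, h6⟩ := exists_algebra R A hred K
  let ψ : Spec (CommRingCat.of C) ⟶ Spec (CommRingCat.of A) := Spec.map (CommRingCat.ofHom θ.toRingHom)
  have hψφ : ψ ≫ Spec.map (CommRingCat.ofHom (algebraMap R A)) = Spec.map (CommRingCat.ofHom (algebraMap R C)) := by
    rw [← Spec.map_comp, ← CommRingCat.ofHom_comp]
    congr 2
    ext r
    exact θ.commutes r
  refine ⟨Spec (CommRingCat.of C), ψ, ?_, ?_, ?_, ?_, ?_⟩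
  · exact (IsFinite.SpecMap_iff _).2 h1
  · have H : IsPullback (Spec.map (CommRingCat.ofHom (Algebra.TensorProduct.includeLeftRingHom : A →+* A ⊗[R] K)))
        (Spec.map (CommRingCat.ofHom (Algebra.TensorProduct.includeRight : K →ₐ[R] A ⊗[R] K).toRingHom))
        (Spec.map (CommRingCat.ofHom (algebraMap R A))) (S.fromSpecStalk (genericPoint S)) := by
      have h7 := isPullback_SpecMap_of_isPushout _ _ _ _ (CommRingCat.isPushout_tensorProduct R A K)
      rw [Spec.fromSpecStalk_eq']
      exact h7
    have hm := mono_fst (Spec.map (CommRingCat.ofHom (algebraMap R A)))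
    have hf := flat_fst (Spec.map (CommRingCat.ofHom (algebraMap R A)))
    let s := H.isoPullback.inv ≫ Spec.map (CommRingCat.ofHom ι.toRingHom)
    have hs : s ≫ ψ = pullback.fst (Spec.map (CommRingCat.ofHom (algebraMap R A))) (S.fromSpecStalk (genericPoint S)) := by
      have h8 : Spec.map (CommRingCat.ofHom ι.toRingHom) ≫ ψ =
          Spec.map (CommRingCat.ofHom (Algebra.TensorProduct.includeLeftRingHom : A →+* A ⊗[R] K)) := by
        rw [← Spec.map_comp, ← CommRingCat.ofHom_comp]
        congr 2
        ext a
        exact h3 a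
      rw [Category.assoc, h8, IsPullback.isoPullback_inv_fst]
    have hdom : IsSchemeTheoreticallyDominant (Spec.map (CommRingCat.ofHom ι.toRingHom)) :=
      Groth.Agent.S13104.isSchemeTheoreticallyDominant_specMap _ h2
    have hdoms : IsSchemeTheoreticallyDominant s := inferInstance
    exact isIso_snd_of_section ψ _ s hs
  · rw [hψφ, Flat.SpecMap_iff]
    exact RingHom.flat_algebraMap_iff.2 h4
  · rw [hψφ, HasRingHomProperty.Spec_iff (P := @LocallyOfFinitePresentation)]
    exact RingHom.finitePresentation_algebraMap.2 h5
  · intro E _ k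
    have key : ∀ f : Spec (CommRingCat.of C) ⟶ Spec (CommRingCat.of R),
        f = Spec.map (CommRingCat.ofHom (algebraMap R C)) → AlgebraicGeometry.IsReduced (pullback f k) := ?_
    · exact key _ hψφ
    rintro _ rfl
    obtain ⟨κ, rfl⟩ := Spec.map_surjective k
    let _ : Algebra R E := κ.hom.toAlgebra
    have h7 := h6 E
    have e := Algebra.TensorProduct.comm R C E
    have h8 : _root_.IsReduced (C ⊗[R] E) := isReduced_of_injective e.toRingEquiv.toRingHom e.injective
    have h9 : AlgebraicGeometry.IsReduced (Spec (CommRingCat.of (C ⊗[R] E))) :=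
      (affine_isReduced_iff _).2 h8
    exact isReduced_of_isOpenImmersion (pullbackSpecIso R C E).hom

/-- The spectrum of a normal domain is a normal scheme. -/
theorem isNormalScheme_spec (A : Type u) [CommRing A] [IsDomain A] [IsIntegrallyClosed A] :
    Pi1.IsNormalScheme (Spec (CommRingCat.of A)) := by
  intro x
  have hx : x.asIdeal.IsPrime := x.isPrime
  let _ : Algebra A ((Spec (CommRingCat.of A)).presheaf.stalk x) := StructureSheaf.stalkAlgebra A x
  have h1 : IsLocalization.AtPrime ((Spec (CommRingCat.of A)).presheaf.stalk x) x.asIdeal :=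
    StructureSheaf.IsLocalization.to_stalk A x
  have h2 : IsDomain ((Spec (CommRingCat.of A)).presheaf.stalk x) :=
    IsLocalization.isDomain_of_atPrime _ x.asIdeal
  exact ⟨h2, isIntegrallyClosed_of_isLocalization _ x.asIdeal.primeCompl
    x.asIdeal.primeCompl_le_nonZeroDivisors⟩

/-- the image of the spectrum of a field extension of the fraction field is the generic point -/
theorem range_specMap (A : Type u) [CommRing A] [IsDomain A] (E : Type u) [Field E] [Algebra A E]
    (h : Function.Injective (algebraMap A E)) :
    Set.range (Spec.map (CommRingCat.ofHom (algebraMap A E))) = {genericPoint (Spec (CommRingCat.of A))} := by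
  have hd : IsDomain (CommRingCat.of A) := inferInstanceAs (IsDomain A)
  rw [genericPoint_eq_bot_of_affine (CommRingCat.of A)]
  ext x
  simp only [Set.mem_range, Set.mem_singleton_iff]
  have key : ∀ y : Spec (CommRingCat.of E), Spec.map (CommRingCat.ofHom (algebraMap A E)) y = (⊥ : PrimeSpectrum A) := by
    intro y
    apply PrimeSpectrum.ext
    change Ideal.comap (algebraMap A E) y.asIdeal = ⊥
    have : y.asIdeal = ⊥ := by
      rcases Ideal.eq_bot_or_top y.asIdeal with h0 | h0
      · exact h0
      · exact absurd h0 y.2.ne_top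
    rw [this]
    exact (RingHom.injective_iff_ker_eq_bot _).1 h
  constructor
  · rintro ⟨y, rfl⟩
    exact key y
  · rintro rfl
    exact ⟨IsLocalRing.closedPoint E, key _⟩

open K263.EtaRed in
/-- affine case, in terms of schemes -/
theorem etaRed_affine (R : Type u) [CommRing R] [IsDomain R] [ValuationRing R] [Finite (PrimeSpectrum R)]
    [IsSepClosed (FractionRing R)] (B : CommRingCat.{u}) (g : Spec B ⟶ Spec (CommRingCat.of R)) [LocallyOfFiniteType g]
    (hη : ∀ (E : Type u) [Field E] (k : Spec (CommRingCat.of E) ⟶ Spec (CommRingCat.of R)),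
      Set.range k = {genericPoint (Spec (CommRingCat.of R))} → AlgebraicGeometry.IsReduced (pullback g k)) :
    EtaRed g := by
  obtain ⟨ρ, rfl⟩ := Spec.map_surjective g
  let _ : Algebra R B := ρ.hom.toAlgebra
  have hft' : ρ.hom.FiniteType := (HasRingHomProperty.Spec_iff (P := @LocallyOfFiniteType)).1 ‹_›
  have hft : Algebra.FiniteType R B := hft'
  refine etaRed_SpecMap R B fun E _ _ hE => ?_
  have h1 := hη E (Spec.map (CommRingCat.ofHom (algebraMap R E))) (range_specMap R E hE)
  have h2 : AlgebraicGeometry.IsReduced (Spec (CommRingCat.of (B ⊗[R] E))) :=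
    isReduced_of_isOpenImmersion (pullbackSpecIso R B E).inv
  have h3 : _root_.IsReduced (B ⊗[R] E) := (affine_isReduced_iff _).1 h2
  have e := Algebra.TensorProduct.comm R E B
  exact isReduced_of_injective e.toRingEquiv.toRingHom e.injective

open K263.EtaRed in
/-- **The reduced fibre theorem over a valuation ring** of finite height with separably closed fraction field. -/
theorem etaRed_val (R : Type u) [CommRing R] [IsDomain R] [ValuationRing R] [Finite (PrimeSpectrum R)]
    [IsSepClosed (FractionRing R)] {X : Scheme.{u}} (φ : X ⟶ Spec (CommRingCat.of R)) [LocallyOfFiniteType φ]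
    (hη : ∀ (E : Type u) [Field E] (k : Spec (CommRingCat.of E) ⟶ Spec (CommRingCat.of R)),
      Set.range k = {genericPoint (Spec (CommRingCat.of R))} → AlgebraicGeometry.IsReduced (pullback φ k)) :
    EtaRed φ := by
  have hic : IsIntegrallyClosed R := RFGauss.isIntegrallyClosed_of_valuationRing R
  refine of_openCover (isNormalScheme_spec R) φ X.affineCover fun i => ?_
  have hl : LocallyOfFiniteType (X.affineCover.f i ≫ φ) := inferInstance
  refine @etaRed_affine R _ _ _ _ _ _ (X.affineCover.f i ≫ φ) hl fun E _ k hk => ?_
  have h1 := hη E k hk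
  have H1 : IsPullback (pullback.snd (X.affineCover.f i) (pullback.fst φ k)) (pullback.fst _ _)
      (pullback.fst φ k) (X.affineCover.f i) := (IsPullback.of_hasPullback _ _).flip
  have H2 := H1.flip.paste_vert (IsPullback.of_hasPullback φ k)
  have h3 : AlgebraicGeometry.IsReduced (pullback (X.affineCover.f i) (pullback.fst φ k)) :=
    isReduced_of_isOpenImmersion (pullback.snd (X.affineCover.f i) (pullback.fst φ k))
  exact isReduced_of_isOpenImmersion H2.isoPullback.inv

end K263.ValEta
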